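import Cfsg.Agent.H63.SzSubCount
import Cfsg.Agent.H57.SzFixity

/-!
The subgroup theorem for the Suzuki groups: a non-solvable subgroup is a subfield subgroup.
-/

set_option autoImplicit false

universe u v

namespace H63.SzSub

open H57
open scoped Pointwise

section Embed

variable {F : Type*} [Field F] [Fintype F] {m : ℕ}
variable {K : Type*} [Field K] [Fintype K] {k : ℕ}

omit [Fintype F] in
theorem map_pow_shift (hK : Fintype.card K = 2 ^ (2 * k + 1)) (hdiv : 2 * k + 1 ∣ 2 * m + 1)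
    (ι : K →+* F) (x : K) :
    ι x ^ 2 ^ m = ι (x ^ 2 ^ k) ∧ th m (ι x) = ι (th k x) := by
  obtain ⟨j, hj⟩ := hdiv
  obtain ⟨i, rfl⟩ : ∃ i, j = 2 * i + 1 := by
    rcases Nat.even_or_odd' j with ⟨i, rfl | rfl⟩
    · exfalso
      have : 2 * m + 1 = 2 * ((2 * k + 1) * i) := by rw [hj]; ring
      omega
    · exact ⟨i, rfl⟩
  have hm : m = k + i * (2 * k + 1) := by
    have : 2 * m + 1 = 2 * (k + i * (2 * k + 1)) + 1 := by rw [hj]; ring
    omega
  have hit : ∀ n, x ^ 2 ^ (n * (2 * k + 1)) = x := by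
    intro n
    rw [mul_comm, pow_mul, ← hK]
    exact FiniteField.pow_card_pow n x
  constructor
  · rw [← map_pow, hm, pow_add, mul_comm, pow_mul, hit]
  · rw [th_def, th_def, ← map_pow, hm, show k + i * (2 * k + 1) + 1 = i * (2 * k + 1) + (k + 1) by ring,
      pow_add, pow_mul, hit]

omit [Fintype F] in
theorem map_tSL (hK : Fintype.card K = 2 ^ (2 * k + 1)) (hdiv : 2 * k + 1 ∣ 2 * m + 1)
    (ι : K →+* F) (a b : K) :
    Matrix.SpecialLinearGroup.map ι (tSL k a b) = tSL m (ι a) (ι b) := by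
  have h1 := fun x => (map_pow_shift hK hdiv ι x).2
  apply Matrix.SpecialLinearGroup.ext
  intro i j
  show ι (tMat k a b i j) = tMat m (ι a) (ι b) i j
  fin_cases i <;> fin_cases j <;>
    simp [tMat, oF, h1, map_add, map_mul, map_pow]

omit [Fintype F] in
theorem map_dSL (hK : Fintype.card K = 2 ^ (2 * k + 1)) (hdiv : 2 * k + 1 ∣ 2 * m + 1)
    (ι : K →+* F) (x : Kˣ) :
    Matrix.SpecialLinearGroup.map ι (dSL k x) = dSL m (Units.map ι.toMonoidHom x) := by
  have h1 := fun y => (map_pow_shift hK hdiv ι y).1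
  apply Matrix.SpecialLinearGroup.ext
  intro i j
  show ι (dMat k (x : K) i j) = dMat m (ι (x : K)) i j
  fin_cases i <;> fin_cases j <;>
    simp [dMat, pow_succ, h1, map_mul, map_inv₀]

theorem map_wSL (hF : Fintype.card F = 2 ^ (2 * m + 1)) (hK : Fintype.card K = 2 ^ (2 * k + 1))
    (ι : K →+* F) : Matrix.SpecialLinearGroup.map ι (wSL hK) = wSL hF := by
  apply Matrix.SpecialLinearGroup.ext
  intro i j
  show ι (Cfsg.suzukiForm K i j) = Cfsg.suzukiForm F i j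
  fin_cases i <;> fin_cases j <;> simp [Cfsg.suzukiForm]

theorem map_mem_sz (hk : 1 ≤ k) (hF : Fintype.card F = 2 ^ (2 * m + 1))
    (hK : Fintype.card K = 2 ^ (2 * k + 1)) (hdiv : 2 * k + 1 ∣ 2 * m + 1) (ι : K →+* F)
    (g : Cfsg.Sz K k) : Matrix.SpecialLinearGroup.map ι g.1 ∈ Cfsg.Sz F m := by
  have ht : ∀ a b, Matrix.SpecialLinearGroup.map ι (tEl hK a b).1 ∈ Cfsg.Sz F m := fun a b => by
    rw [show (tEl hK a b).1 = tSL k a b from rfl, map_tSL hK hdiv]; exact tSL_mem hF _ _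
  have hd : ∀ x, Matrix.SpecialLinearGroup.map ι (dEl hK x).1 ∈ Cfsg.Sz F m := fun x => by
    rw [show (dEl hK x).1 = dSL k x from rfl, map_dSL hK hdiv]; exact dSL_mem hF _
  have hw : Matrix.SpecialLinearGroup.map ι (wEl hK).1 ∈ Cfsg.Sz F m := by
    rw [show (wEl hK).1 = wSL hK from rfl, map_wSL hF hK]; exact wSL_mem hF
  rcases sz_cases hk hK g with ⟨a, b, x, rfl⟩ | ⟨a, b, c, d, x, rfl⟩
  · rw [Subgroup.coe_mul, map_mul]
    exact mul_mem (ht a b) (hd x)
  · simp only [Subgroup.coe_mul, map_mul]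
    exact mul_mem (mul_mem (ht a b) hw) (mul_mem (ht c d) (hd x))

/-- The map of Suzuki groups induced by an embedding of fields. -/
noncomputable def szMap (hk : 1 ≤ k) (hF : Fintype.card F = 2 ^ (2 * m + 1))
    (hK : Fintype.card K = 2 ^ (2 * k + 1)) (hdiv : 2 * k + 1 ∣ 2 * m + 1) (ι : K →+* F) :
    Cfsg.Sz K k →* Cfsg.Sz F m :=
  ((Matrix.SpecialLinearGroup.map ι).comp (Cfsg.Sz K k).subtype).codRestrict _
    (map_mem_sz hk hF hK hdiv ι)

theorem szMap_injective (hk : 1 ≤ k) (hF : Fintype.card F = 2 ^ (2 * m + 1))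
    (hK : Fintype.card K = 2 ^ (2 * k + 1)) (hdiv : 2 * k + 1 ∣ 2 * m + 1) (ι : K →+* F) :
    Function.Injective (szMap hk hF hK hdiv ι) := by
  intro g h e
  apply Subtype.ext
  apply Matrix.SpecialLinearGroup.ext
  intro i j
  exact ι.injective (congrArg (fun x : Cfsg.Sz F m => (x.1 : Matrix (Fin 4) (Fin 4) F) i j) e)

theorem szMap_tEl (hk : 1 ≤ k) (hF : Fintype.card F = 2 ^ (2 * m + 1))
    (hK : Fintype.card K = 2 ^ (2 * k + 1)) (hdiv : 2 * k + 1 ∣ 2 * m + 1) (ι : K →+* F) (a b : K) :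
    szMap hk hF hK hdiv ι (tEl hK a b) = tEl hF (ι a) (ι b) :=
  Subtype.ext (map_tSL hK hdiv ι a b)

theorem szMap_dEl (hk : 1 ≤ k) (hF : Fintype.card F = 2 ^ (2 * m + 1))
    (hK : Fintype.card K = 2 ^ (2 * k + 1)) (hdiv : 2 * k + 1 ∣ 2 * m + 1) (ι : K →+* F) (x : Kˣ) :
    szMap hk hF hK hdiv ι (dEl hK x) = dEl hF (Units.map ι.toMonoidHom x) :=
  Subtype.ext (map_dSL hK hdiv ι x)

theorem szMap_wEl (hk : 1 ≤ k) (hF : Fintype.card F = 2 ^ (2 * m + 1))
    (hK : Fintype.card K = 2 ^ (2 * k + 1)) (hdiv : 2 * k + 1 ∣ 2 * m + 1) (ι : K →+* F) :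
    szMap hk hF hK hdiv ι (wEl hK) = wEl hF :=
  Subtype.ext (map_wSL hF hK ι)

theorem exists_embedding (hF : Fintype.card F = 2 ^ (2 * m + 1))
    (hK : Fintype.card K = 2 ^ (2 * k + 1)) (hdiv : 2 * k + 1 ∣ 2 * m + 1) :
    Nonempty (K →+* F) := by
  haveI := charTwo (m := m) hF
  haveI := charTwo (m := k) hK
  letI : Algebra (ZMod 2) F := ZMod.algebra F 2
  letI : Algebra (ZMod 2) K := ZMod.algebra K 2
  haveI : Module.Finite (ZMod 2) F := Module.Finite.of_finite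
  haveI : Module.Finite (ZMod 2) K := Module.Finite.of_finite
  haveI : Fact (Nat.Prime 2) := ⟨Nat.prime_two⟩
  have hrk : ∀ {L : Type _} [Field L] [Fintype L] [Algebra (ZMod 2) L] [Module.Finite (ZMod 2) L]
      (n : ℕ), Fintype.card L = 2 ^ n → Module.finrank (ZMod 2) L = n := by
    intro L _ _ _ _ n hn
    have h := Module.natCard_eq_pow_finrank (K := ZMod 2) (V := L)
    rw [Nat.card_eq_fintype_card, hn, Nat.card_zmod] at h
    exact (Nat.pow_right_injective le_rfl h).symm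
  have hK' : Module.finrank (ZMod 2) K = 2 * k + 1 := by
    have h := Module.natCard_eq_pow_finrank (K := ZMod 2) (V := K)
    rw [Nat.card_eq_fintype_card, hK, Nat.card_zmod] at h
    exact (Nat.pow_right_injective le_rfl h).symm
  obtain ⟨φ⟩ := FiniteField.nonempty_algHom_of_finrank_dvd (F := ZMod 2) (K := K) (L := F)
    (by rw [hK', hrk (L := F) _ hF]; exact hdiv)
  exact ⟨φ.toRingHom⟩

end Embed

variable {F : Type u} [Field F] [Fintype F] {m : ℕ}

theorem solvable_map_iff {G : Type*} [Group G] (M : Subgroup G) (g : G) :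
    Group.IsSolvable (M.map (MulAut.conj g).toMonoidHom) → Group.IsSolvable M := by
  intro h
  exact solvable_of_solvable_injective
    (f := (M.equivMapOfInjective (MulAut.conj g).toMonoidHom (MulAut.conj g).injective).toMonoidHom) (MulEquiv.injective _)

/-- A non-solvable subgroup has an involution. -/
theorem exists_involution (hm : 1 ≤ m) (hF : Fintype.card F = 2 ^ (2 * m + 1))
    {M : Subgroup (Cfsg.Sz F m)} (hns : ¬ Group.IsSolvable M) : ∃ y ∈ M, orderOf y = 2 := by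
  haveI : Fact (Nat.Prime 2) := ⟨Nat.prime_two⟩
  by_cases h2 : 2 ∣ Nat.card M
  · obtain ⟨⟨y, hy⟩, ho⟩ := exists_prime_orderOf_dvd_card' 2 h2
    rw [Subgroup.orderOf_mk] at ho
    exact ⟨y, hy, ho⟩
  · exfalso
    by_cases hne : M = ⊥
    · exact hns (Group.isSolvable_of_comm fun a b => Subtype.ext (by
        have ha : (a : Cfsg.Sz F m) = 1 := Subgroup.mem_bot.mp (hne ▸ a.2)
        have hb : (b : Cfsg.Sz F m) = 1 := Subgroup.mem_bot.mp (hne ▸ b.2)
        rw [Subgroup.coe_mul, Subgroup.coe_mul, ha, hb]))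
    obtain ⟨U, hU, hle⟩ := odd_subgroup_in_torus hm hF h2 hne
    exact hns (Group.isSolvable_of_comm fun a b => Subtype.ext
      (comm_of_cyclic (utor_comm hm hF hU) (hle a.2) (hle b.2)))

theorem lSub_ne_bot (hm : 1 ≤ m) (hF : Fintype.card F = 2 ^ (2 * m + 1))
    {M : Subgroup (Cfsg.Sz F m)} (hns : ¬ Group.IsSolvable M) (h1 : tEl hF 0 1 ∈ M) :
    lSub hF M ≠ ⊥ := by
  intro hbot
  have hz : ∀ b ∈ zAdd hF M, b = 0 ∨ b = 1 := by
    intro b hb
    by_cases h0 : b = 0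
    · exact Or.inl h0
    · obtain ⟨k, hk, rfl⟩ := zAdd_cases hm hF (moves_of_not_solvable hm hF hns) h1 hb h0
      rw [hbot, Subgroup.mem_bot] at hk
      exact Or.inr (by rw [hk, Units.val_one, th_one, one_mul])
  haveI : Fact (Nat.Prime 2) := ⟨Nat.prime_two⟩
  let z : M := ⟨_, h1⟩
  have hzg : IsPGroup 2 (Subgroup.zpowers z) := IsPGroup.of_card (n := 1) (by
    rw [Nat.card_zpowers, pow_one, Subgroup.orderOf_mk]; exact orderOf_tEl_zero hF one_ne_zero)
  obtain ⟨P, hP⟩ := hzg.exists_le_sylow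
  obtain ⟨P', hP'⟩ := (P.isPGroup'.map M.subtype).exists_le_sylow
  obtain ⟨s, hs⟩ := MulAction.exists_smul_eq (Cfsg.Sz F m) (tSylow hm hF) P'
  have hform : ∀ x ∈ (P : Subgroup M), ∃ a b, ((x : M) : Cfsg.Sz F m) = tEl hF a b ∧ (a = 0 ∨ a = 1) := by
    intro x hx
    have hfix : ∀ y ∈ (P : Subgroup M), ((y : M) : Cfsg.Sz F m) •
        (s • Cfsg.suzukiPointInfinity F) = s • Cfsg.suzukiPointInfinity F ∧
        ((y : M) : Cfsg.Sz F m) ^ 4 = 1 := by
      intro y hy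
      have h : ((y : M) : Cfsg.Sz F m) ∈ (tSub hF).map (MulAut.conj s).toMonoidHom := by
        have := hP' ⟨y, hy, rfl⟩
        rw [← hs, Sylow.coe_subgroup_smul, coe_tSylow] at this
        exact this
      obtain ⟨a, b, hab⟩ := mem_map_conj_iff.mp h
      have hy' : ((y : M) : Cfsg.Sz F m) = s * tEl hF a b * s⁻¹ := by rw [← hab]; group
      rw [hy']
      refine ⟨by rw [mul_smul, mul_smul, inv_smul_smul, tEl_infty], ?_⟩
      rw [conj_pow, tEl_pow_four hF, mul_one, mul_inv_cancel]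
    have hs' : s • Cfsg.suzukiPointInfinity F = Cfsg.suzukiPointInfinity F :=
      tEl_unique_fixed hF (fun h => one_ne_zero ((tEl_inj hF (h.trans (tEl_zero hF).symm)).2))
        (sz_smul_mem s infty_mem) (hfix z (hP (Subgroup.mem_zpowers z))).1
    obtain ⟨hx1, hx4⟩ := hfix x hx
    rw [hs'] at hx1
    obtain ⟨a, b, hab⟩ := fix_four hm hF hx1 hx4
    refine ⟨a, b, hab, ?_⟩
    have hsq : tEl hF 0 (th m a * a) ∈ M := by
      rw [← tEl_sq hF a b, ← hab]; exact M.pow_mem x.2 2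
    rcases hz _ hsq with h | h
    · rcases mul_eq_zero.mp h with h | h
      · exact Or.inl (th_eq_zero.mp h)
      · exact Or.inl h
    · exact Or.inr (th_mul_self_eq_one hF h)
  have hzero : ∀ x ∈ (P : Subgroup M), ∀ b, ((x : M) : Cfsg.Sz F m) = tEl hF 0 b → x = 1 ∨ x = z := by
    intro x _ b hb
    rcases hz b (by rw [mem_zAdd, ← hb]; exact x.2) with h | h
    · exact Or.inl (Subtype.ext (by rw [hb, h, tEl_zero]; rfl))
    · exact Or.inr (Subtype.ext (by rw [hb, h]))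
  have hcyc : IsCyclic P := by
    rw [Subgroup.isCyclic_iff_exists_zpowers_eq_top]
    by_cases hone : ∃ u ∈ (P : Subgroup M), ∃ b, ((u : M) : Cfsg.Sz F m) = tEl hF 1 b
    · obtain ⟨u, hu, b, hub⟩ := hone
      refine ⟨u, le_antisymm ((Subgroup.zpowers_le).mpr hu) fun x hx => ?_⟩
      have hzu : z ∈ Subgroup.zpowers u := by
        have : z = u ^ 2 := Subtype.ext (by
          rw [SubmonoidClass.coe_pow, hub, tEl_sq, th_one, one_mul])
        rw [this]; exact Subgroup.npow_mem_zpowers u 2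
      obtain ⟨a, c, hac, rfl | rfl⟩ := hform x hx
      · rcases hzero x hx c hac with rfl | rfl
        · exact Subgroup.one_mem _
        · exact hzu
      · have hd : ((u⁻¹ * x : M) : Cfsg.Sz F m) =
            tEl hF 0 (b + th m 1 * 1 + c + th m 1 * 1) := by
          rw [Subgroup.coe_mul, Subgroup.coe_inv, hub, hac, tEl_inv, tEl_mul, add_self_zero hF]
        rcases hzero _ ((P : Subgroup M).mul_mem ((P : Subgroup M).inv_mem hu) hx) _ hd with h | h
        · rw [inv_mul_eq_one] at h; rw [← h]; exact Subgroup.mem_zpowers u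
        · rw [inv_mul_eq_iff_eq_mul] at h
          rw [h]
          exact Subgroup.mul_mem _ (Subgroup.mem_zpowers u) hzu
    · refine ⟨z, le_antisymm hP fun x hx => ?_⟩
      obtain ⟨a, c, hac, rfl | rfl⟩ := hform x hx
      · rcases hzero x hx c hac with rfl | rfl
        · exact Subgroup.one_mem _
        · exact Subgroup.mem_zpowers z
      · exact absurd ⟨x, hx, c, hac⟩ hone
  haveI : IsZGroup M := ⟨fun p hp Q => by
    haveI := Fact.mk hp
    by_cases hp2 : p = 2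
    · subst hp2
      haveI := hcyc
      exact (P.equiv Q).isCyclic.mp inferInstance
    · haveI := odd_pgroup_cyclic hm hF hp2 _ (Q.isPGroup'.map M.subtype)
      exact ((Q : Subgroup M).equivMapOfInjective M.subtype M.subtype_injective).isCyclic.mpr
        inferInstance⟩
  exact hns inferInstance

theorem exists_std (hm : 1 ≤ m) (hF : Fintype.card F = 2 ^ (2 * m + 1))
    {M : Subgroup (Cfsg.Sz F m)} (hns : ¬ Group.IsSolvable M) :
    ∃ g : Cfsg.Sz F m, Std hF (M.map (MulAut.conj g).toMonoidHom) := by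
  obtain ⟨y, hy, hy2⟩ := exists_involution hm hF hns
  obtain ⟨s, c, hc, hs⟩ := two_el_conj hm hF hy2
  obtain ⟨x, hx⟩ := (th_mul_self_bij (F := F) (m := m) hF).2 c⁻¹
  have hx0 : x ≠ 0 := by
    rintro rfl
    simp at hx
    exact hc hx.symm
  set g₁ := dEl hF (Units.mk0 x hx0) * s⁻¹ with hg₁
  set M₁ := M.map (MulAut.conj g₁).toMonoidHom with hM₁
  have hns₁ : ¬ Group.IsSolvable M₁ := fun h => hns (solvable_map_iff M g₁ h)
  have h1 : tEl hF 0 1 ∈ M₁ := by
    refine ⟨y, hy, ?_⟩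
    show g₁ * y * g₁⁻¹ = _
    have : g₁ * y * g₁⁻¹ = dEl hF (Units.mk0 x hx0) * (s⁻¹ * y * s) * (dEl hF (Units.mk0 x hx0))⁻¹ := by
      rw [hg₁]; group
    rw [this, hs, dEl_tEl, mul_inv_cancel_right, mul_zero, Units.val_mk0,
      show th m x * x = c⁻¹ from hx, inv_mul_cancel₀ hc]
  obtain ⟨⟨k₀, hk₀⟩, hgen⟩ := IsCyclic.exists_generator (α := lSub hF M₁)
  obtain ⟨a, b, hab⟩ := hk₀
  have hk1 : k₀ ≠ 1 := by
    intro h
    apply lSub_ne_bot hm hF hns₁ h1
    rw [Subgroup.eq_bot_iff_forall]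
    intro k hk
    obtain ⟨i, hi⟩ := hgen ⟨k, hk⟩
    have := congrArg Subtype.val hi
    simp only [SubgroupClass.coe_zpow, h, one_zpow] at this
    exact this.symm
  obtain ⟨t, ⟨u, v, rfl⟩, -, ht⟩ := td_conj_diag hm hF (M := (⊤ : Subgroup (Cfsg.Sz F m))) hk1
    (Subgroup.mem_top _) (Subgroup.mem_top (tEl hF a b))
  set g₂ := (tEl hF u v)⁻¹ with hg₂
  refine ⟨g₂ * g₁, ?_⟩
  rw [← conj_conj_map, ← hM₁]
  set M₂ := M₁.map (MulAut.conj g₂).toMonoidHom with hM₂
  have hns₂ : ¬ Group.IsSolvable M₂ := fun h => hns₁ (solvable_map_iff M₁ g₂ h)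
  have h1' : tEl hF 0 1 ∈ M₂ := by
    refine ⟨_, h1, ?_⟩
    show g₂ * tEl hF 0 1 * g₂⁻¹ = _
    rw [hg₂, inv_inv, mul_assoc, ← center_commute, inv_mul_cancel_left]
  refine ⟨moves_of_not_solvable hm hF hns₂, h1', lSub_ne_bot hm hF hns₂ h1', fun k hk => ?_⟩
  have hd : dEl hF k₀ ∈ M₂ := by
    refine ⟨_, hab, ?_⟩
    show g₂ * (tEl hF a b * dEl hF k₀) * g₂⁻¹ = _
    rw [ht, hg₂, inv_inv]
    group
  obtain ⟨a', b', hk'⟩ := hk
  have hkL : k ∈ lSub hF M₁ := by
    have hback := mem_map_conj_iff.mp hk'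
    rw [hg₂, inv_inv] at hback
    obtain ⟨p, q, hpq⟩ := td_mul hF u v a' b' 1 k
    rw [dEl_one, mul_one, one_mul] at hpq
    rw [hpq, tEl_inv, mul_assoc, dEl_tEl, ← mul_assoc, tEl_mul] at hback
    exact ⟨_, _, hback⟩
  obtain ⟨i, hi⟩ := hgen ⟨k, hkL⟩
  have hi' : k₀ ^ i = k := by simpa using congrArg Subtype.val hi
  rw [← hi', ← dHom_apply, map_zpow]
  exact M₂.zpow_mem hd i

/-- A non-solvable subgroup of a Suzuki group is conjugate to a subfield subgroup. -/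
theorem nonsolvable_classify (hm : 1 ≤ m) (hF : Fintype.card F = 2 ^ (2 * m + 1))
    {M : Subgroup (Cfsg.Sz F m)} (hns : ¬ Group.IsSolvable M) :
    ∃ (k : ℕ) (hk : 1 ≤ k) (hdiv : 2 * k + 1 ∣ 2 * m + 1),
      ∀ (K : Type v) [Field K] [Fintype K] (hK : Fintype.card K = 2 ^ (2 * k + 1)) (ι : K →+* F),
        ∃ g : Cfsg.Sz F m,
          M = (szMap hk hF hK hdiv ι).range.map (MulAut.conj g).toMonoidHom := by
  obtain ⟨g, hS⟩ := exists_std hm hF hns
  obtain ⟨f, hf3, hfo, hfd, hcz, hz, hl⟩ := exists_degree hm hF hS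
  obtain ⟨k, rfl⟩ := hfo
  refine ⟨k, by omega, hfd, fun K _ _ hK ι => ⟨g⁻¹, ?_⟩⟩
  set M' := M.map (MulAut.conj g).toMonoidHom with hM'
  suffices hMR : M' = (szMap (show 1 ≤ k by omega) hF hK hfd ι).range by
    rw [← hMR, hM', conj_conj_map, inv_mul_cancel, conj_one_map]
  have hKf : ∀ x : K, InK (2 * k + 1) (ι x) := fun x => by
    rw [InK, ← map_pow, ← hK, FiniteField.pow_card]
  have hsurj : ∀ y, InK (2 * k + 1) y → ∃ x, ι x = y := by
    intro y hy
    haveI := Fintype.ofFinite (zAdd hF M')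
    obtain ⟨x, hx⟩ := ((Fintype.bijective_iff_injective_and_card
      (fun x : K => (⟨ι x, (hz _).mpr (hKf x)⟩ : zAdd hF M'))).mpr
      ⟨fun a b h => ι.injective (congrArg Subtype.val h), by
        rw [hK, ← hcz, Nat.card_eq_fintype_card]⟩).2 ⟨y, (hz y).mpr hy⟩
    exact ⟨x, congrArg Subtype.val hx⟩
  obtain ⟨⟨l, hwl⟩, hpts⟩ := pts_eq hm hF hS
  -- the subfield contains `l`, and the unipotent part is full
  have hlam : th m (l : F) * l ≠ 0 := mul_ne_zero (mt th_eq_zero.mp l.ne_zero) l.ne_zero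
  set lam := th m (l : F) * l with hlamdef
  have hthl : th m lam ≠ 0 := mt th_eq_zero.mp hlam
  have hpoint : (wEl hF * dEl hF l * tEl hF 0 1 * (wEl hF * dEl hF l)) •
      Cfsg.suzukiPointInfinity F = ovPt m (lam / th m lam) 0 := by
    have hoF : oF m (0 : F) lam = th m lam := by simp [oF]
    simp only [mul_smul, dEl_infty, wEl_infty, tEl_ovPt_zero, dEl_ovPt, mul_zero, mul_one]
    rw [← hlamdef]
    refine Eq.trans (wSL_ovPt hF (x := (0 : F)) (y := lam) (by rw [hoF]; exact hthl)) ?_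
    rw [hoF, zero_div]
  obtain ⟨a₀, b₀, hab₀, hp₀⟩ := (hpts _ (M'.mul_mem (M'.mul_mem hwl hS.one_mem) hwl)).resolve_left
    (by rw [hpoint]; exact ovPt_ne_infty _ _)
  rw [hpoint] at hp₀
  obtain ⟨ha₀, hb₀⟩ := ovPt_inj hp₀
  obtain ⟨hKa, hKb⟩ := tEl_inK hm hF hS hz hl hab₀
  have ha0 : a₀ ≠ 0 := by rw [← ha₀]; exact div_ne_zero hlam hthl
  have hKlam : InK (2 * k + 1) lam := by
    rw [← ha₀, InK, div_pow, ← th_pow] at hKa
    have hne : lam ^ 2 ^ (2 * k + 1) ≠ 0 := pow_ne_zero _ hlam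
    have hμ : th m (lam ^ 2 ^ (2 * k + 1) / lam) = lam ^ 2 ^ (2 * k + 1) / lam := by
      rw [div_eq_div_iff (mt th_eq_zero.mp hne) hthl] at hKa
      rw [div_eq_mul_inv, th_mul, th_inv]
      field_simp
      linear_combination -hKa
    have h2 : (lam ^ 2 ^ (2 * k + 1) / lam) ^ 2 = lam ^ 2 ^ (2 * k + 1) / lam := by
      rw [← th_th hF, hμ, hμ]
    have h3 : lam ^ 2 ^ (2 * k + 1) / lam = 1 :=
      mul_left_cancel₀ (div_ne_zero hne hlam) (by rw [mul_one, ← sq, h2])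
    exact (div_eq_one_iff_eq hlam).mp h3
  have hlK : InK (2 * k + 1) (l : F) := (inK_lam_iff hF).mp hKlam
  have hw : wEl hF ∈ M' := (M'.mul_mem_cancel_right (hS.diag l ((hl l).mpr hlK))).mp hwl
  have htM : ∀ a b : K, tEl hF (ι a) (ι b) ∈ M' := fun a b =>
    tEl_full hF hS hz hl (hKf a) (hKf b) hab₀ ⟨ha0, hKa, hKb⟩
  have hdM : ∀ x : Kˣ, dEl hF (Units.map ι.toMonoidHom x) ∈ M' := fun x =>
    hS.diag _ ((hl _).mpr (hKf x))
  have htR : ∀ {a b : F}, tEl hF a b ∈ M' →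
      tEl hF a b ∈ (szMap (show 1 ≤ k by omega) hF hK hfd ι).range := by
    intro a b h
    obtain ⟨ha, hb⟩ := tEl_inK hm hF hS hz hl h
    obtain ⟨x, rfl⟩ := hsurj a ha
    obtain ⟨y, rfl⟩ := hsurj b hb
    exact ⟨tEl hK x y, szMap_tEl _ hF hK hfd ι x y⟩
  have hfixR : ∀ h ∈ M', h • Cfsg.suzukiPointInfinity F = Cfsg.suzukiPointInfinity F →
      h ∈ (szMap (show 1 ≤ k by omega) hF hK hfd ι).range := by
    intro h hh hfix
    obtain ⟨a, b, y, rfl⟩ := fix_infty hm hF h hfix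
    have hy : y ∈ lSub hF M' := ⟨a, b, hh⟩
    refine Subgroup.mul_mem _ (htR ((M'.mul_mem_cancel_right (hS.diag y hy)).mp hh)) ?_
    obtain ⟨x, hx⟩ := hsurj y ((hl y).mp hy)
    have hx0 : x ≠ 0 := fun h => y.ne_zero (by rw [← hx, h, map_zero])
    refine ⟨dEl hK (Units.mk0 x hx0), ?_⟩
    rw [szMap_dEl]
    congr 1
    exact Units.ext hx
  apply le_antisymm
  · intro h hh
    rcases hpts h hh with hfix | ⟨a, b, hab, hp⟩
    · exact hfixR h hh hfix
    · have hh' : (tEl hF a b * wEl hF)⁻¹ * h ∈ M' :=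
        M'.mul_mem (M'.inv_mem (M'.mul_mem hab hw)) hh
      have hR := hfixR _ hh' (by
        rw [mul_smul, hp, inv_smul_eq_iff, mul_smul, wEl_infty, tEl_ovPt_zero])
      rw [show h = tEl hF a b * wEl hF * ((tEl hF a b * wEl hF)⁻¹ * h) by
        rw [mul_inv_cancel_left]]
      refine Subgroup.mul_mem _ (Subgroup.mul_mem _ (htR hab) ?_) hR
      exact ⟨wEl hK, szMap_wEl _ hF hK hfd ι⟩
  · rintro _ ⟨x, rfl⟩
    rcases sz_cases (show 1 ≤ k by omega) hK x with ⟨a, b, y, rfl⟩ | ⟨a, b, c, d, y, rfl⟩ <;>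
      simp only [map_mul, szMap_tEl, szMap_dEl, szMap_wEl]
    · exact M'.mul_mem (htM a b) (hdM y)
    · exact M'.mul_mem (M'.mul_mem (htM a b) hw) (M'.mul_mem (htM c d) (hdM y))

end H63.SzSub
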