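import Cfsg.Agent.H57.SzSylow

/-!
The Borel subgroup of a Suzuki group: it is the normalizer of a Sylow 2-subgroup, it is the only
maximal subgroup containing one, and generation facts.
-/

set_option autoImplicit false
set_option linter.unusedSectionVars false
set_option linter.style.haveILetI false

namespace H63

open H57

variable {F : Type*} [Field F] [Fintype F] {m : ℕ}

/-- The stabilizer of the point at infinity. -/
def szB (hF : Fintype.card F = 2 ^ (2 * m + 1)) : Subgroup (Cfsg.Sz F m) :=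
  let _ := hF
  MulAction.stabilizer (Cfsg.Sz F m) (Cfsg.suzukiPointInfinity F)

theorem mem_szB (hF : Fintype.card F = 2 ^ (2 * m + 1)) {g : Cfsg.Sz F m} :
    g ∈ szB hF ↔ g • Cfsg.suzukiPointInfinity F = Cfsg.suzukiPointInfinity F := Iff.rfl

/-- `T` fixes only the point at infinity. -/
theorem tSub_fixed (hF : Fintype.card F = 2 ^ (2 * m + 1)) {c : F} (hc : c ≠ 0)
    {p : Projectivization F (Fin 4 → F)} (hp : p ∈ Cfsg.suzukiOvoid F m)
    (h : tEl hF 0 c • p = p) : p = Cfsg.suzukiPointInfinity F := by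
  rcases mem_ovoid.mp hp with he | ⟨x, y, rfl⟩
  · exact he
  · rw [tEl_ovPt hF] at h
    obtain ⟨-, h2⟩ := ovPt_inj h
    simp at h2
    exact absurd h2 hc

theorem tSub_le_szB (hF : Fintype.card F = 2 ^ (2 * m + 1)) : tSub hF ≤ szB (m := m) hF := by
  rintro _ ⟨a, b, rfl⟩
  exact tEl_infty hF a b

theorem dEl_mem_szB (hF : Fintype.card F = 2 ^ (2 * m + 1)) (k : Fˣ) : dEl hF k ∈ szB (m := m) hF :=
  dEl_infty hF k

theorem normalizer_tSub (hm : 1 ≤ m) (hF : Fintype.card F = 2 ^ (2 * m + 1)) :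
    Subgroup.normalizer ((tSub hF : Subgroup (Cfsg.Sz F m)) : Set (Cfsg.Sz F m)) = szB hF := by
  apply le_antisymm
  · intro g hg
    have h1 : g⁻¹ * tEl hF 0 1 * g ∈ tSub hF :=
      (Subgroup.mem_normalizer_iff''.mp hg _).mp (tEl_mem_tSub hF 0 1)
    have h2 : tEl hF 0 1 • (g • Cfsg.suzukiPointInfinity F) = g • Cfsg.suzukiPointInfinity F := by
      have h3 := tSub_le_szB hF h1
      rw [mem_szB, mul_smul, mul_smul, inv_smul_eq_iff] at h3
      exact h3
    exact tSub_fixed hF one_ne_zero (sz_smul_mem g infty_mem) h2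
  · intro g hg
    obtain ⟨a, b, k, rfl⟩ := fix_infty hm hF g hg
    refine mul_mem (Subgroup.le_normalizer (tEl_mem_tSub hF a b)) ?_
    refine Subgroup.mem_normalizer_fintype ?_
    rintro _ ⟨c, d, rfl⟩
    rw [dEl_tEl, mul_assoc, mul_inv_cancel, mul_one]
    exact tEl_mem_tSub hF _ _

theorem isPGroup_tSub (hF : Fintype.card F = 2 ^ (2 * m + 1)) : IsPGroup 2 (tSub (m := m) hF) :=
  IsPGroup.of_card (n := (2 * m + 1) * 2) (by rw [card_tSub, ← pow_mul])

/-- `T` as a Sylow 2-subgroup. -/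
noncomputable def tSylow (hm : 1 ≤ m) (hF : Fintype.card F = 2 ^ (2 * m + 1)) : Sylow 2 (Cfsg.Sz F m) :=
  (isPGroup_tSub hF).toSylow (tSub_index_odd hm hF)

theorem coe_tSylow (hm : 1 ≤ m) (hF : Fintype.card F = 2 ^ (2 * m + 1)) :
    (tSylow hm hF : Subgroup (Cfsg.Sz F m)) = tSub hF := rfl

theorem szB_ne_top (hF : Fintype.card F = 2 ^ (2 * m + 1)) : szB (m := m) hF ≠ (⊤ : Subgroup (Cfsg.Sz F m)) := by
  intro h
  have : wEl hF ∈ szB (m := m) hF := h ▸ Subgroup.mem_top _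
  rw [mem_szB, wEl_infty] at this
  exact ovPt_ne_infty 0 0 this

/-- A subgroup containing `T` and moving the point at infinity is everything. -/
theorem eq_top_of_tSub_le (hm : 1 ≤ m) (hF : Fintype.card F = 2 ^ (2 * m + 1)) (M : Subgroup (Cfsg.Sz F m))
    (hT : tSub hF ≤ M) (hM : ¬ M ≤ szB hF) : M = ⊤ := by
  obtain ⟨g, hg, hgB⟩ := SetLike.not_le_iff_exists.mp hM
  have htrans : ∀ p ∈ Cfsg.suzukiOvoid F m, ∃ h ∈ M, h • Cfsg.suzukiPointInfinity F = p := by
    intro p hp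
    rcases mem_ovoid.mp hp with rfl | ⟨x, y, rfl⟩
    · exact ⟨1, M.one_mem, one_smul _ _⟩
    · rcases mem_ovoid.mp (sz_smul_mem g (infty_mem (F := F) (m := m))) with he | ⟨u, v, he⟩
      · exact absurd he hgB
      · refine ⟨tEl hF x y * (tEl hF u v)⁻¹ * g,
          M.mul_mem (M.mul_mem (hT (tEl_mem_tSub hF x y)) (M.inv_mem (hT (tEl_mem_tSub hF u v)))) hg, ?_⟩
        rw [mul_smul, mul_smul, he, ← tEl_ovPt_zero hF u v, inv_smul_smul, tEl_ovPt_zero]
  have hnc : Subgroup.normalClosure ((tSub hF : Subgroup (Cfsg.Sz F m)) : Set (Cfsg.Sz F m)) ≤ M := by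
    rw [Subgroup.normalClosure, Subgroup.closure_le]
    intro x hx
    obtain ⟨t, ht, hconj⟩ := Group.mem_conjugatesOfSet_iff.mp hx
    obtain ⟨s, rfl⟩ := isConj_iff.mp hconj
    obtain ⟨h, hh, hhs⟩ := htrans (s • Cfsg.suzukiPointInfinity F) (sz_smul_mem s infty_mem)
    have hb : h⁻¹ * s ∈ szB hF := by rw [mem_szB, mul_smul, ← hhs, inv_smul_smul]
    rw [← normalizer_tSub hm hF] at hb
    have := hT ((Subgroup.mem_normalizer_iff.mp hb t).mp ht)
    have h2 := M.mul_mem (M.mul_mem hh this) (M.inv_mem hh)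
    simpa [mul_assoc] using h2
  haveI := sz_simple hm hF
  rcases (Subgroup.normalClosure_normal
      (s := ((tSub hF : Subgroup (Cfsg.Sz F m)) : Set (Cfsg.Sz F m)))).eq_bot_or_eq_top with h | h
  · have : tEl hF 0 (1 : F) ∈ (⊥ : Subgroup (Cfsg.Sz F m)) := h ▸ Subgroup.subset_normalClosure (tEl_mem_tSub hF 0 1)
    rw [Subgroup.mem_bot, ← tEl_zero hF] at this
    exact absurd (tEl_inj hF this).2 one_ne_zero
  · exact top_le_iff.mp (h ▸ hnc)

theorem isCoatom_szB (hm : 1 ≤ m) (hF : Fintype.card F = 2 ^ (2 * m + 1)) : IsCoatom (szB (m := m) hF) :=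
  ⟨szB_ne_top hF, fun M hM => eq_top_of_tSub_le hm hF M ((tSub_le_szB hF).trans hM.le) hM.not_ge⟩

theorem maximal_over_tSub (hm : 1 ≤ m) (hF : Fintype.card F = 2 ^ (2 * m + 1)) (M : Subgroup (Cfsg.Sz F m))
    (hM : IsCoatom M) (hT : tSub hF ≤ M) : M = szB hF := by
  have h1 : M ≤ szB hF := by
    by_contra h
    exact hM.1 (eq_top_of_tSub_le hm hF M hT h)
  by_contra hne
  exact szB_ne_top hF (hM.2 _ (lt_of_le_of_ne h1 hne))

/-- A subgroup normalised by the torus and containing some `T(a, b)` with `a ≠ 0` contains `T`. -/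
theorem tSub_le_of_dEl_invariant (hF : Fintype.card F = 2 ^ (2 * m + 1)) (M : Subgroup (Cfsg.Sz F m))
    (hD : ∀ (k : Fˣ) (x : Cfsg.Sz F m), x ∈ M → dEl hF k * x * (dEl hF k)⁻¹ ∈ M)
    {a b : F} (ha : a ≠ 0) (hab : tEl hF a b ∈ M) : tSub hF ≤ M := by
  have hfst : ∀ c : F, c ≠ 0 → ∃ d, tEl hF c d ∈ M := by
    intro c hc
    refine ⟨th m (c / a) * (c / a) * b, ?_⟩
    have h := hD (Units.mk0 (c / a) (div_ne_zero hc ha)) _ hab
    rw [dEl_tEl, mul_assoc, mul_inv_cancel, mul_one] at h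
    simpa [div_mul_cancel₀ c ha] using h
  have hsnd : ∀ d : F, tEl hF 0 d ∈ M := by
    intro d
    rcases eq_or_ne d 0 with rfl | hd
    · rw [tEl_zero]; exact M.one_mem
    obtain ⟨c, hc⟩ := (th_mul_self_bij (m := m) hF).2 d
    have hc0 : c ≠ 0 := by
      rintro rfl
      exact hd (by rw [← hc]; simp)
    obtain ⟨d', hd'⟩ := hfst c hc0
    rw [← hc]
    have := M.pow_mem hd' 2
    rwa [tEl_sq] at this
  rintro _ ⟨c, d, rfl⟩
  rcases eq_or_ne c 0 with rfl | hc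
  · exact hsnd d
  · obtain ⟨d', hd'⟩ := hfst c hc
    have := M.mul_mem hd' (hsnd (d + d'))
    rw [tEl_mul] at this
    simpa [add_comm d d', ← add_assoc, add_self_zero hF] using this

/-- The Suzuki group is generated by two elements. -/
theorem exists_two_generators (hm : 1 ≤ m) (hF : Fintype.card F = 2 ^ (2 * m + 1)) :
    ∃ a b : Cfsg.Sz F m, Subgroup.closure ({a, b} : Set (Cfsg.Sz F m)) = ⊤ := by
  obtain ⟨g, hg⟩ := IsCyclic.exists_generator (α := Fˣ)
  refine ⟨dEl hF g, wEl hF * tEl hF 1 0, ?_⟩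
  set H := Subgroup.closure ({dEl hF g, wEl hF * tEl hF 1 0} : Set (Cfsg.Sz F m))
  have hb : wEl hF * tEl hF 1 0 ∈ H := Subgroup.subset_closure (by simp)
  have hd : ∀ k, dEl hF k ∈ H := by
    intro k
    obtain ⟨j, rfl⟩ := hg k
    have := H.zpow_mem (Subgroup.subset_closure (Set.mem_insert _ _) : dEl hF g ∈ H) j
    rwa [← dHom_apply, map_zpow, dHom_apply]
  obtain ⟨k, hk⟩ := exists_ne_one (m := m) hm hF
  -- the subgroup `w H w` contains the torus and some `T(a, b)` with `a ≠ 0`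
  set H' := H.map (MulAut.conj (wEl hF)).toMonoidHom with hH'
  have hwinv : (wEl hF)⁻¹ = wEl (m := m) hF := inv_eq_of_mul_eq_one_right (wEl_mul_self hF)
  have hd' : ∀ k, dEl hF k ∈ H' := fun k => ⟨dEl hF k⁻¹, hd k⁻¹, by
    change wEl hF * dEl hF k⁻¹ * (wEl hF)⁻¹ = _
    rw [hwinv, wEl_dEl, inv_inv]⟩
  have hel : tEl hF 1 0 * dEl hF k * (tEl hF 1 0)⁻¹ ∈ H' := by
    refine ⟨(wEl hF * tEl hF 1 0) * dEl hF k * (wEl hF * tEl hF 1 0)⁻¹,
      H.mul_mem (H.mul_mem hb (hd k)) (H.inv_mem hb), ?_⟩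
    change wEl hF * (wEl hF * tEl hF 1 0 * dEl hF k * (wEl hF * tEl hF 1 0)⁻¹) * (wEl hF)⁻¹ = _
    rw [hwinv, mul_inv_rev, hwinv]
    calc _ = (wEl hF * wEl hF) * (tEl hF 1 0 * dEl hF k * (tEl hF 1 0)⁻¹) * (wEl hF * wEl hF) := by group
      _ = _ := by rw [wEl_mul_self, one_mul, mul_one]
  have hel2 := H'.mul_mem hel (H'.inv_mem (hd' k))
  have hcomm : tEl hF 1 0 * dEl hF k * (tEl hF 1 0)⁻¹ * (dEl hF k)⁻¹ =
      tEl hF (1 + (k : F)) (0 + th m (k : F) * k * (0 + th m 1 * 1) + th m 1 * k) := by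
    rw [tEl_inv, mul_assoc (tEl hF 1 0) (dEl hF k), dEl_tEl, ← mul_assoc, mul_assoc _ (dEl hF k),
      mul_inv_cancel, mul_one, tEl_mul, mul_one (k : F)]
  rw [hcomm] at hel2
  have hT' : tSub hF ≤ H' := tSub_le_of_dEl_invariant hF H'
    (fun l x hx => H'.mul_mem (H'.mul_mem (hd' l) hx) (H'.inv_mem (hd' l)))
    (fun h => hk ((add_eq_zero_iff hF).mp h).symm) hel2
  have htop : H' = ⊤ := by
    refine eq_top_of_tSub_le hm hF H' hT' fun hle => ?_
    have hmem : tEl hF 1 0 * wEl hF ∈ H' := ⟨wEl hF * tEl hF 1 0, hb, by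
      change wEl hF * (wEl hF * tEl hF 1 0) * (wEl hF)⁻¹ = _
      rw [hwinv, ← mul_assoc, wEl_mul_self, one_mul]⟩
    have := hle hmem
    rw [mem_szB, mul_smul, wEl_infty, tEl_ovPt_zero] at this
    exact ovPt_ne_infty 1 0 this
  rw [eq_top_iff]
  intro x _
  have hx : (MulAut.conj (wEl hF)).toMonoidHom x ∈ H' := htop ▸ Subgroup.mem_top _
  obtain ⟨y, hy, hyx⟩ := hx
  exact (MulAut.conj (wEl hF)).injective hyx ▸ hy

/-- An element of order four is not conjugate to its inverse. -/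
theorem not_isConj_inv_tEl (hm : 1 ≤ m) (hF : Fintype.card F = 2 ^ (2 * m + 1)) {a : F} (ha : a ≠ 0) (b : F) :
    ¬ IsConj (tEl hF a b) (tEl hF a b)⁻¹ := by
  intro h
  obtain ⟨c, hc⟩ := isConj_iff.mp h
  have hsq : th m a * a ≠ 0 := mul_ne_zero (mt th_eq_zero.mp ha) ha
  have hinv2 : (tEl hF a b)⁻¹ ^ 2 = tEl hF 0 (th m a * a) := by rw [tEl_inv, tEl_sq]
  have hc2 : c * tEl hF 0 (th m a * a) * c⁻¹ = tEl hF 0 (th m a * a) := by
    rw [← tEl_sq hF a b, ← conj_pow, hc, hinv2, tEl_sq]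
  have hcT : c ∈ tSub hF := by
    rw [← centralizer_tEl_zero hm hF hsq, Subgroup.mem_centralizer_singleton_iff]
    exact mul_inv_eq_iff_eq_mul.mp hc2
  obtain ⟨x, y, rfl⟩ := hcT
  rw [mul_inv_eq_iff_eq_mul, tEl_inv, tEl_mul, tEl_mul] at hc
  have h2 := (tEl_inj hF hc).2
  set z := x / a
  have hx : x = z * a := by rw [div_mul_cancel₀ x ha]
  have key : th m z + z = 1 := by
    apply mul_right_cancel₀ hsq
    rw [one_mul]
    rw [hx, th_mul] at h2
    clear_value z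
    linear_combination h2 + (th m a * a * z) * two_eq_zero hF
  have key2 : th m (th m z + z) = 1 := by rw [key]; simp [th]
  rw [th_add hF, th_th hF] at key2
  have hz2 : z ^ 2 = z := by linear_combination key2 - key
  rcases eq_or_ne z 0 with h0 | h0
  · rw [h0] at key; simp [th] at key
  · have hz1 : z = 1 := mul_left_cancel₀ h0 (by rw [mul_one, ← sq, hz2])
    rw [hz1] at key
    simp [th, add_self_zero hF] at key

end H63
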