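import Mathlib

/-!
Sylow 2-subgroups of finite symmetric groups are self-normalising, and so are those of
alternating groups of degree at least 6.

The proof is by induction: for degree `2m`, a Sylow 2-subgroup `T` centralises a fixed point free
involution `z`; for `m ≥ 3` the pairs `{a, z a}` are the fixed point sets of the point stabilisers
of `T ∩ A`, so are permuted by its normaliser.
-/

set_option autoImplicit false

namespace H63

open Equiv Equiv.Perm

universe u

section pairs

variable {α : Type u}

/-- Two points are related if they lie in one orbit of the involution `z`. -/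
def pairSetoid (z : Perm α) (hz : ∀ a, z (z a) = a) : Setoid α where
  r a b := b = a ∨ b = z a
  iseqv :=
    ⟨fun _ => Or.inl rfl,
      fun {a b} h => by rcases h with rfl | rfl <;> simp [hz],
      fun {a b c} h h' => by rcases h with rfl | rfl <;> rcases h' with rfl | rfl <;> simp [hz]⟩

theorem pair_commute_apply {z h : Perm α} (hh : h ∈ Subgroup.centralizer ({z} : Set (Perm α))) (a : α) :
    h (z a) = z (h a) := by
  have := Subgroup.mem_centralizer_singleton_iff.mp hh
  exact Equiv.ext_iff.mp this a

/-- The action of the centralizer of an involution `z` on the orbits of `z`. -/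
def pairHom (z : Perm α) (hz : ∀ a, z (z a) = a) :
    Subgroup.centralizer ({z} : Set (Perm α)) →* Perm (Quotient (pairSetoid z hz)) where
  toFun h :=
    { toFun := Quotient.map' (fun a => (h : Perm α) a) (fun a b hab => by
        rcases hab with rfl | rfl
        · exact Or.inl rfl
        · exact Or.inr (pair_commute_apply h.2 a))
      invFun := Quotient.map' (fun a => ((h⁻¹ : Subgroup.centralizer ({z} : Set (Perm α))) : Perm α) a)
        (fun a b hab => by
          rcases hab with rfl | rfl
          · exact Or.inl rfl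
          · exact Or.inr (pair_commute_apply (h⁻¹).2 a))
      left_inv := fun q => by
        induction q using Quotient.inductionOn' with
        | h a => simp
      right_inv := fun q => by
        induction q using Quotient.inductionOn' with
        | h a => simp }
  map_one' := by
    ext q
    induction q using Quotient.inductionOn' with
    | h a => rfl
  map_mul' g h := by
    ext q
    induction q using Quotient.inductionOn' with
    | h a => rfl

theorem mem_pairHom_ker {z : Perm α} {hz : ∀ a, z (z a) = a}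
    {h : Subgroup.centralizer ({z} : Set (Perm α))} :
    h ∈ (pairHom z hz).ker ↔ ∀ a, (h : Perm α) a = a ∨ (h : Perm α) a = z a := by
  rw [MonoidHom.mem_ker, Equiv.ext_iff]
  constructor
  · intro hh a
    have h1 : Quotient.mk'' ((h : Perm α) a) = (Quotient.mk'' a : Quotient (pairSetoid z hz)) := hh (Quotient.mk'' a)
    rcases (Quotient.eq''.mp h1) with h2 | h2
    · exact Or.inl h2.symm
    · exact Or.inr ((congrArg z h2).trans (hz _)).symm
  · intro hh q
    induction q using Quotient.inductionOn' with
    | h a =>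
      refine Quotient.eq''.mpr ?_
      rcases hh a with h2 | h2
      · exact Or.inl h2.symm
      · exact Or.inr (by simp only [h2, hz])

theorem pairHom_ker_isPGroup (z : Perm α) (hz : ∀ a, z (z a) = a) :
    IsPGroup 2 (pairHom z hz).ker := by
  intro h
  refine ⟨1, Subtype.ext (Subtype.ext (Equiv.ext fun a => ?_))⟩
  have := mem_pairHom_ker.mp h.2 a
  simp only [pow_one, pow_two, Subgroup.coe_mul, Subgroup.coe_one, Perm.mul_apply, Perm.one_apply]
  rcases this with h1 | h1
  · rw [h1, h1]
  · rw [h1, pair_commute_apply h.1.2, h1, hz]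

/-- Choosing a point in each pair identifies `α` with pairs × `Bool`. -/
theorem exists_pair_equiv (z : Perm α) (hz : ∀ a, z (z a) = a) (hfix : ∀ a, z a ≠ a) :
    ∃ e : Quotient (pairSetoid z hz) × Bool ≃ α,
      (∀ q b, e (q, !b) = z (e (q, b))) ∧ ∀ q b, Quotient.mk'' (e (q, b)) = q := by
  classical
  let f : Quotient (pairSetoid z hz) × Bool → α := fun x => bif x.2 then z x.1.out else x.1.out
  have hf : ∀ q b, Quotient.mk'' (f (q, b)) = q := by
    intro q b
    cases b
    · exact q.out_eq
    · conv_rhs => rw [← q.out_eq]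
      exact (Quotient.eq''.mpr (Or.inr rfl : (pairSetoid z hz).r q.out (z q.out))).symm
  have hinj : Function.Injective f := by
    rintro ⟨q, b⟩ ⟨q', b'⟩ h
    obtain rfl : q = q' := by
      have := congrArg (Quotient.mk'' (s₁ := pairSetoid z hz)) h
      rwa [hf, hf] at this
    cases b <;> cases b' <;> simp_all [f]
    · exact absurd h.symm (hfix _)
  have hsurj : Function.Surjective f := by
    intro a
    have h := Quotient.mk_out (s := pairSetoid z hz) a
    rcases h with h | h
    · exact ⟨(Quotient.mk (pairSetoid z hz) a, false), h.symm⟩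
    · exact ⟨(Quotient.mk (pairSetoid z hz) a, true), h.symm⟩
  refine ⟨Equiv.ofBijective f ⟨hinj, hsurj⟩, ?_, hf⟩
  intro q b
  cases b
  · rfl
  · exact (hz _).symm

theorem pairHom_surjective (z : Perm α) (hz : ∀ a, z (z a) = a) (hfix : ∀ a, z a ≠ a) :
    Function.Surjective (pairHom z hz) := by
  obtain ⟨e, he, hq⟩ := exists_pair_equiv z hz hfix
  intro σ
  let h : Perm α := e.permCongr (Equiv.prodCongr σ (Equiv.refl Bool))
  have hh : ∀ q b, h (e (q, b)) = e (σ q, b) := fun q b => by simp [h, Equiv.permCongr_apply]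
  have hc : h ∈ Subgroup.centralizer ({z} : Set (Perm α)) := by
    rw [Subgroup.mem_centralizer_singleton_iff]
    ext a
    obtain ⟨⟨q, b⟩, rfl⟩ := e.surjective a
    simp [Perm.mul_apply, ← he, hh]
  refine ⟨⟨h, hc⟩, Equiv.ext fun x => ?_⟩
  induction x using Quotient.inductionOn' with
  | h a =>
    obtain ⟨⟨q, b⟩, rfl⟩ := e.surjective a
    change Quotient.mk'' (h (e (q, b))) = _
    rw [hh, hq, hq]

theorem card_pairs [Fintype α] (z : Perm α) (hz : ∀ a, z (z a) = a) (hfix : ∀ a, z a ≠ a)
    [Fintype (Quotient (pairSetoid z hz))] :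
    2 * Fintype.card (Quotient (pairSetoid z hz)) = Fintype.card α := by
  obtain ⟨e, -, -⟩ := exists_pair_equiv z hz hfix
  rw [← Fintype.card_congr e, Fintype.card_prod, Fintype.card_bool, mul_comm]

end pairs

section sylow

variable {α : Type u} [Fintype α] [DecidableEq α]

/-- Even elements of a Sylow 2-subgroup. -/
abbrev evenPart (T : Sylow 2 (Perm α)) : Subgroup (Perm α) :=
  (T : Subgroup (Perm α)) ⊓ alternatingGroup α

theorem normalizer_le_evenPart (T : Sylow 2 (Perm α)) :
    Subgroup.normalizer ((T : Subgroup (Perm α)) : Set (Perm α)) ≤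
      Subgroup.normalizer ((evenPart T : Subgroup (Perm α)) : Set (Perm α)) := by
  intro g hg
  rw [Subgroup.mem_normalizer_iff] at hg ⊢
  intro h
  simp only [Subgroup.mem_inf, mem_alternatingGroup, map_mul, Perm.sign_inv]
  rw [mul_comm (sign g) (sign h), mul_assoc (sign h), Int.units_mul_self, mul_one]
  exact and_congr_left' (hg h)

theorem exists_pairing_of_sylow {m : ℕ} (hcard : Fintype.card α = 2 * m) (T : Sylow 2 (Perm α)) :
    ∃ z : Perm α, (∀ a, z (z a) = a) ∧ (∀ a, z a ≠ a) ∧
      (T : Subgroup (Perm α)) ≤ Subgroup.centralizer ({z} : Set (Perm α)) := by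
  classical
  obtain ⟨e⟩ : Nonempty (Fin m × Bool ≃ α) := ⟨Fintype.equivOfCardEq (by simp [hcard, mul_comm])⟩
  let z₀ : Perm α := e.permCongr (Equiv.prodCongr (Equiv.refl _) ⟨not, not, Bool.not_not, Bool.not_not⟩)
  have hz₀ : ∀ x, z₀ (e x) = e (x.1, !x.2) := fun x => by simp [z₀, Equiv.permCongr_apply, Prod.map]
  have hinv : ∀ a, z₀ (z₀ a) = a := fun a => by
    obtain ⟨x, rfl⟩ := e.surjective a; simp [hz₀]
  have hfix : ∀ a, z₀ a ≠ a := fun a => by
    obtain ⟨⟨i, b⟩, rfl⟩ := e.surjective a; simp [hz₀]
  have hsupp : z₀.support = Finset.univ := by ext a; simp [hfix]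
  have hct : z₀.cycleType = Multiset.replicate m 2 := by
    have h2 : ∀ n ∈ z₀.cycleType, n = 2 := fun n hn => by
      have h1 : n ∣ orderOf z₀ := by rw [← lcm_cycleType]; exact Multiset.dvd_lcm hn
      have h3 : orderOf z₀ ∣ 2 := orderOf_dvd_of_pow_eq_one (Equiv.ext fun a => by simp [pow_two, hinv])
      have := two_le_of_mem_cycleType hn
      have := Nat.le_of_dvd two_pos (h1.trans h3)
      omega
    have h4 := sum_cycleType z₀
    rw [Multiset.eq_replicate_card.mpr h2] at h4 ⊢
    rw [Multiset.sum_replicate, hsupp, Finset.card_univ, hcard, smul_eq_mul] at h4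
    congr 1; omega
  have hcent : Nat.card (Subgroup.centralizer ({z₀} : Set (Perm α))) = 2 ^ m * m.factorial := by
    rw [nat_card_centralizer, hct]
    rcases Nat.eq_zero_or_pos m with rfl | hm
    · simp [hcard]
    · simp [hcard, mul_comm m 2, Multiset.toFinset_replicate, hm.ne']
  obtain ⟨T₀⟩ : Nonempty (Sylow 2 (Subgroup.centralizer ({z₀} : Set (Perm α)))) := inferInstance
  set T₀' := T₀.toSubgroup.map (Subgroup.subtype _)
  have hTT : Nat.card T₀' = 2 ^ (Nat.card (Perm α)).factorization 2 := by
    rw [Subgroup.card_subtype, T₀.card_eq_multiplicity, hcent]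
    congr 1
    rw [Nat.card_perm, Nat.card_eq_fintype_card, hcard,
      Nat.factorization_mul (by positivity) (Nat.factorial_ne_zero _)]
    rw [Finsupp.add_apply, Nat.Prime.factorization_pow Nat.prime_two, Finsupp.single_eq_same,
      Nat.factorization_def _ Nat.prime_two, Nat.factorization_def _ Nat.prime_two,
      padicValNat_factorial_mul, add_comm]
  obtain ⟨g, hg⟩ := MulAction.exists_smul_eq (Perm α) (Sylow.ofCard T₀' hTT) T
  refine ⟨g * z₀ * g⁻¹, fun a => by simp [hinv], fun a h => hfix (g⁻¹ a) ?_, ?_⟩
  · exact g.injective (by simpa using h)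
  · rw [← hg]
    intro x hx
    rw [Sylow.coe_subgroup_smul, Subgroup.mem_pointwise_smul_iff_inv_smul_mem] at hx
    obtain ⟨⟨y, hy⟩, -, hyx⟩ := hx
    have hyx' : y = g⁻¹ * x * g := by simpa using hyx
    rw [Subgroup.mem_centralizer_singleton_iff] at hy ⊢
    rw [hyx'] at hy
    calc x * (g * z₀ * g⁻¹) = g * ((g⁻¹ * x * g) * z₀) * g⁻¹ := by group
      _ = g * (z₀ * (g⁻¹ * x * g)) * g⁻¹ := by rw [hy]
      _ = g * z₀ * g⁻¹ * x := by group

variable {z : Perm α} {hz : ∀ a, z (z a) = a}

theorem mem_sylow_of_pairKer {T : Sylow 2 (Perm α)}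
    (hT : (T : Subgroup (Perm α)) ≤ Subgroup.centralizer ({z} : Set (Perm α)))
    {h : Subgroup.centralizer ({z} : Set (Perm α))} (hh : h ∈ (pairHom z hz).ker) :
    (h : Perm α) ∈ (T : Subgroup (Perm α)) :=
  (pairHom_ker_isPGroup z hz).le_sylow_of_normal (T.subtype hT) hh

theorem swap_mem_centralizer (hz : ∀ a, z (z a) = a) (b : α) :
    swap b (z b) ∈ Subgroup.centralizer ({z} : Set (Perm α)) := by
  rw [Subgroup.mem_centralizer_singleton_iff]
  have hc := Equiv.mul_swap_eq_swap_mul z b (z b)
  rw [hz, swap_comm (z b) b] at hc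
  exact hc.symm

theorem swap_mem_pairKer (hz : ∀ a, z (z a) = a) (b : α) :
    (⟨swap b (z b), swap_mem_centralizer hz b⟩ : Subgroup.centralizer ({z} : Set (Perm α))) ∈
      (pairHom z hz).ker := by
  rw [mem_pairHom_ker]
  intro a
  dsimp
  rw [swap_apply_def]
  split_ifs with h1 h2
  · subst h1; exact Or.inr rfl
  · subst h2; exact Or.inr (hz b).symm
  · exact Or.inl rfl

theorem swap_mem_sylow (hz : ∀ a, z (z a) = a) {T : Sylow 2 (Perm α)}
    (hT : (T : Subgroup (Perm α)) ≤ Subgroup.centralizer ({z} : Set (Perm α))) (b : α) :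
    swap b (z b) ∈ (T : Subgroup (Perm α)) :=
  mem_sylow_of_pairKer hT (swap_mem_pairKer hz b)

theorem swap_mul_swap_mem_evenPart (hz : ∀ a, z (z a) = a) (hfix : ∀ a, z a ≠ a)
    {T : Sylow 2 (Perm α)} (hT : (T : Subgroup (Perm α)) ≤ Subgroup.centralizer ({z} : Set (Perm α)))
    (b c : α) : swap b (z b) * swap c (z c) ∈ evenPart T := by
  refine ⟨mul_mem (swap_mem_sylow hz hT b) (swap_mem_sylow hz hT c), ?_⟩
  change sign _ = 1
  rw [map_mul, Perm.sign_swap (hfix b).symm, Perm.sign_swap (hfix c).symm, Int.units_mul_self]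

theorem exists_not_mem (s : Finset α) (h : s.card < Fintype.card α) : ∃ c, c ∉ s := by
  by_contra hc
  push Not at hc
  have : Finset.univ ⊆ s := fun x _ => hc x
  have := Finset.card_le_card this
  simp at this
  omega

/-- If `|α| ≥ 6`, the only fixed points of the stabilizer of `a` in the even part are `a, z a`. -/
theorem evenPart_moves (hz : ∀ a, z (z a) = a) (hfix : ∀ a, z a ≠ a) (hcard : 6 ≤ Fintype.card α)
    {T : Sylow 2 (Perm α)} (hT : (T : Subgroup (Perm α)) ≤ Subgroup.centralizer ({z} : Set (Perm α)))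
    (a b : α) (hb : b ≠ a) (hb' : b ≠ z a) :
    ∃ s ∈ evenPart T, s a = a ∧ s b ≠ b := by
  obtain ⟨c, hc⟩ := exists_not_mem ({a, z a, b, z b} : Finset α)
    (lt_of_le_of_lt Finset.card_le_four (by omega))
  simp only [Finset.mem_insert, Finset.mem_singleton, not_or] at hc
  refine ⟨_, swap_mul_swap_mem_evenPart hz hfix hT b c, ?_, ?_⟩
  · have h1 : a ≠ c := fun h => hc.1 h.symm
    have h2 : a ≠ z c := fun h => hc.2.1 (by rw [h, hz])
    have h3 : a ≠ z b := fun h => hb' (by rw [h, hz])
    rw [Perm.mul_apply, swap_apply_of_ne_of_ne h1 h2, swap_apply_of_ne_of_ne hb.symm h3]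
  · have h1 : b ≠ c := fun h => hc.2.2.1 h.symm
    have h2 : b ≠ z c := fun h => hc.2.2.2 (by rw [h, hz])
    rw [Perm.mul_apply, swap_apply_of_ne_of_ne h1 h2, swap_apply_left]
    exact hfix b

theorem normalizer_evenPart_le_centralizer (hz : ∀ a, z (z a) = a) (hfix : ∀ a, z a ≠ a)
    (hcard : 6 ≤ Fintype.card α) {T : Sylow 2 (Perm α)}
    (hT : (T : Subgroup (Perm α)) ≤ Subgroup.centralizer ({z} : Set (Perm α))) :
    Subgroup.normalizer ((evenPart T : Subgroup (Perm α)) : Set (Perm α)) ≤
      Subgroup.centralizer ({z} : Set (Perm α)) := by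
  intro g hg
  rw [Subgroup.mem_centralizer_singleton_iff]
  ext a
  by_contra hne
  simp only [Perm.mul_apply] at hne
  have hne2 : g (z a) ≠ g a := fun h => hfix a (g.injective h)
  obtain ⟨s, hs, hs1, hs2⟩ := evenPart_moves hz hfix hcard hT (g a) (g (z a)) hne2 hne
  have hs' : g⁻¹ * s * g ∈ evenPart T := (Subgroup.mem_normalizer_iff''.mp hg s).mp hs
  have h3 : (g⁻¹ * s * g) a = a := by simp [hs1]
  have h4 := pair_commute_apply (hT hs'.1) a
  rw [h3] at h4
  exact hs2 (g⁻¹.injective (by simpa using h4))

end sylow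

section small

variable {α : Type u} [Fintype α] [DecidableEq α]

theorem normalizer_eq_self_of_card_le_four (hcard : Fintype.card α ≤ 4) (T : Sylow 2 (Perm α)) :
    Subgroup.normalizer ((T : Subgroup (Perm α)) : Set (Perm α)) = (T : Subgroup (Perm α)) := by
  classical
  set N := Subgroup.normalizer ((T : Subgroup (Perm α)) : Set (Perm α))
  have hTN : (T : Subgroup (Perm α)) ≤ N := Subgroup.le_normalizer
  have hidx : (T : Subgroup (Perm α)).index ∣ 3 := by
    have h1 : ¬ 2 ∣ (T : Subgroup (Perm α)).index := T.not_dvd_index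
    have h2 : (T : Subgroup (Perm α)).index ∣ (Fintype.card α).factorial := by
      rw [← Fintype.card_perm, ← Nat.card_eq_fintype_card]
      exact Subgroup.index_dvd_card _
    have h3 : (Fintype.card α).factorial ∣ 24 := Nat.factorial_dvd_factorial hcard
    have h4 : Nat.Coprime (T : Subgroup (Perm α)).index 8 := by
      rw [show (8 : ℕ) = 2 ^ 3 from rfl]
      exact (((Nat.prime_two.coprime_iff_not_dvd).mpr h1).symm).pow_right 3
    exact h4.dvd_of_dvd_mul_left (show (T : Subgroup (Perm α)).index ∣ 8 * 3 from h2.trans h3)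
  have hmul := Subgroup.relIndex_mul_index hTN
  rcases (Nat.dvd_prime Nat.prime_three).mp ((Dvd.intro_left _ hmul).trans hidx) with h | h
  · -- `T` is normal
    rw [Subgroup.index_eq_one] at h
    have hnorm : (T : Subgroup (Perm α)).Normal := Subgroup.normalizer_eq_top_iff.mp h
    haveI := T.unique_of_normal hnorm
    have hall : ∀ σ : Perm α, σ.IsSwap → σ ∈ (T : Subgroup (Perm α)) := by
      intro σ hσ
      have hp : IsPGroup 2 (Subgroup.zpowers σ) := by
        refine IsPGroup.of_card (n := 1) ?_
        rw [Nat.card_zpowers, hσ.orderOf, pow_one]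
      obtain ⟨Q, hQ⟩ := hp.exists_le_sylow
      rw [Subsingleton.elim T Q]
      exact hQ (Subgroup.mem_zpowers σ)
    have htop : (T : Subgroup (Perm α)) = ⊤ := by
      rw [eq_top_iff, ← closure_isSwap, Subgroup.closure_le]
      exact hall
    exact le_antisymm (le_top.trans htop.ge) hTN
  · -- the normalizer has index 3
    rw [h] at hmul
    have h5 := Nat.le_of_dvd (by norm_num) hidx
    have h6 : (T : Subgroup (Perm α)).relIndex N ≠ 0 := by
      intro h0
      rw [h0] at hmul
      exact Subgroup.index_ne_zero_of_finite (H := (T : Subgroup (Perm α))) (by omega)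
    have h7 : (T : Subgroup (Perm α)).relIndex N = 1 := by omega
    exact le_antisymm (Subgroup.relIndex_eq_one.mp h7) hTN

end small

section odd

variable {α : Type u} [Fintype α] [DecidableEq α]

theorem exists_fixed_point (hodd : Odd (Fintype.card α)) (T : Sylow 2 (Perm α)) :
    ∃ a : α, ∀ t ∈ (T : Subgroup (Perm α)), t a = a := by
  obtain ⟨a, ha⟩ := T.isPGroup'.nonempty_fixed_point_of_prime_not_dvd_card α
    (by rw [Nat.card_eq_fintype_card]; exact Nat.two_dvd_ne_zero.mpr (Nat.odd_iff.mp hodd))
  exact ⟨a, fun t ht => ha ⟨t, ht⟩⟩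

end odd

theorem exists_mem_evenPart_moves {α : Type u} [Fintype α] [DecidableEq α] {m : ℕ}
    (hm : 2 ≤ m) (hcard : Fintype.card α = 2 * m) (T : Sylow 2 (Perm α)) (b : α) :
    ∃ s ∈ evenPart T, s b ≠ b := by
  obtain ⟨z, hz, hfix, hT⟩ := exists_pairing_of_sylow hcard T
  obtain ⟨c, hc⟩ := exists_not_mem ({b, z b} : Finset α)
    (lt_of_le_of_lt Finset.card_le_two (by omega))
  simp only [Finset.mem_insert, Finset.mem_singleton, not_or] at hc
  refine ⟨_, swap_mul_swap_mem_evenPart hz hfix hT b c, ?_⟩
  have h1 : b ≠ c := fun h => hc.1 h.symm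
  have h2 : b ≠ z c := fun h => hc.2 (by rw [h, hz])
  rw [Perm.mul_apply, swap_apply_of_ne_of_ne h1 h2, swap_apply_left]
  exact hfix b

theorem sylowTwo_main : ∀ (k : ℕ) (α : Type u) [Fintype α] [DecidableEq α] (T : Sylow 2 (Perm α)),
    Fintype.card α = k →
      Subgroup.normalizer ((T : Subgroup (Perm α)) : Set (Perm α)) = (T : Subgroup (Perm α)) ∧
      (6 ≤ k → Subgroup.normalizer ((evenPart T : Subgroup (Perm α)) : Set (Perm α)) ≤ (T : Subgroup (Perm α))) := by
  intro k
  induction k using Nat.strong_induction_on with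
  | _ k ih =>
    intro α _ _ T hk
    rcases Nat.lt_or_ge k 5 with hsmall | hbig
    · exact ⟨normalizer_eq_self_of_card_le_four (by omega) T, fun h => absurd h (by omega)⟩
    rcases Nat.even_or_odd k with ⟨m, hm⟩ | hodd
    · -- even degree, at least 6
      have hcard : Fintype.card α = 2 * m := by omega
      obtain ⟨z, hz, hfix, hT⟩ := exists_pairing_of_sylow hcard T
      have key : Subgroup.normalizer ((evenPart T : Subgroup (Perm α)) : Set (Perm α)) ≤ (T : Subgroup (Perm α)) := by
        classical
        intro g hg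
        have hgC := normalizer_evenPart_le_centralizer hz hfix (by omega) hT hg
        haveI : Nonempty α := Fintype.card_pos_iff.mp (by omega)
        let ψ := pairHom z hz
        have hψ : Function.Surjective ψ := pairHom_surjective z hz hfix
        let T' : Sylow 2 (Perm (Quotient (pairSetoid z hz))) := (T.subtype hT).mapSurjective hψ
        have hT' : ∀ x (hx : x ∈ Subgroup.centralizer ({z} : Set (Perm α))),
            x ∈ (T : Subgroup (Perm α)) → ψ ⟨x, hx⟩ ∈ T'.toSubgroup :=
          fun x hx hxT => Subgroup.mem_map_of_mem ψ (show (⟨x, hx⟩ : Subgroup.centralizer ({z} : Set (Perm α))) ∈ (T.subtype hT : Subgroup _) from hxT)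
        let g' : Subgroup.centralizer ({z} : Set (Perm α)) := ⟨g, hgC⟩
        have hconj : ∀ x ∈ T'.toSubgroup, ψ g' * x * (ψ g')⁻¹ ∈ T'.toSubgroup := by
          rintro _ ⟨⟨t, htC⟩, htT, rfl⟩
          have htT : t ∈ (T : Subgroup (Perm α)) := htT
          obtain ⟨b⟩ := ‹Nonempty α›
          -- replace `t` by an even element with the same image
          obtain ⟨s, hsC, hs, hst⟩ : ∃ (s : Perm α) (hsC : s ∈ Subgroup.centralizer ({z} : Set (Perm α))),
              s ∈ evenPart T ∧ ψ ⟨s, hsC⟩ = ψ ⟨t, htC⟩ := by
            rcases Int.units_eq_one_or (sign t) with h1 | h1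
            · exact ⟨t, htC, ⟨htT, h1⟩, rfl⟩
            · refine ⟨t * swap b (z b), mul_mem htC (swap_mem_centralizer hz b),
                ⟨mul_mem htT (swap_mem_sylow hz hT b), ?_⟩, ?_⟩
              · change sign _ = 1
                rw [map_mul, h1, Perm.sign_swap (hfix b).symm, Int.units_mul_self]
              · have : (⟨t * swap b (z b), mul_mem htC (swap_mem_centralizer hz b)⟩ : Subgroup.centralizer ({z} : Set (Perm α)))
                    = ⟨t, htC⟩ * ⟨swap b (z b), swap_mem_centralizer hz b⟩ := rfl
                rw [this, map_mul, MonoidHom.mem_ker.mp (swap_mem_pairKer hz b), mul_one]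
          rw [← hst, ← map_inv, ← map_mul, ← map_mul]
          exact hT' _ _ ((Subgroup.mem_normalizer_iff.mp hg s).mp hs).1
        have hmem : ψ g' ∈ Subgroup.normalizer (T'.toSubgroup : Set (Perm (Quotient (pairSetoid z hz)))) := by
          exact Subgroup.mem_normalizer_fintype hconj
        have hlt : Fintype.card (Quotient (pairSetoid z hz)) < k := by
          have := card_pairs z hz hfix; omega
        rw [(ih _ hlt _ T' rfl).1] at hmem
        obtain ⟨t, htT, htg⟩ := hmem
        have hker : t⁻¹ * g' ∈ ψ.ker := by rw [MonoidHom.mem_ker, map_mul, map_inv, htg, inv_mul_cancel]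
        have h1 := mem_sylow_of_pairKer hT hker
        have h2 : (t : Perm α) ∈ (T : Subgroup (Perm α)) := htT
        simpa using mul_mem h2 h1
      exact ⟨le_antisymm ((normalizer_le_evenPart T).trans key) Subgroup.le_normalizer, fun _ => key⟩
    · -- odd degree: reduce to a point stabilizer
      obtain ⟨a, ha⟩ := exists_fixed_point (hk ▸ hodd) T
      obtain ⟨m, hm⟩ := hodd
      let β := {x : α // x ≠ a}
      have hβ : Fintype.card β = 2 * m := by
        simp only [β, Fintype.card_subtype_compl, Fintype.card_subtype_eq]; omega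
      let φ : Perm β →* Perm α := ofSubtype
      have hrange : ∀ g : Perm α, g a = a → ∃ g' : Perm β, φ g' = g := by
        intro g hg
        refine ⟨g.subtypePerm (fun x => by conv_lhs => rw [← hg]
                                           exact g.injective.ne_iff), ?_⟩
        exact ofSubtype_subtypePerm _ (fun x hx h => hx (by rw [h, hg]))
      let T' : Sylow 2 (Perm β) :=
        T.comapOfInjective φ ofSubtype_injective (fun t ht => hrange t (ha t ht))
      have hlt : 2 * m < k := by omega
      obtain ⟨ih1, ih2⟩ := ih _ hlt β T' hβ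
      have hφsign : ∀ x : Perm β, sign (φ x) = sign x := fun x => sign_ofSubtype x
      -- elements normalizing the even part fix `a`
      have hfixa : ∀ g ∈ Subgroup.normalizer ((evenPart T : Subgroup (Perm α)) : Set (Perm α)), g a = a := by
        intro g hg
        by_contra hga
        obtain ⟨s, hs, hsb⟩ := exists_mem_evenPart_moves (m := m) (by omega) hβ T' ⟨g a, hga⟩
        have hs' : φ s ∈ evenPart T := ⟨hs.1, show sign _ = 1 by rw [hφsign]; exact hs.2⟩
        have h1 := ha _ ((Subgroup.mem_normalizer_iff''.mp hg _).mp hs').1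
        have h2 : φ s (g a) = g a := by
          simpa using congrArg g h1
        apply hsb
        ext
        exact (ofSubtype_apply_coe s (⟨g a, hga⟩ : β)).symm.trans h2
      have hT'mem : ∀ x : Perm β, x ∈ (T' : Subgroup (Perm β)) ↔ φ x ∈ (T : Subgroup (Perm α)) := fun x => Iff.rfl
      refine ⟨le_antisymm ?_ Subgroup.le_normalizer, fun h6 g hg => ?_⟩
      · intro g hg
        obtain ⟨g', rfl⟩ := hrange g (hfixa g (normalizer_le_evenPart T hg))
        have : g' ∈ Subgroup.normalizer ((T' : Subgroup (Perm β)) : Set (Perm β)) := by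
          rw [Subgroup.mem_normalizer_iff] at hg ⊢
          intro x
          rw [hT'mem, hT'mem, map_mul, map_mul, map_inv]
          exact hg (φ x)
        rw [ih1] at this
        exact this
      · obtain ⟨g', rfl⟩ := hrange g (hfixa g hg)
        have : g' ∈ Subgroup.normalizer ((evenPart T' : Subgroup (Perm β)) : Set (Perm β)) := by
          rw [Subgroup.mem_normalizer_iff] at hg ⊢
          intro x
          have := hg (φ x)
          simpa [Subgroup.mem_inf, hT'mem, hφsign] using this
        exact ih2 (by omega) this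

/-- Sylow 2-subgroups of symmetric groups are self-normalizing. -/
theorem normalizer_sylowTwo_perm {α : Type u} [Fintype α] [DecidableEq α] (T : Sylow 2 (Perm α)) :
    Subgroup.normalizer ((T : Subgroup (Perm α)) : Set (Perm α)) = (T : Subgroup (Perm α)) :=
  (sylowTwo_main _ α T rfl).1

/-- Sylow 2-subgroups of alternating groups of degree at least 6 are self-normalizing. -/
theorem normalizer_sylowTwo_alternating {α : Type u} [Fintype α] [DecidableEq α]
    (h6 : 6 ≤ Fintype.card α) (S : Sylow 2 (alternatingGroup α)) :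
    Subgroup.normalizer ((S : Subgroup (alternatingGroup α)) : Set (alternatingGroup α)) =
      (S : Subgroup (alternatingGroup α)) := by
  refine le_antisymm ?_ Subgroup.le_normalizer
  obtain ⟨T, hT⟩ := S.exists_comap_subtype_eq
  have hST : ∀ x : alternatingGroup α, x ∈ (S : Subgroup (alternatingGroup α)) ↔ (x : Perm α) ∈ (T : Subgroup (Perm α)) := by
    intro x; rw [← hT]; rfl
  intro g hg
  rw [hST]
  refine (sylowTwo_main _ α T rfl).2 h6 ?_
  rw [Subgroup.mem_normalizer_iff] at hg ⊢
  intro x
  constructor
  · rintro ⟨h1, h2⟩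
    have := (hg ⟨x, h2⟩).mp ((hST _).mpr h1)
    exact ⟨(hST _).mp this, (g * ⟨x, h2⟩ * g⁻¹).2⟩
  · rintro ⟨h1, h2⟩
    have hx : x ∈ alternatingGroup α := by
      have := mul_mem (mul_mem (inv_mem g.2) h2) g.2
      simpa [mul_assoc] using this
    exact ⟨(hST ⟨x, hx⟩).mp ((hg ⟨x, hx⟩).mpr ((hST _).mpr h1)), hx⟩

end H63
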