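import Cfsg.Agent.H63.SylowTwoSelfNorm
import Mathlib

/-!
Maximal subgroups over a Sylow 2-subgroup of a symmetric or alternating group: there is exactly
one precisely in the degrees `2 ^ k + 1`.

In degree `2 ^ k + 1` everything moving the fixed point generates the alternating group. In all
other degrees we exhibit two overgroups (a point stabiliser or the centraliser of a fixed point
free involution, and the stabiliser of a partition into two parts) which together generate the
alternating group.
-/

set_option autoImplicit false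

namespace H63

open Equiv Equiv.Perm

universe u

variable {α : Type u}

set_option linter.unusedSectionVars false

section cyc

variable [DecidableEq α]

/-- The cycle `a ↦ b ↦ c ↦ a`. -/
def cyc (a b c : α) : Perm α := swap a b * swap b c

theorem cyc_apply_first {a b c : α} (hab : a ≠ b) (hac : a ≠ c) : cyc a b c a = b := by
  rw [cyc, Perm.mul_apply, swap_apply_of_ne_of_ne hab hac, swap_apply_left]

theorem cyc_apply_second {a b c : α} (hac : a ≠ c) (hbc : b ≠ c) : cyc a b c b = c := by
  rw [cyc, Perm.mul_apply, swap_apply_left, swap_apply_of_ne_of_ne hac.symm hbc.symm]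

theorem cyc_apply_third (a b c : α) : cyc a b c c = a := by
  rw [cyc, Perm.mul_apply, swap_apply_right, swap_apply_right]

theorem cyc_apply_of_ne {a b c x : α} (ha : x ≠ a) (hb : x ≠ b) (hc : x ≠ c) : cyc a b c x = x := by
  rw [cyc, Perm.mul_apply, swap_apply_of_ne_of_ne hb hc, swap_apply_of_ne_of_ne ha hb]

theorem swap_conj (h : Perm α) (a b : α) : h * swap a b * h⁻¹ = swap (h a) (h b) := by
  rw [Equiv.mul_swap_eq_swap_mul, mul_inv_cancel_right]

theorem swap_swap_conj (h : Perm α) (a b c d : α) :
    h * (swap a b * swap c d) * h⁻¹ = swap (h a) (h b) * swap (h c) (h d) := by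
  rw [← swap_conj h a b, ← swap_conj h c d]
  group

theorem cyc_conj (h : Perm α) (a b c : α) : h * cyc a b c * h⁻¹ = cyc (h a) (h b) (h c) := by
  exact swap_swap_conj h a b b c

theorem cyc_rotate {a b c : α} (hab : a ≠ b) (hac : a ≠ c) (hbc : b ≠ c) :
    cyc a b c = cyc b c a := by
  ext x
  by_cases ha : x = a
  · subst ha; rw [cyc_apply_first hab hac, cyc_apply_third]
  by_cases hb : x = b
  · subst hb; rw [cyc_apply_second hac hbc, cyc_apply_first hbc hab.symm]
  by_cases hc : x = c
  · subst hc; rw [cyc_apply_third, cyc_apply_second hab.symm hac.symm]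
  rw [cyc_apply_of_ne ha hb hc, cyc_apply_of_ne hb hc ha]

/-- A cycle on three points is a product of two cycles through `a` and any fourth point `a'`. -/
theorem cyc_eq_mul {a a' b e : α} (h1 : a ≠ a') (h2 : a ≠ b) (h3 : a ≠ e) (h4 : a' ≠ b)
    (h5 : a' ≠ e) (h6 : b ≠ e) : cyc a b e = cyc a a' e * cyc a' a b := by
  ext x
  rw [Perm.mul_apply]
  by_cases ha : x = a
  · subst ha
    rw [cyc_apply_first h2 h3, cyc_apply_second h4 h2, cyc_apply_of_ne h2.symm h4.symm h6]
  by_cases hb : x = b
  · subst hb
    rw [cyc_apply_second h3 h6, cyc_apply_third, cyc_apply_second h3 h5]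
  by_cases he : x = e
  · subst he
    rw [cyc_apply_third, cyc_apply_of_ne h5.symm h3.symm h6.symm, cyc_apply_third]
  by_cases ha' : x = a'
  · subst ha'
    rw [cyc_apply_of_ne ha hb he, cyc_apply_first h1.symm h4, cyc_apply_first h1 h3]
  rw [cyc_apply_of_ne ha hb he, cyc_apply_of_ne ha' ha hb, cyc_apply_of_ne ha ha' he]

theorem inv_cyc_mul_cyc {a a' b e : α} (h1 : a ≠ a') (h2 : a ≠ b) (h3 : a ≠ e) (h4 : a' ≠ b)
    (h5 : a' ≠ e) (h6 : b ≠ e) : (cyc a b e)⁻¹ * cyc a' b e = cyc a' a e := by
  rw [inv_mul_eq_iff_eq_mul]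
  ext x
  rw [Perm.mul_apply]
  by_cases ha' : x = a'
  · subst ha'
    rw [cyc_apply_first h4 h5, cyc_apply_first h1.symm h5, cyc_apply_first h2 h3]
  by_cases ha : x = a
  · subst ha
    rw [cyc_apply_of_ne ha' h2 h3, cyc_apply_second h5 h3, cyc_apply_third]
  by_cases he : x = e
  · subst he
    rw [cyc_apply_third, cyc_apply_third, cyc_apply_of_ne h1.symm h4 h5]
  by_cases hb : x = b
  · subst hb
    rw [cyc_apply_second h5 h6, cyc_apply_of_ne ha' ha he, cyc_apply_second h3 h6]
  rw [cyc_apply_of_ne ha' hb he, cyc_apply_of_ne ha' ha he, cyc_apply_of_ne ha hb he]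

theorem disjoint_swaps {a b c d : α} (h : [a, b, c, d].Nodup) :
    Perm.Disjoint (swap a b) (swap c d) := by
  intro x
  simp only [List.nodup_cons, List.mem_cons, List.not_mem_nil, or_false, not_or] at h
  simp only [swap_apply_def]
  grind

variable [Fintype α]

theorem isThreeCycle_cyc {a b c : α} (hab : a ≠ b) (hac : a ≠ c) (hbc : b ≠ c) :
    IsThreeCycle (cyc a b c) := by
  rw [cyc, swap_comm a b]
  exact isThreeCycle_swap_mul_swap_same hab.symm hbc hac

theorem cyc_mem_alternating {a b c : α} (hab : a ≠ b) (hac : a ≠ c) (hbc : b ≠ c) :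
    cyc a b c ∈ alternatingGroup α :=
  (isThreeCycle_cyc hab hac hbc).mem_alternatingGroup

theorem swap_mul_swap_mem_alternating {a b c d : α} (hab : a ≠ b) (hcd : c ≠ d) :
    swap a b * swap c d ∈ alternatingGroup α := by
  rw [mem_alternatingGroup, map_mul, sign_swap hab, sign_swap hcd, Int.units_mul_self]

/-- Two double transpositions moving exactly one point in common give a three-cycle. -/
theorem exists_threeCycle_of_double_swaps {M : Subgroup (Perm α)} {o q u v r f f' : α}
    (hnd : [o, q, u, v, r, f, f'].Nodup) (hx : swap o q * swap u v ∈ M)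
    (hw : swap q r * swap f f' ∈ M) : ∃ σ ∈ M, IsThreeCycle σ := by
  simp only [List.nodup_cons, List.mem_cons, List.not_mem_nil, or_false, not_or, List.nodup_nil,
    and_true, not_false_eq_true] at hnd
  have c1 : Commute (swap u v) (swap q r) := (disjoint_swaps (by simp; grind)).commute
  have c2 : Commute (swap u v) (swap f f') := (disjoint_swaps (by simp; grind)).commute
  have c3 : Commute (swap u v) (swap o q) := (disjoint_swaps (by simp; grind)).commute
  have c4 : Commute (swap f f') (swap o q) := (disjoint_swaps (by simp; grind)).commute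
  have c5 : Commute (swap f f') (swap q r) := (disjoint_swaps (by simp; grind)).commute
  have hoq : o ≠ q := by grind
  have hor : o ≠ r := by grind
  have hqr : q ≠ r := by grind
  refine ⟨cyc o q r * cyc o q r, ?_, (isThreeCycle_cyc hoq hor hqr).isThreeCycle_sq⟩
  have h1 : swap o q * swap u v * (swap q r * swap f f') = cyc o q r * (swap u v * swap f f') := by
    rw [cyc, mul_assoc, ← mul_assoc (swap u v), c1.eq, mul_assoc (swap q r), ← mul_assoc]
  have h2 : Commute (cyc o q r) (swap u v * swap f f') :=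
    ((c3.symm.mul_left c1.symm).mul_right (c4.symm.mul_left c5.symm))
  have h3 : (swap u v * swap f f') * (swap u v * swap f f') = 1 := by
    rw [mul_assoc, ← mul_assoc (swap f f'), ← c2.eq, mul_assoc (swap u v), swap_mul_self, mul_one,
      swap_mul_self]
  have h4 := mul_mem (mul_mem hx hw) (mul_mem hx hw)
  rwa [h1, h2.symm.mul_mul_mul_comm, h3, mul_one] at h4

/-- A subgroup containing every three-cycle contains the alternating group. -/
theorem alternating_le_of_cyc {M : Subgroup (Perm α)}
    (h : ∀ a b c : α, a ≠ b → a ≠ c → b ≠ c → cyc a b c ∈ M) : alternatingGroup α ≤ M := by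
  rw [← closure_three_cycles_eq_alternating, Subgroup.closure_le]
  intro σ (hσ : IsThreeCycle σ)
  obtain ⟨a, ha⟩ := hσ.isCycle.nonempty_support
  have hnd := hσ.nodup_iff_mem_support.mpr ha
  simp only [List.nodup_cons, List.mem_cons, List.not_mem_nil, or_false, not_or] at hnd
  rw [SetLike.mem_coe, hσ.eq_swap_mul_swap_iff_mem_support.mpr ha]
  exact h _ _ _ hnd.1.1 hnd.1.2 hnd.2.1

end cyc

section centralizer

variable [Fintype α] [DecidableEq α] {z : Perm α}

/-- The even part of the centralizer of `z`. -/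
abbrev evenCent (z : Perm α) : Subgroup (Perm α) :=
  Subgroup.centralizer ({z} : Set (Perm α)) ⊓ alternatingGroup α

theorem swap_mul_swap_mem_evenCent (hz : ∀ a, z (z a) = a) {b c : α} (hb : z b ≠ b) (hc : z c ≠ c) :
    swap b (z b) * swap c (z c) ∈ evenCent z :=
  ⟨mul_mem (swap_mem_centralizer hz b) (swap_mem_centralizer hz c),
    swap_mul_swap_mem_alternating hb.symm hc.symm⟩

/-- The even centralizer moves any point and any point outside its pair to any others. -/
theorem exists_evenCent_map (hz : ∀ a, z (z a) = a) (hfix : ∀ a, z a ≠ a)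
    (hcard : 5 ≤ Fintype.card α) {q r Q R : α} (hr : r ≠ q) (hr' : r ≠ z q) (hR : R ≠ Q)
    (hR' : R ≠ z Q) : ∃ h ∈ evenCent z, h q = Q ∧ h r = R := by
  classical
  let s := pairSetoid z hz
  let mk : α → Quotient s := fun x => Quotient.mk'' x
  have hmk : ∀ x y : α, mk x = mk y ↔ (y = x ∨ y = z x) := fun x y => Quotient.eq''
  let σ₁ : Perm (Quotient s) := swap (mk q) (mk Q)
  let σ : Perm (Quotient s) := swap (σ₁ (mk r)) (mk R) * σ₁
  have hσr : σ (mk r) = mk R := by simp [σ]
  have hσq : σ (mk q) = mk Q := by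
    have h1 : mk Q ≠ σ₁ (mk r) := by
      intro hQ
      have : σ₁ (mk q) = σ₁ (mk r) := by rw [← hQ]; exact swap_apply_left _ _
      exact ((hmk q r).mp (σ₁.injective this)).elim hr hr'
    have h2 : mk Q ≠ mk R := fun hQ => ((hmk Q R).mp hQ).elim hR hR'
    simp only [σ, Perm.mul_apply, σ₁, swap_apply_left]
    exact swap_apply_of_ne_of_ne h1 h2
  obtain ⟨⟨h₀, h₀C⟩, hh₀⟩ := pairHom_surjective z hz hfix σ
  have h₀q : Q = h₀ q ∨ Q = z (h₀ q) := by
    refine (hmk _ _).mp ?_
    rw [← hσq, ← hh₀]; rfl
  have h₀r : R = h₀ r ∨ R = z (h₀ r) := by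
    refine (hmk _ _).mp ?_
    rw [← hσr, ← hh₀]; rfl
  obtain ⟨h₁, h₁C, h₁q, h₁r⟩ : ∃ h₁ ∈ Subgroup.centralizer ({z} : Set (Perm α)),
      h₁ q = Q ∧ (R = h₁ r ∨ R = z (h₁ r)) := by
    rcases h₀q with h | h
    · exact ⟨h₀, h₀C, h.symm, h₀r⟩
    · refine ⟨swap Q (z Q) * h₀, mul_mem (swap_mem_centralizer hz Q) h₀C, ?_, ?_⟩
      · have : h₀ q = z Q := by rw [h, hz]
        rw [Perm.mul_apply, this, swap_apply_right]
      · have h3 : h₀ r ≠ Q := by
          intro e
          rcases h₀r with e' | e'
          · exact hR (e'.trans e)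
          · exact hR' (e'.trans (congrArg z e))
        have h4 : h₀ r ≠ z Q := by
          intro e
          rcases h₀r with e' | e'
          · exact hR' (e'.trans e)
          · exact hR (e'.trans ((congrArg z e).trans (hz Q)))
        rw [Perm.mul_apply, swap_apply_of_ne_of_ne h3 h4]
        exact h₀r
  obtain ⟨h₂, h₂C, h₂q, h₂r⟩ : ∃ h₂ ∈ Subgroup.centralizer ({z} : Set (Perm α)),
      h₂ q = Q ∧ h₂ r = R := by
    rcases h₁r with h | h
    · exact ⟨h₁, h₁C, h₁q, h.symm⟩
    · refine ⟨swap R (z R) * h₁, mul_mem (swap_mem_centralizer hz R) h₁C, ?_, ?_⟩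
      · have h4 : Q ≠ z R := fun e => hR' (by rw [e, hz])
        rw [Perm.mul_apply, h₁q, swap_apply_of_ne_of_ne hR.symm h4]
      · have : h₁ r = z R := by rw [h, hz]
        rw [Perm.mul_apply, this, swap_apply_right]
  rcases Int.units_eq_one_or (sign h₂) with hs | hs
  · exact ⟨h₂, ⟨h₂C, hs⟩, h₂q, h₂r⟩
  · obtain ⟨f, hf⟩ := exists_not_mem ({Q, z Q, R, z R} : Finset α)
      (lt_of_le_of_lt Finset.card_le_four (by omega))
    simp only [Finset.mem_insert, Finset.mem_singleton, not_or] at hf
    refine ⟨swap f (z f) * h₂, ⟨mul_mem (swap_mem_centralizer hz f) h₂C, ?_⟩, ?_, ?_⟩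
    · change sign _ = 1
      rw [map_mul, sign_swap (hfix f).symm, hs, Int.units_mul_self]
    · have h4 : Q ≠ z f := fun e => hf.2.1 (by rw [e, hz])
      rw [Perm.mul_apply, h₂q, swap_apply_of_ne_of_ne (Ne.symm hf.1) h4]
    · have h4 : R ≠ z f := fun e => hf.2.2.2 (by rw [e, hz])
      rw [Perm.mul_apply, h₂r, swap_apply_of_ne_of_ne (Ne.symm hf.2.2.1) h4]

/-- The even centralizer of a fixed point free involution and any three-cycle generate the
alternating group, provided there are at least four pairs. -/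
theorem alternating_le_of_evenCent_of_cyc (hz : ∀ a, z (z a) = a) (hfix : ∀ a, z a ≠ a)
    (hcard : 7 ≤ Fintype.card α) {M : Subgroup (Perm α)} (hM : evenCent z ≤ M) {a b e : α}
    (hab : a ≠ b) (hae : a ≠ e) (hbe : b ≠ e) (hc : cyc a b e ∈ M) : alternatingGroup α ≤ M := by
  obtain ⟨q, r, hr, hr', hqr⟩ : ∃ q r : α, r ≠ q ∧ r ≠ z q ∧ cyc q (z q) r ∈ M := by
    by_cases h1 : b = z a
    · subst h1
      exact ⟨a, e, hae.symm, hbe.symm, hc⟩
    by_cases h2 : e = z b
    · subst h2
      rw [cyc_rotate hab hae hbe] at hc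
      exact ⟨b, a, hab, hae, hc⟩
    by_cases h3 : a = z e
    · subst h3
      rw [cyc_rotate hab hae hbe, cyc_rotate hbe hab.symm hae.symm] at hc
      exact ⟨e, b, hbe, hab.symm, hc⟩
    obtain ⟨f, hf⟩ := exists_not_mem ({a, z a, b, z b, e, z e} : Finset α)
      (lt_of_le_of_lt Finset.card_le_six (by omega))
    simp only [Finset.mem_insert, Finset.mem_singleton, not_or] at hf
    obtain ⟨fa, faz, fb, fbz, fe, fez⟩ := hf
    have azb : b ≠ a ∧ b ≠ z a := ⟨hab.symm, h1⟩
    have aze : e ≠ a ∧ e ≠ z a := ⟨hae.symm, fun h => h3 (by rw [h, hz])⟩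
    let w := swap a (z a) * swap f (z f)
    have hw : w ∈ M := hM (swap_mul_swap_mem_evenCent hz (hfix a) (hfix f))
    have hwa : w a = z a := by
      have h4 : a ≠ z f := fun h => faz (by rw [h, hz])
      rw [Perm.mul_apply, swap_apply_of_ne_of_ne (Ne.symm fa) h4, swap_apply_left]
    have hwb : w b = b := by
      have h4 : b ≠ z f := fun h => fbz (by rw [h, hz])
      rw [Perm.mul_apply, swap_apply_of_ne_of_ne (Ne.symm fb) h4, swap_apply_of_ne_of_ne azb.1 azb.2]
    have hwe : w e = e := by
      have h4 : e ≠ z f := fun h => fez (by rw [h, hz])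
      rw [Perm.mul_apply, swap_apply_of_ne_of_ne (Ne.symm fe) h4, swap_apply_of_ne_of_ne aze.1 aze.2]
    refine ⟨z a, e, aze.2, by rw [hz]; exact aze.1, ?_⟩
    rw [hz, ← inv_cyc_mul_cyc (hfix a).symm hab hae azb.2.symm aze.2.symm hbe]
    refine mul_mem (inv_mem hc) ?_
    have := mul_mem (mul_mem hw hc) (inv_mem hw)
    rwa [cyc_conj, hwa, hwb, hwe] at this
  have hall : ∀ Q R, R ≠ Q → R ≠ z Q → cyc Q (z Q) R ∈ M := by
    intro Q R hR hR'
    obtain ⟨h, hh, hQ, hR⟩ := exists_evenCent_map hz hfix (by omega) hr hr' hR hR'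
    have := mul_mem (mul_mem (hM hh) hqr) (inv_mem (hM hh))
    rwa [cyc_conj, hQ, hR, pair_commute_apply hh.1, hQ] at this
  refine alternating_le_of_cyc fun a b e hab hae hbe => ?_
  by_cases h1 : b = z a
  · subst h1; exact hall a e hae.symm hbe.symm
  by_cases h2 : e = z b
  · subst h2; rw [cyc_rotate hab hae hbe]; exact hall b a hab hae
  by_cases h3 : a = z e
  · subst h3; rw [cyc_rotate hab hae hbe, cyc_rotate hbe hab.symm hae.symm]
    exact hall e b hbe hab.symm
  have hez : e ≠ z a := fun h => h3 (by rw [h, hz])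
  rw [cyc_eq_mul (hfix a).symm hab hae (Ne.symm h1) hez.symm hbe]
  refine mul_mem (hall a e hae.symm hez) ?_
  have := hall (z a) b h1 (by rw [hz]; exact hab.symm)
  rwa [hz] at this

end centralizer

section parts

/-- The stabilizer of the partition of `α` by the predicate `p`. -/
def partStab (p : α → Prop) : Subgroup (Perm α) where
  carrier := {g | ∀ x y, (p (g x) ↔ p (g y)) ↔ (p x ↔ p y)}
  one_mem' := fun _ _ => Iff.rfl
  mul_mem' := fun {g h} hg hh x y => (hg (h x) (h y)).trans (hh x y)
  inv_mem' := fun {g} hg x y => by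
    have := hg (g⁻¹ x) (g⁻¹ y)
    simpa using this.symm

theorem mem_partStab {p : α → Prop} {g : Perm α} :
    g ∈ partStab p ↔ ∀ x y, (p (g x) ↔ p (g y)) ↔ (p x ↔ p y) := Iff.rfl

theorem mem_partStab_of_forall {p : α → Prop} {g : Perm α} (h : ∀ x, p (g x) ↔ p x) :
    g ∈ partStab p := fun x y => by rw [h, h]

variable [DecidableEq α]

theorem swap_mem_partStab {p : α → Prop} {a b : α} (h : p a ↔ p b) : swap a b ∈ partStab p :=
  mem_partStab_of_forall fun x => by
    rw [swap_apply_def]
    split_ifs with h1 h2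
    · rw [h1, h]
    · rw [h2, h]
    · rfl

theorem cyc_mem_partStab {p : α → Prop} {a b c : α} (hab : p a ↔ p b) (hbc : p b ↔ p c) :
    cyc a b c ∈ partStab p :=
  mul_mem (swap_mem_partStab hab) (swap_mem_partStab hbc)

variable [Fintype α]

theorem exists_same_part (p : α → Prop) (hcard : 5 ≤ Fintype.card α) :
    ∃ a b c : α, a ≠ b ∧ a ≠ c ∧ b ≠ c ∧ (p a ↔ p b) ∧ (p b ↔ p c) := by
  classical
  have h := Finset.card_filter_add_card_filter_not (s := (Finset.univ : Finset α)) p
  rw [Finset.card_univ] at h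
  rcases (show 2 < (Finset.univ.filter p).card ∨ 2 < (Finset.univ.filter fun x => ¬ p x).card by omega)
    with h' | h' <;>
  · obtain ⟨a, b, c, ha, hb, hc, hab, hac, hbc⟩ := Finset.two_lt_card_iff.mp h'
    simp only [Finset.mem_filter, Finset.mem_univ, true_and] at ha hb hc
    exact ⟨a, b, c, hab, hac, hbc, by tauto, by tauto⟩

theorem not_alternating_le_partStab {p : α → Prop} (hcard : 5 ≤ Fintype.card α) {u v : α}
    (hu : p u) (hv : ¬ p v) : ¬ alternatingGroup α ≤ partStab p := by
  intro hle
  obtain ⟨x, y, c, hxy, hxc, hyc, h1, h2⟩ := exists_same_part p hcard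
  obtain ⟨w, hw⟩ : ∃ w, ¬ (p x ↔ p w) := by
    by_cases hx : p x
    · exact ⟨v, fun h => hv (h.mp hx)⟩
    · exact ⟨u, fun h => hx (h.mpr hu)⟩
  have hxw : x ≠ w := fun h => hw (h ▸ Iff.rfl)
  have hyw : y ≠ w := fun h => hw (h ▸ h1)
  have hcw : c ≠ w := fun h => hw (h ▸ h1.trans h2)
  have := hle (cyc_mem_alternating hxw hxc hcw.symm) x y
  rw [cyc_apply_first hxw hxc, cyc_apply_of_ne hxy.symm hyw hyc] at this
  tauto

end parts

section sylowFacts

variable [Fintype α] [DecidableEq α]

theorem sylowTwo_not_le_alternating [Nontrivial α] (T : Sylow 2 (Perm α)) :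
    ∃ t ∈ (T : Subgroup (Perm α)), t ∉ alternatingGroup α := by
  by_contra! h
  have := Subgroup.index_dvd_of_le (H := (T : Subgroup (Perm α))) h
  rw [alternatingGroup.index_eq_two] at this
  exact T.not_dvd_index this

theorem eq_top_of_alternating_le_of_sylow [Nontrivial α] (T : Sylow 2 (Perm α))
    {M : Subgroup (Perm α)} (hA : alternatingGroup α ≤ M) (hT : (T : Subgroup (Perm α)) ≤ M) :
    M = ⊤ := by
  obtain ⟨t, ht, hodd⟩ := sylowTwo_not_le_alternating T
  rw [eq_top_iff]
  intro g _
  by_cases hg : g ∈ alternatingGroup α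
  · exact hA hg
  · have h1 : g * t⁻¹ ∈ alternatingGroup α := by
      rw [Subgroup.mul_mem_iff_of_index_two alternatingGroup.index_eq_two, inv_mem_iff]
      tauto
    simpa using mul_mem (hA h1) (hT ht)

/-- In degree a power of two, a Sylow 2-subgroup is transitive. -/
theorem sylowTwo_transitive {k : ℕ} (hcard : Fintype.card α = 2 ^ k) (T : Sylow 2 (Perm α))
    (b c : α) : ∃ t ∈ (T : Subgroup (Perm α)), t b = c := by
  let P := MulAction.stabilizer (Perm α) b
  have hP : P.index = 2 ^ k := by
    rw [MulAction.index_stabilizer_of_transitive, Nat.card_eq_fintype_card, hcard]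
  have hS : (P ⊓ (T : Subgroup (Perm α))).index =
      P.relIndex (T : Subgroup (Perm α)) * (T : Subgroup (Perm α)).index := by
    rw [← Subgroup.inf_relIndex_right, Subgroup.relIndex_mul_index inf_le_right]
  have hd : 2 ^ k ∣ P.relIndex (T : Subgroup (Perm α)) * (T : Subgroup (Perm α)).index := by
    rw [← hS, ← hP]; exact Subgroup.index_dvd_of_le inf_le_left
  have hd' : 2 ^ k ∣ P.relIndex (T : Subgroup (Perm α)) :=
    (((Nat.prime_two.coprime_iff_not_dvd).mpr T.not_dvd_index).pow_left k).dvd_of_dvd_mul_right hd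
  have horb : (MulAction.orbit (T : Subgroup (Perm α)) b).ncard = P.relIndex (T : Subgroup (Perm α)) :=
    (MulAction.index_stabilizer _ b).symm
  have hne : (MulAction.orbit (T : Subgroup (Perm α)) b).ncard ≠ 0 :=
    Set.ncard_ne_zero_of_mem (MulAction.mem_orbit_self b) (Set.toFinite _)
  have huniv : MulAction.orbit (T : Subgroup (Perm α)) b = Set.univ := by
    refine Set.eq_of_subset_of_ncard_le (Set.subset_univ _) ?_ Set.finite_univ
    rw [Set.ncard_univ, Nat.card_eq_fintype_card, hcard, horb]
    exact Nat.le_of_dvd (by omega) hd'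
  obtain ⟨t, ht⟩ : c ∈ MulAction.orbit (T : Subgroup (Perm α)) b := huniv ▸ Set.mem_univ c
  exact ⟨t, t.2, ht⟩

/-- In odd degree, a Sylow 2-subgroup fixes a point and respects a pairing of the others. -/
theorem exists_odd_pairing {m : ℕ} (hcard : Fintype.card α = 2 * m + 1) (T : Sylow 2 (Perm α)) :
    ∃ (a : α) (z : Perm α), (∀ t ∈ (T : Subgroup (Perm α)), t a = a) ∧ z a = a ∧
      (∀ b, z (z b) = b) ∧ (∀ b, b ≠ a → z b ≠ b) ∧
      (∀ b, swap b (z b) ∈ (T : Subgroup (Perm α))) ∧
      (∀ k, 2 * m = 2 ^ k → ∀ b c, b ≠ a → c ≠ a → ∃ t ∈ (T : Subgroup (Perm α)), t b = c) := by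
  classical
  obtain ⟨a, ha⟩ := exists_fixed_point ⟨m, hcard⟩ T
  let β := {x : α // x ≠ a}
  have hβ : Fintype.card β = 2 * m := by
    simp only [β, Fintype.card_subtype_compl, Fintype.card_subtype_eq]; omega
  let φ : Perm β →* Perm α := ofSubtype
  have hrange : ∀ g : Perm α, g a = a → ∃ g' : Perm β, φ g' = g := by
    intro g hg
    refine ⟨g.subtypePerm (fun x => by conv_lhs => rw [← hg]
                                       exact g.injective.ne_iff), ?_⟩
    exact ofSubtype_subtypePerm _ (fun x hx h => hx (by rw [h, hg]))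
  let T' : Sylow 2 (Perm β) :=
    T.comapOfInjective φ ofSubtype_injective (fun t ht => hrange t (ha t ht))
  obtain ⟨z, hz, hfix, hT⟩ := exists_pairing_of_sylow hβ T'
  have hza : φ z a = a := ofSubtype_apply_of_not_mem z (by simp)
  have hzb : ∀ b : β, φ z (b : α) = (z b : α) := fun b => ofSubtype_apply_coe z b
  refine ⟨a, φ z, ha, hza, fun b => ?_, fun b hb => ?_, fun b => ?_, fun k hk b c hb hc => ?_⟩
  · by_cases hb : b = a
    · rw [hb, hza, hza]
    · have h := hzb (z ⟨b, hb⟩)
      rw [hz, ← hzb ⟨b, hb⟩] at h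
      exact h
  · intro h
    apply hfix ⟨b, hb⟩
    exact Subtype.ext ((hzb ⟨b, hb⟩).symm.trans h)
  · by_cases hb : b = a
    · rw [hb, hza, swap_self]; exact one_mem _
    · have h1 : φ (swap ⟨b, hb⟩ (z ⟨b, hb⟩)) = swap b (φ z b) := by
        rw [hzb ⟨b, hb⟩]; exact ofSubtype_swap_eq _ _
      rw [← h1]
      exact swap_mem_sylow hz hT (⟨b, hb⟩ : β)
  · obtain ⟨t, ht, htb⟩ := sylowTwo_transitive (hβ.trans hk) T' ⟨b, hb⟩ ⟨c, hc⟩
    refine ⟨φ t, ht, ?_⟩
    exact (ofSubtype_apply_coe t ⟨b, hb⟩).trans (congrArg Subtype.val htb)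

end sylowFacts

section unique

variable [Fintype α] [DecidableEq α]

/-- A subgroup of index dividing three of a simple group of order sixty is everything. -/
theorem alternating_le_of_twenty_dvd (hcard : Fintype.card α = 5) {M : Subgroup (Perm α)}
    (h20 : 20 ∣ Nat.card (M.subgroupOf (alternatingGroup α))) : alternatingGroup α ≤ M := by
  have : Nontrivial α := Fintype.one_lt_card_iff_nontrivial.mp (by omega)
  have : IsSimpleGroup (alternatingGroup α) :=
    alternatingGroup.isSimpleGroup (by rw [Nat.card_eq_fintype_card]; omega)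
  rw [← Subgroup.subgroupOf_eq_top]
  set H := M.subgroupOf (alternatingGroup α)
  have h60 : Nat.card (alternatingGroup α) = 60 := by
    rw [nat_card_alternatingGroup, Nat.card_eq_fintype_card, hcard]; rfl
  have hmul := H.card_mul_index
  rw [h60] at hmul
  obtain ⟨j, hj⟩ := h20
  rw [hj] at hmul
  have hidx : H.index ∣ 3 := ⟨j, by nlinarith⟩
  rcases Subgroup.Normal.eq_bot_or_eq_top H.normalCore_normal with hb | ht
  · have h1 : H.normalCore.index ∣ H.index.factorial := by
      rw [Subgroup.normalCore_eq_ker, Subgroup.index_ker, Subgroup.index_eq_card, ← Nat.card_perm]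
      exact Subgroup.card_subgroup_dvd_card _
    rw [hb, Subgroup.index_bot, h60] at h1
    have h2 : H.index.factorial ∣ Nat.factorial 3 := Nat.factorial_dvd_factorial (Nat.le_of_dvd (by omega) hidx)
    have h3 := Nat.le_of_dvd (Nat.factorial_pos 3) (h1.trans h2)
    norm_num [Nat.factorial] at h3
  · exact top_le_iff.mp (ht ▸ H.normalCore_le)

/-- In degree `2 ^ k + 1`, whatever contains the even part of a Sylow 2-subgroup and an even
element moving its fixed point contains the alternating group. -/
theorem alternating_le_of_moves_fixed {k : ℕ} (hk : 2 ≤ k) (hcard : Fintype.card α = 2 ^ k + 1)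
    (T : Sylow 2 (Perm α)) :
    ∃ a : α, (∀ t ∈ (T : Subgroup (Perm α)), t a = a) ∧
      ∀ M : Subgroup (Perm α), evenPart T ≤ M →
        ∀ g ∈ M, g ∈ alternatingGroup α → g a ≠ a → alternatingGroup α ≤ M := by
  classical
  have : Nontrivial α := Fintype.one_lt_card_iff_nontrivial.mp (by
    have := Nat.one_le_two_pow (n := k); omega)
  obtain ⟨k', rfl⟩ := Nat.exists_eq_add_of_le hk
  have h4 : 4 ≤ 2 ^ (2 + k') := by rw [pow_add]; have := Nat.one_le_two_pow (n := k'); omega
  have hm : Fintype.card α = 2 * 2 ^ (1 + k') + 1 := by rw [hcard]; ring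
  obtain ⟨a, z, ha, hza, hz, hfix, hswap, htrans⟩ := exists_odd_pairing hm T
  have htrans' := htrans (2 + k') (by ring)
  refine ⟨a, ha, fun M hM g hg hgA hga => ?_⟩
  have hpair : ∀ b c, b ≠ a → c ≠ a → swap b (z b) * swap c (z c) ∈ M := fun b c hb hc =>
    hM ⟨mul_mem (hswap b) (hswap c), swap_mul_swap_mem_alternating (hfix b hb).symm (hfix c hc).symm⟩
  -- the even part is transitive off `a`
  have hev : ∀ b c, b ≠ a → c ≠ a → ∃ t ∈ evenPart T, t b = c := by
    intro b c hb hc
    obtain ⟨t, ht, htb⟩ := htrans' b c hb hc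
    rcases Int.units_eq_one_or (sign t) with hs | hs
    · exact ⟨t, ⟨ht, hs⟩, htb⟩
    · obtain ⟨f, hf⟩ := exists_not_mem ({a, b, z b} : Finset α)
        (lt_of_le_of_lt Finset.card_le_three (by omega))
      simp only [Finset.mem_insert, Finset.mem_singleton, not_or] at hf
      refine ⟨t * swap f (z f), ⟨mul_mem ht (hswap f), ?_⟩, ?_⟩
      · change sign _ = 1
        rw [map_mul, hs, sign_swap (hfix f hf.1).symm, Int.units_mul_self]
      · have h1 : b ≠ z f := fun e => hf.2.2 (by rw [e, hz])
        rw [Perm.mul_apply, swap_apply_of_ne_of_ne (Ne.symm hf.2.1) h1, htb]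
  have hto : ∀ x, ∃ h ∈ M ⊓ alternatingGroup α, h a = x := by
    intro x
    by_cases hx : x = a
    · exact ⟨1, one_mem _, hx.symm⟩
    · obtain ⟨t, ht, htb⟩ := hev (g a) x hga hx
      exact ⟨t * g, ⟨mul_mem (hM ht) hg, mul_mem ht.2 hgA⟩, htb⟩
  rcases Nat.eq_zero_or_pos k' with rfl | hk'
  · -- five points
    have h5 : Fintype.card α = 5 := by simpa using hcard
    apply alternating_le_of_twenty_dvd h5
    set H := M.subgroupOf (alternatingGroup α)
    have hH5 : 5 ∣ Nat.card H := by
      have : MulAction.IsPretransitive H α := ⟨fun x y => by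
        obtain ⟨h1, h1M, h1x⟩ := hto x
        obtain ⟨h2, h2M, h2y⟩ := hto y
        have hA' : h2 * h1⁻¹ ∈ M ⊓ alternatingGroup α := mul_mem h2M (inv_mem h1M)
        obtain ⟨hM', hA'⟩ := Subgroup.mem_inf.mp hA'
        refine ⟨⟨⟨h2 * h1⁻¹, hA'⟩, Subgroup.mem_subgroupOf.mpr hM'⟩, ?_⟩
        change h2 (h1⁻¹ x) = y
        rw [← h2y, ← h1x, Perm.inv_def, Equiv.symm_apply_apply]⟩
      have := (MulAction.stabilizer H a).index_dvd_card
      rwa [MulAction.index_stabilizer_of_transitive, Nat.card_eq_fintype_card (α := α), h5] at this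
    have hH4 : 4 ∣ Nat.card H := by
      obtain ⟨b, hb⟩ := exists_ne a
      let E := evenPart T
      have horb : MulAction.orbit E b = {x | x ≠ a} := by
        ext x
        constructor
        · rintro ⟨t, rfl⟩ h
          exact hb ((t : Perm α).injective (h.trans (ha _ t.2.1).symm))
        · intro hx
          obtain ⟨t, ht, htb⟩ := hev b x hb hx
          exact ⟨⟨t, ht⟩, htb⟩
      have h1 := (MulAction.stabilizer E b).index_dvd_card
      rw [MulAction.index_stabilizer, horb] at h1
      have h2 : ({x | x ≠ a} : Set α).ncard = 4 := by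
        rw [show ({x | x ≠ a} : Set α) = {a}ᶜ from rfl, Set.ncard_compl, Set.ncard_singleton,
          Nat.card_eq_fintype_card, h5]
      rw [h2] at h1
      refine h1.trans ?_
      have : Nat.card H = Nat.card (M ⊓ alternatingGroup α : Subgroup (Perm α)) := by
        rw [← Subgroup.card_subtype (alternatingGroup α) H, Subgroup.subgroupOf_map_subtype]
      rw [this]
      exact Subgroup.card_dvd_of_le (le_inf hM inf_le_right)
    exact (show Nat.Coprime 4 5 by decide).mul_dvd_of_dvd_of_dvd hH4 hH5
  · -- at least nine points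
    have h9 : 9 ≤ Fintype.card α := by
      have : 2 ^ 3 ≤ 2 ^ (2 + k') := Nat.pow_le_pow_right two_pos (by omega)
      omega
    have h2t : MulAction.IsMultiplyPretransitive M α 2 := by
      rw [MulAction.is_two_pretransitive_iff]
      intro x y u v hxy huv
      obtain ⟨h1, h1M, h1x⟩ := hto x
      obtain ⟨h2, h2M, h2u⟩ := hto u
      have hy : h1⁻¹ y ≠ a := fun h => hxy (h1⁻¹.injective (by rw [h, ← h1x]; simp))
      have hv : h2⁻¹ v ≠ a := fun h => huv (h2⁻¹.injective (by rw [h, ← h2u]; simp))
      obtain ⟨t, ht, htb⟩ := hev _ _ hy hv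
      refine ⟨⟨h2 * t * h1⁻¹, mul_mem (mul_mem h2M.1 (hM ht)) (inv_mem h1M.1)⟩, ?_, ?_⟩
      · change h2 (t (h1⁻¹ x)) = u
        rw [← h1x]; simp [ha t ht.1, h2u]
      · change h2 (t (h1⁻¹ y)) = v
        rw [htb]; simp
    -- a double transposition moving `a`
    set p := g⁻¹ a with hp_def
    have hp : p ≠ a := fun h => hga (by
      have h1 : g p = a := by simp [p]
      rwa [h] at h1)
    obtain ⟨s, hs⟩ := exists_not_mem ({a, p, z p} : Finset α)
      (lt_of_le_of_lt Finset.card_le_three (by omega))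
    simp only [Finset.mem_insert, Finset.mem_singleton, not_or] at hs
    obtain ⟨hsa, hsp, hspz⟩ := hs
    set b := g (z p) with hb_def
    set c := g s with hc_def
    set d := g (z s) with hd_def
    have hgp : g p = a := by simp [p]
    have hab : a ≠ b := hgp ▸ g.injective.ne (hfix p hp).symm
    have hcd : c ≠ d := g.injective.ne (hfix s hsa).symm
    have hac : a ≠ c := hgp ▸ g.injective.ne (Ne.symm hsp)
    have had : a ≠ d := hgp ▸ g.injective.ne (fun e => hspz (by rw [e, hz]))
    have hbc : b ≠ c := g.injective.ne (Ne.symm hspz)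
    have hbd : b ≠ d := g.injective.ne (z.injective.ne (Ne.symm hsp))
    have hx : swap a b * swap c d ∈ M := by
      have := mul_mem (mul_mem hg (hpair p s hp hsa)) (inv_mem hg)
      rwa [swap_swap_conj, hgp] at this
    have hzne : ∀ x, x ≠ a → z x ≠ a := fun x hx h => hx (by rw [← hz x, h, hza])
    have hzb : z b ≠ a := hzne b hab.symm
    have hzc : z c ≠ a := hzne c hac.symm
    have hzd : z d ≠ a := hzne d had.symm
    have hdd : Commute (swap a b) (swap c d) :=
      Perm.Disjoint.commute (disjoint_swaps (by simp [hab, hac, had, hbc, hbd, hcd]))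
    obtain ⟨f, hf⟩ := exists_not_mem ({a, b, z b, c, z c, d, z d} : Finset α) (by
      refine lt_of_le_of_lt ?_ (show 8 < Fintype.card α by omega)
      refine (Finset.card_insert_le _ _).trans ?_
      exact (Nat.add_le_add_right Finset.card_le_six 1).trans (by norm_num))
    simp only [Finset.mem_insert, Finset.mem_singleton, not_or] at hf
    obtain ⟨fa, fb, fbz, fc, fcz, fd, fdz⟩ := hf
    have hw : ∀ q, q ≠ a → swap q (z q) * swap f (z f) ∈ M := fun q hq => hpair q f hq fa
    obtain ⟨σ, hσ, hσ3⟩ : ∃ σ ∈ M, IsThreeCycle σ := by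
      by_cases h1 : z b = c
      · -- `d` is joined to a new point
        have hdb : z d ≠ b := fun h => hcd (h1.symm.trans ((congrArg z h).symm.trans (hz d)))
        have hdc : z d ≠ c := fun h => hbd (z.injective (h1.trans h.symm))
        refine exists_threeCycle_of_double_swaps (o := c) (q := d) (u := a) (v := b) ?_
          (by rwa [← hdd.eq]) (hw d had.symm)
        have := hfix d had.symm
        have := hfix f fa
        have := hzne d had.symm
        have := hzne f fa
        simp only [List.nodup_cons, List.mem_cons, List.not_mem_nil, or_false, not_or, List.nodup_nil,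
          and_true, not_false_eq_true]
        grind
      by_cases h2 : z b = d
      · have hcb : z c ≠ b := fun h => h1 ((congrArg z h).symm.trans (hz c))
        have hcd' : z c ≠ d := fun h => hbc (z.injective (h2.trans h.symm))
        refine exists_threeCycle_of_double_swaps (o := d) (q := c) (u := a) (v := b) ?_
          (by rwa [swap_comm d c, ← hdd.eq]) (hw c hac.symm)
        have := hfix c hac.symm
        have := hfix f fa
        have := hzne f fa
        simp only [List.nodup_cons, List.mem_cons, List.not_mem_nil, or_false, not_or, List.nodup_nil,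
          and_true, not_false_eq_true]
        grind
      refine exists_threeCycle_of_double_swaps (o := a) (q := b) (u := c) (v := d) ?_ hx (hw b hab.symm)
      have := hfix b hab.symm
      have := hfix f fa
      have := hzne f fa
      simp only [List.nodup_cons, List.mem_cons, List.not_mem_nil, or_false, not_or, List.nodup_nil,
        and_true, not_false_eq_true]
      grind
    exact alternatingGroup_le_of_isPreprimitive_of_isThreeCycle_mem
      (MulAction.isPreprimitive_of_is_two_pretransitive h2t) hσ3 hσ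

end unique

section twoOvergroups

variable [Fintype α] [DecidableEq α]

/-- A point stabiliser and any even element moving the point generate the alternating group. -/
theorem alternating_le_of_stabilizer {M : Subgroup (Perm α)} {a : α} (hcard : 4 ≤ Fintype.card α)
    (hM : MulAction.stabilizer (Perm α) a ⊓ alternatingGroup α ≤ M) {g : Perm α} (hg : g ∈ M)
    (hgA : g ∈ alternatingGroup α) (hga : g a ≠ a) : alternatingGroup α ≤ M := by
  intro x hx
  by_cases hxa : x a = a
  · exact hM ⟨hxa, hx⟩
  -- move `g a` to `x a` inside the stabilizer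
  obtain ⟨h, hh, hhA, hhc⟩ : ∃ h : Perm α, h a = a ∧ h ∈ alternatingGroup α ∧ h (g a) = x a := by
    by_cases he : g a = x a
    · exact ⟨1, rfl, one_mem _, he⟩
    · obtain ⟨w, hw⟩ := exists_not_mem ({a, g a, x a} : Finset α)
        (lt_of_le_of_lt Finset.card_le_three (by omega))
      simp only [Finset.mem_insert, Finset.mem_singleton, not_or] at hw
      exact ⟨cyc (g a) (x a) w, cyc_apply_of_ne (Ne.symm hga) (Ne.symm hxa) (Ne.symm hw.1),
        cyc_mem_alternating he (Ne.symm hw.2.1) (Ne.symm hw.2.2),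
        cyc_apply_first he (Ne.symm hw.2.1)⟩
  have h1 : h * g ∈ M := mul_mem (hM ⟨hh, hhA⟩) hg
  have h2 : (h * g)⁻¹ * x ∈ M := hM ⟨by
      change (h * g)⁻¹ (x a) = a
      rw [Perm.inv_eq_iff_eq, Perm.mul_apply, hhc],
    (mul_mem (inv_mem (mul_mem hhA hgA)) hx : (h * g)⁻¹ * x ∈ alternatingGroup α)⟩
  simpa only [mul_inv_cancel_left] using mul_mem h1 h2

/-- Two overgroups of `T` which together generate the alternating group, in degree not `2 ^ k + 1`. -/
theorem exists_two_overgroups (h5 : 5 ≤ Fintype.card α) (h6 : Fintype.card α ≠ 6)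
    (hne : ¬ ∃ k, 2 ≤ k ∧ Fintype.card α = 2 ^ k + 1) (T : Sylow 2 (Perm α)) :
    ∃ K₁ K₂ : Subgroup (Perm α), (T : Subgroup (Perm α)) ≤ K₁ ∧ (T : Subgroup (Perm α)) ≤ K₂ ∧
      ¬ alternatingGroup α ≤ K₁ ∧ ¬ alternatingGroup α ≤ K₂ ∧
      ∀ M : Subgroup (Perm α), K₁ ⊓ alternatingGroup α ≤ M → K₂ ⊓ alternatingGroup α ≤ M →
        alternatingGroup α ≤ M := by
  classical
  have : Nontrivial α := Fintype.one_lt_card_iff_nontrivial.mp (by omega)
  rcases Nat.even_or_odd (Fintype.card α) with ⟨m, hm⟩ | ⟨m, hm⟩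
  · -- even degree, at least eight
    obtain ⟨z, hz, hfix, hT⟩ := exists_pairing_of_sylow (m := m) (by omega) T
    obtain ⟨p, hTp, u, v, hu, hv⟩ : ∃ p : α → Prop, (T : Subgroup (Perm α)) ≤ partStab p ∧
        ∃ u v, p u ∧ ¬ p v := by
      obtain ⟨a⟩ : Nonempty α := inferInstance
      by_cases htr : ∀ c, ∃ t ∈ (T : Subgroup (Perm α)), t a = c
      · -- transitive: use a subgroup of index two containing the stabilizer of `a`
        have : MulAction.IsPretransitive (T : Subgroup (Perm α)) α := ⟨fun x y => by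
          obtain ⟨t1, h1, h1x⟩ := htr x
          obtain ⟨t2, h2, h2y⟩ := htr y
          refine ⟨⟨t2 * t1⁻¹, mul_mem h2 (inv_mem h1)⟩, ?_⟩
          change t2 (t1⁻¹ x) = y
          rw [← h2y, ← h1x, Perm.inv_def, Equiv.symm_apply_apply]⟩
        obtain ⟨e, he⟩ := T.isPGroup'.exists_card_eq
        obtain ⟨j, hj⟩ := (T.isPGroup'.to_subgroup
          (MulAction.stabilizer (T : Subgroup (Perm α)) a)).exists_card_eq
        have hidx := (MulAction.stabilizer (T : Subgroup (Perm α)) a).card_mul_index
        rw [MulAction.index_stabilizer_of_transitive, hj, he, Nat.card_eq_fintype_card] at hidx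
        have hje : j < e := by
          have h1 : 2 ^ j < 2 ^ e := by
            rw [← hidx]; exact lt_mul_of_one_lt_right (by positivity) (by omega)
          exact (Nat.pow_lt_pow_iff_right (by norm_num)).mp h1
        obtain ⟨H, hH, hHa⟩ := Sylow.exists_subgroup_card_pow_prime_le 2
          (m := e - 1) (by rw [he]; exact pow_dvd_pow 2 (by omega))
          (MulAction.stabilizer (T : Subgroup (Perm α)) a) hj (by omega)
        have hH2 : H.index = 2 := by
          have h1 := H.card_mul_index
          rw [hH, he, show e = e - 1 + 1 by omega, pow_succ, Nat.add_sub_cancel] at h1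
          exact Nat.eq_of_mul_eq_mul_left (by positivity) h1
        let p : α → Prop := fun x => ∃ h ∈ H, h • a = x
        have hmem : ∀ s : (T : Subgroup (Perm α)), p (s • a) ↔ s ∈ H := fun s => by
          refine ⟨?_, fun hs => ⟨s, hs, rfl⟩⟩
          rintro ⟨h, hh, hhs⟩
          have h1 : h⁻¹ * s ∈ H := hHa (by
            rw [MulAction.mem_stabilizer_iff, mul_smul, ← hhs, inv_smul_smul])
          simpa using mul_mem hh h1
        refine ⟨p, fun t ht x y => ?_, a, ?_⟩
        · have key : ∀ x, p (t x) ↔ ((⟨t, ht⟩ : (T : Subgroup (Perm α))) ∈ H ↔ p x) := by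
            intro x
            obtain ⟨s, rfl⟩ := MulAction.exists_smul_eq (T : Subgroup (Perm α)) a x
            change p (((⟨t, ht⟩ : (T : Subgroup (Perm α))) • (s • a))) ↔ _
            rw [← mul_smul, hmem, hmem, Subgroup.mul_mem_iff_of_index_two hH2]
          rw [key, key]
          by_cases h : (⟨t, ht⟩ : (T : Subgroup (Perm α))) ∈ H <;> simp [h, not_iff_not]
        · obtain ⟨t, ht⟩ : ∃ t, t ∉ H := by
            by_contra! h
            rw [(Subgroup.eq_top_iff' H).mpr h, Subgroup.index_top] at hH2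
            omega
          exact ⟨t • a, ⟨1, one_mem H, one_smul _ a⟩, fun h => ht ((hmem t).mp h)⟩
      · push Not at htr
        obtain ⟨c, hc⟩ := htr
        refine ⟨fun x => ∃ t ∈ (T : Subgroup (Perm α)), t a = x, fun g hg => ?_, a, c,
          ⟨1, one_mem _, rfl⟩, fun ⟨t, ht, htc⟩ => hc t ht htc⟩
        refine mem_partStab_of_forall fun x => ⟨?_, ?_⟩
        · rintro ⟨t, ht, htx⟩
          exact ⟨g⁻¹ * t, mul_mem (inv_mem hg) ht, by simp [htx]⟩
        · rintro ⟨t, ht, rfl⟩
          exact ⟨g * t, mul_mem hg ht, rfl⟩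
    refine ⟨_, partStab p, hT, hTp, ?_, not_alternating_le_partStab h5 hu hv, ?_⟩
    · intro hle
      obtain ⟨a⟩ : Nonempty α := inferInstance
      obtain ⟨c, hc⟩ := exists_not_mem ({a, z a} : Finset α)
        (lt_of_le_of_lt Finset.card_le_two (by omega))
      simp only [Finset.mem_insert, Finset.mem_singleton, not_or] at hc
      have hA := cyc_mem_alternating (hfix a).symm (Ne.symm hc.1) (Ne.symm hc.2)
      have := pair_commute_apply (hle hA) (z a)
      rw [hz, cyc_apply_first (hfix a).symm (Ne.symm hc.1),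
        cyc_apply_second (Ne.symm hc.1) (Ne.symm hc.2)] at this
      exact hc.1 (z.injective this).symm
    · intro M h1 h2
      obtain ⟨x, y, w, hxy, hxw, hyw, hp1, hp2⟩ := exists_same_part p h5
      exact alternating_le_of_evenCent_of_cyc hz hfix (by omega) h1 hxy hxw hyw
        (h2 ⟨cyc_mem_partStab hp1 hp2, cyc_mem_alternating hxy hxw hyw⟩)
  · -- odd degree
    obtain ⟨a, z, ha, hza, hz, hfix, hswap, -⟩ := exists_odd_pairing hm T
    obtain ⟨b, hb⟩ := exists_ne a
    let p : α → Prop := fun x => ∃ t ∈ (T : Subgroup (Perm α)), t b = x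
    have hTp : (T : Subgroup (Perm α)) ≤ partStab p := fun g hg => by
      refine mem_partStab_of_forall fun x => ⟨?_, ?_⟩
      · rintro ⟨t, ht, htx⟩
        exact ⟨g⁻¹ * t, mul_mem (inv_mem hg) ht, by simp [htx]⟩
      · rintro ⟨t, ht, rfl⟩
        exact ⟨g * t, mul_mem hg ht, rfl⟩
    have hpa : ¬ p a := fun ⟨t, ht, h⟩ => hb (t.injective (h.trans (ha t ht).symm))
    obtain ⟨c, hca, hpc⟩ : ∃ c, c ≠ a ∧ ¬ p c := by
      by_contra! hall
      apply hne
      have horb : MulAction.orbit (T : Subgroup (Perm α)) b = {x | x ≠ a} := by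
        ext x
        constructor
        · rintro ⟨t, rfl⟩ h
          exact hpa ⟨t, t.2, h⟩
        · intro hx
          obtain ⟨t, ht, htb⟩ := hall x hx
          exact ⟨⟨t, ht⟩, htb⟩
      obtain ⟨i, hi⟩ := T.isPGroup'.card_orbit (α := α) b
      rw [horb, Nat.card_coe_set_eq, show ({x | x ≠ a} : Set α) = {a}ᶜ from rfl, Set.ncard_compl,
        Set.ncard_singleton, Nat.card_eq_fintype_card] at hi
      refine ⟨i, ?_, by omega⟩
      rcases i with _ | _ | i <;> simp at hi ⊢ <;> omega
    refine ⟨MulAction.stabilizer (Perm α) a, partStab p, fun t ht => ha t ht, hTp, ?_,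
      not_alternating_le_partStab h5 (⟨1, one_mem _, rfl⟩ : p b) hpa, ?_⟩
    · intro hle
      have := hle (cyc_mem_alternating hca.symm (Ne.symm hb) (fun h => hpc (h ▸ ⟨1, one_mem _, rfl⟩)))
      rw [MulAction.mem_stabilizer_iff] at this
      exact hca ((cyc_apply_first hca.symm hb.symm).symm.trans this)
    · intro M h1 h2
      have hac : p a ↔ p c := iff_of_false hpa hpc
      by_cases h3 : ∃ d, d ≠ a ∧ d ≠ c ∧ ¬ p d
      · obtain ⟨d, hda, hdc, hpd⟩ := h3
        refine alternating_le_of_stabilizer (by omega) h1 (g := cyc a c d)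
          (h2 ⟨cyc_mem_partStab hac (iff_of_false hpc hpd), cyc_mem_alternating hca.symm hda.symm hdc.symm⟩)
          (cyc_mem_alternating hca.symm hda.symm hdc.symm) ?_
        rw [cyc_apply_first hca.symm hda.symm]; exact hca
      · push Not at h3
        obtain ⟨u, hu⟩ := exists_not_mem ({a, c} : Finset α)
          (lt_of_le_of_lt Finset.card_le_two (by omega))
        obtain ⟨v, hv⟩ := exists_not_mem ({a, c, u} : Finset α)
          (lt_of_le_of_lt Finset.card_le_three (by omega))
        simp only [Finset.mem_insert, Finset.mem_singleton, not_or] at hu hv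
        have hA := swap_mul_swap_mem_alternating hca.symm (Ne.symm hv.2.2)
        refine alternating_le_of_stabilizer (by omega) h1 (g := swap a c * swap u v)
          (h2 ⟨mul_mem (swap_mem_partStab hac)
            (swap_mem_partStab (iff_of_true (h3 u hu.1 hu.2) (h3 v hv.1 hv.2.1))), hA⟩) hA ?_
        rw [Perm.mul_apply, swap_apply_of_ne_of_ne (Ne.symm hu.1) (Ne.symm hv.1), swap_apply_left]
        exact hca

end twoOvergroups

end H63
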