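import Mathlib

/-!
The numerical part of the determination of the largest abelian subgroups of symmetric and
alternating groups: the largest product of a multiset of positive integers of given sum,
with or without the part `2`.
-/

set_option autoImplicit false

namespace H63

/-- Largest product of positive integers with sum `n`. -/
def maxProdSym : ℕ → ℕ
  | 0 => 1
  | 1 => 1
  | 2 => 2
  | 3 => 3
  | 4 => 4
  | n + 5 => 3 * maxProdSym (n + 2)

/-- Largest product of positive integers different from `2` with sum `n`. -/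
def maxProdAlt : ℕ → ℕ
  | 0 => 1
  | 1 => 1
  | 2 => 1
  | 3 => 3
  | 4 => 4
  | 5 => 5
  | 6 => 9
  | 7 => 12
  | 8 => 16
  | n + 9 => 3 * maxProdAlt (n + 6)

theorem maxProdSym_add_three {m : ℕ} (h : 2 ≤ m) : maxProdSym (m + 3) = 3 * maxProdSym m := by
  obtain ⟨m, rfl⟩ := Nat.exists_eq_add_of_le' h
  rw [maxProdSym]

theorem maxProdAlt_add_three {m : ℕ} (h : 6 ≤ m) : maxProdAlt (m + 3) = 3 * maxProdAlt m := by
  obtain ⟨m, rfl⟩ := Nat.exists_eq_add_of_le' h
  rw [maxProdAlt]

theorem small_mul_maxProdSym (k : ℕ) (hk : 1 ≤ k) (hk' : k ≤ 4) :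
    ∀ m, k * maxProdSym m ≤ maxProdSym (k + m) := by
  intro m
  induction m using Nat.strong_induction_on with
  | _ m ih =>
    rcases Nat.lt_or_ge m 5 with hm | hm
    · interval_cases k <;> interval_cases m <;> simp [maxProdSym]
    · obtain ⟨m, rfl⟩ := Nat.exists_eq_add_of_le' (show 3 ≤ m by omega)
      rw [← Nat.add_assoc, maxProdSym_add_three (by omega), maxProdSym_add_three (by omega)]
      have := ih m (by omega)
      linarith

theorem mul_maxProdSym : ∀ k, 1 ≤ k → ∀ m, k * maxProdSym m ≤ maxProdSym (k + m) := by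
  intro k
  induction k using Nat.strong_induction_on with
  | _ k ih =>
    intro hk m
    rcases Nat.lt_or_ge k 5 with h | h
    · exact small_mul_maxProdSym k hk (by omega) m
    · calc k * maxProdSym m ≤ (2 * (k - 2)) * maxProdSym m := Nat.mul_le_mul_right _ (by omega)
        _ = 2 * ((k - 2) * maxProdSym m) := by ring
        _ ≤ 2 * maxProdSym (k - 2 + m) := Nat.mul_le_mul_left _ (ih (k - 2) (by omega) (by omega) m)
        _ ≤ maxProdSym (2 + (k - 2 + m)) := small_mul_maxProdSym 2 (by norm_num) (by norm_num) _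
        _ = maxProdSym (k + m) := by congr 1; omega

theorem small_mul_maxProdAlt (k : ℕ) (hk : 1 ≤ k) (hk' : k ≤ 5) (hk2 : k ≠ 2) :
    ∀ m, k * maxProdAlt m ≤ maxProdAlt (k + m) := by
  intro m
  induction m using Nat.strong_induction_on with
  | _ m ih =>
    rcases Nat.lt_or_ge m 9 with hm | hm
    · interval_cases k <;> first | omega | (interval_cases m <;> simp [maxProdAlt])
    · obtain ⟨m, rfl⟩ := Nat.exists_eq_add_of_le' (show 3 ≤ m by omega)
      rw [← Nat.add_assoc, maxProdAlt_add_three (by omega), maxProdAlt_add_three (by omega)]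
      have := ih m (by omega)
      linarith

theorem mul_maxProdAlt : ∀ k, 1 ≤ k → k ≠ 2 → ∀ m, k * maxProdAlt m ≤ maxProdAlt (k + m) := by
  intro k
  induction k using Nat.strong_induction_on with
  | _ k ih =>
    intro hk hk2 m
    rcases Nat.lt_or_ge k 6 with h | h
    · exact small_mul_maxProdAlt k hk (by omega) hk2 m
    · calc k * maxProdAlt m ≤ (3 * (k - 3)) * maxProdAlt m := Nat.mul_le_mul_right _ (by omega)
        _ = 3 * ((k - 3) * maxProdAlt m) := by ring
        _ ≤ 3 * maxProdAlt (k - 3 + m) := Nat.mul_le_mul_left _ (ih (k - 3) (by omega) (by omega) (by omega) m)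
        _ ≤ maxProdAlt (3 + (k - 3 + m)) := small_mul_maxProdAlt 3 (by norm_num) (by norm_num) (by norm_num) _
        _ = maxProdAlt (k + m) := by congr 1; omega

theorem maxProdAlt_pos : ∀ n, 0 < maxProdAlt n := by
  intro n
  induction n using Nat.strong_induction_on with
  | _ n ih =>
    rcases Nat.lt_or_ge n 9 with h | h
    · interval_cases n <;> simp [maxProdAlt]
    · obtain ⟨n, rfl⟩ := Nat.exists_eq_add_of_le' h
      rw [maxProdAlt]
      exact Nat.mul_pos (by norm_num) (ih _ (by omega))

/-- A transposition orbit loses: `maxProdSym n < 2 * maxProdAlt n` for `n ≥ 3`. -/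
theorem maxProdSym_lt : ∀ n, 3 ≤ n → maxProdSym n < 2 * maxProdAlt n := by
  intro n
  induction n using Nat.strong_induction_on with
  | _ n ih =>
    intro hn
    rcases Nat.lt_or_ge n 9 with h | h
    · interval_cases n <;> simp [maxProdSym, maxProdAlt]
    · obtain ⟨n, rfl⟩ := Nat.exists_eq_add_of_le' (show 3 ≤ n by omega)
      rw [maxProdSym_add_three (by omega), maxProdAlt_add_three (by omega)]
      have := ih n (by omega) (by omega)
      omega

theorem maxProdSym_le (n : ℕ) : maxProdSym n ≤ 2 * maxProdAlt n := by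
  rcases Nat.lt_or_ge n 3 with h | h
  · interval_cases n <;> simp [maxProdSym, maxProdAlt]
  · exact (maxProdSym_lt n h).le

theorem strict_one : ∀ m, 2 ≤ m → maxProdAlt m < maxProdAlt (1 + m) := by
  intro m
  induction m using Nat.strong_induction_on with
  | _ m ih =>
    intro hm
    rcases Nat.lt_or_ge m 9 with h | h
    · interval_cases m <;> simp [maxProdAlt]
    · obtain ⟨m, rfl⟩ := Nat.exists_eq_add_of_le' (show 3 ≤ m by omega)
      rw [← Nat.add_assoc, maxProdAlt_add_three (by omega), maxProdAlt_add_three (by omega)]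
      have := ih m (by omega) (by omega)
      omega

theorem strict_five : ∀ m, 1 ≤ m → 5 * maxProdAlt m < maxProdAlt (5 + m) := by
  intro m
  induction m using Nat.strong_induction_on with
  | _ m ih =>
    intro hm
    rcases Nat.lt_or_ge m 9 with h | h
    · interval_cases m <;> simp [maxProdAlt]
    · obtain ⟨m, rfl⟩ := Nat.exists_eq_add_of_le' (show 3 ≤ m by omega)
      rw [← Nat.add_assoc, maxProdAlt_add_three (by omega), maxProdAlt_add_three (by omega)]
      have := ih m (by omega) (by omega)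
      omega

theorem strict_large {k : ℕ} (hk : 6 ≤ k) (m : ℕ) : k * maxProdAlt m < maxProdAlt (k + m) :=
  calc k * maxProdAlt m < (3 * (k - 3)) * maxProdAlt m :=
        Nat.mul_lt_mul_of_pos_right (by omega) (maxProdAlt_pos m)
    _ = 3 * ((k - 3) * maxProdAlt m) := by ring
    _ ≤ 3 * maxProdAlt (k - 3 + m) := Nat.mul_le_mul_left _ (mul_maxProdAlt _ (by omega) (by omega) m)
    _ ≤ maxProdAlt (3 + (k - 3 + m)) := mul_maxProdAlt 3 (by norm_num) (by norm_num) _
    _ = maxProdAlt (k + m) := by congr 1; omega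

theorem prod_le_maxProdSym (s : Multiset ℕ) (h : ∀ k ∈ s, 1 ≤ k) : s.prod ≤ maxProdSym s.sum := by
  induction s using Multiset.induction_on with
  | empty => simp [maxProdSym]
  | cons k s ih =>
    rw [Multiset.prod_cons, Multiset.sum_cons]
    exact le_trans (Nat.mul_le_mul_left _ (ih fun a ha => h a (Multiset.mem_cons_of_mem ha)))
      (mul_maxProdSym k (h k (Multiset.mem_cons_self _ _)) _)

theorem prod_le_maxProdAlt (s : Multiset ℕ) (h : ∀ k ∈ s, 1 ≤ k ∧ k ≠ 2) : s.prod ≤ maxProdAlt s.sum := by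
  induction s using Multiset.induction_on with
  | empty => simp [maxProdAlt]
  | cons k s ih =>
    rw [Multiset.prod_cons, Multiset.sum_cons]
    exact le_trans (Nat.mul_le_mul_left _ (ih fun a ha => h a (Multiset.mem_cons_of_mem ha)))
      (mul_maxProdAlt k (h k (Multiset.mem_cons_self _ _)).1 (h k (Multiset.mem_cons_self _ _)).2 _)

/-- The maximising multiset is unique, and has parts `3`, `4` only, for sums at least `6`. -/
theorem maximiser_parts (s : Multiset ℕ) (h : ∀ k ∈ s, 1 ≤ k ∧ k ≠ 2) (hn : 6 ≤ s.sum)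
    (heq : s.prod = maxProdAlt s.sum) : ∀ k ∈ s, k = 3 ∨ k = 4 := by
  intro k hk
  obtain ⟨t, rfl⟩ := Multiset.exists_cons_of_mem hk
  rw [Multiset.prod_cons, Multiset.sum_cons] at heq
  rw [Multiset.sum_cons] at hn
  have ht := prod_le_maxProdAlt t fun a ha => h a (Multiset.mem_cons_of_mem ha)
  have h1 : maxProdAlt (k + t.sum) ≤ k * maxProdAlt t.sum := heq ▸ Nat.mul_le_mul_left _ ht
  obtain ⟨hk1, hk2⟩ := h k hk
  rcases Nat.lt_or_ge k 6 with hlt | hge
  · interval_cases k
    · exact absurd (strict_one t.sum (by omega)) (by omega)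
    · omega
    · omega
    · omega
    · exact absurd (strict_five t.sum (by omega)) (by omega)
  · exact absurd (strict_large hge t.sum) (by omega)

theorem maximiser_unique (s t : Multiset ℕ) (hs : ∀ k ∈ s, 1 ≤ k ∧ k ≠ 2) (ht : ∀ k ∈ t, 1 ≤ k ∧ k ≠ 2)
    (hsum : s.sum = t.sum) (hn : 6 ≤ s.sum) (hs' : s.prod = maxProdAlt s.sum) (ht' : t.prod = maxProdAlt t.sum) :
    s = t := by
  have key : ∀ u : Multiset ℕ, (∀ k ∈ u, 1 ≤ k ∧ k ≠ 2) → 6 ≤ u.sum → u.prod = maxProdAlt u.sum →
      u.count 4 ≤ 2 ∧ u.sum = 3 * u.count 3 + 4 * u.count 4 ∧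
      u = Multiset.replicate (u.count 3) 3 + Multiset.replicate (u.count 4) 4 := by
    intro u hu hun hu'
    have h34 := maximiser_parts u hu hun hu'
    have hdec : u = Multiset.replicate (u.count 3) 3 + Multiset.replicate (u.count 4) 4 := by
      ext a
      rw [Multiset.count_add, Multiset.count_replicate, Multiset.count_replicate]
      by_cases h3 : a = 3
      · subst h3; simp
      by_cases h4 : a = 4
      · subst h4; simp
      rw [if_neg (Ne.symm h3), if_neg (Ne.symm h4), add_zero,
        Multiset.count_eq_zero.mpr fun ha => (h34 a ha).elim h3 h4]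
    refine ⟨?_, ?_, hdec⟩
    · by_contra hc
      obtain ⟨v, hv⟩ := Multiset.le_iff_exists_add.mp
        (Multiset.le_count_iff_replicate_le.mp (show 3 ≤ u.count 4 by omega))
      rw [hv] at hu hu'
      have hvle := prod_le_maxProdAlt v fun a ha => hu a (Multiset.mem_add.mpr (Or.inr ha))
      simp only [Multiset.prod_add, Multiset.prod_replicate, Multiset.sum_add, Multiset.sum_replicate,
        smul_eq_mul] at hu'
      have h1 := mul_maxProdAlt 3 (by norm_num) (by norm_num)
      have h81 : 81 * maxProdAlt v.sum ≤ maxProdAlt (3 * 4 + v.sum) := by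
        have a1 := h1 v.sum
        have a2 := h1 (3 + v.sum)
        have a3 := h1 (3 + (3 + v.sum))
        have a4 := h1 (3 + (3 + (3 + v.sum)))
        rw [show 3 * 4 + v.sum = 3 + (3 + (3 + (3 + v.sum))) by ring]
        omega
      have := maxProdAlt_pos v.sum
      rw [show (4 : ℕ) ^ 3 = 64 by norm_num] at hu'
      omega
    · conv_lhs => rw [hdec]
      simp [mul_comm]
  obtain ⟨a1, a2, a3⟩ := key s hs hn hs'
  obtain ⟨b1, b2, b3⟩ := key t ht (hsum ▸ hn) ht'
  rw [a3, b3, show s.count 3 = t.count 3 by omega, show s.count 4 = t.count 4 by omega]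

theorem maxProdSym_values (k : ℕ) (hk : 1 ≤ k) :
    maxProdSym (3 * k) = 3 ^ k ∧ maxProdSym (3 * k + 1) = 4 * 3 ^ (k - 1) ∧ maxProdSym (3 * k + 2) = 2 * 3 ^ k := by
  induction k, hk using Nat.le_induction with
  | base => simp [maxProdSym]
  | succ k hk ih =>
    obtain ⟨h1, h2, h3⟩ := ih
    have hpow : 3 ^ k = 3 * 3 ^ (k - 1) := by rw [← pow_succ', Nat.sub_add_cancel hk]
    refine ⟨?_, ?_, ?_⟩
    · rw [show 3 * (k + 1) = 3 * k + 3 by ring, maxProdSym_add_three (by omega), h1, pow_succ']
    · rw [show 3 * (k + 1) + 1 = 3 * k + 1 + 3 by ring, maxProdSym_add_three (by omega), h2, Nat.add_sub_cancel, hpow]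
      ring
    · rw [show 3 * (k + 1) + 2 = 3 * k + 2 + 3 by ring, maxProdSym_add_three (by omega), h3, pow_succ']
      ring

theorem maxProdAlt_values (k : ℕ) (hk : 2 ≤ k) :
    maxProdAlt (3 * k) = 3 ^ k ∧ maxProdAlt (3 * k + 1) = 4 * 3 ^ (k - 1) ∧ maxProdAlt (3 * k + 2) = 16 * 3 ^ (k - 2) := by
  induction k, hk using Nat.le_induction with
  | base => simp [maxProdAlt]
  | succ k hk ih =>
    obtain ⟨h1, h2, h3⟩ := ih
    have hpow : 3 ^ k = 3 * 3 ^ (k - 1) := by rw [← pow_succ', Nat.sub_add_cancel (by omega)]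
    have hpow' : 3 ^ (k - 1) = 3 * 3 ^ (k - 2) := by rw [← pow_succ']; congr 1; omega
    refine ⟨?_, ?_, ?_⟩
    · rw [show 3 * (k + 1) = 3 * k + 3 by ring, maxProdAlt_add_three (by omega), h1, pow_succ']
    · rw [show 3 * (k + 1) + 1 = 3 * k + 1 + 3 by ring, maxProdAlt_add_three (by omega), h2, Nat.add_sub_cancel, hpow]
      ring
    · rw [show 3 * (k + 1) + 2 = 3 * k + 2 + 3 by ring, maxProdAlt_add_three (by omega), h3,
        show k + 1 - 2 = k - 1 by omega, hpow']
      ring

end H63
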