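import Mathlib
import Cfsg.Agent.H63.AbelianArith

/-!
Abelian permutation groups: the order is at most the product of the orbit sizes, and the extremal
even ones are determined by their orbits.
-/

set_option autoImplicit false
set_option linter.unusedSectionVars false
set_option linter.style.haveILetI false

namespace H63

open Equiv Equiv.Perm

universe u

variable {α : Type u}

/-- The orbits of a permutation group. -/
abbrev Orb (A : Subgroup (Perm α)) := MulAction.orbitRel.Quotient A α

/-- The orbit containing a point. -/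
def orbOf (A : Subgroup (Perm α)) (a : α) : Orb A := Quotient.mk'' a

theorem orbOf_eq_iff (A : Subgroup (Perm α)) {a b : α} :
    orbOf A a = orbOf A b ↔ ∃ g ∈ A, g b = a := by
  constructor
  · intro h
    obtain ⟨g, hg⟩ := (Quotient.eq''.mp h : MulAction.orbitRel A α a b)
    exact ⟨g, g.2, hg⟩
  · rintro ⟨g, hg, rfl⟩
    exact Quotient.sound' ⟨⟨g, hg⟩, rfl⟩

theorem orbOf_apply {A : Subgroup (Perm α)} {g : Perm α} (hg : g ∈ A) (a : α) :
    orbOf A (g a) = orbOf A a :=
  (orbOf_eq_iff A).mpr ⟨g, hg, rfl⟩

/-- In an abelian group, two elements agreeing at a point agree on its orbit. -/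
theorem agree_on_orbit {A : Subgroup (Perm α)} (hA : IsMulCommutative A) {g h : Perm α}
    (hg : g ∈ A) (hh : h ∈ A) {a x : α} (hga : g a = h a) (hx : orbOf A x = orbOf A a) : g x = h x := by
  obtain ⟨k, hk, rfl⟩ := (orbOf_eq_iff A).mp hx
  have c1 : g * k = k * g := congrArg Subtype.val (hA.is_comm.comm ⟨g, hg⟩ ⟨k, hk⟩)
  have c2 : h * k = k * h := congrArg Subtype.val (hA.is_comm.comm ⟨h, hh⟩ ⟨k, hk⟩)
  rw [← Perm.mul_apply, c1, Perm.mul_apply, hga, ← Perm.mul_apply, ← c2, Perm.mul_apply]

variable [Fintype α] [DecidableEq α]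

/-- The size of an orbit. -/
noncomputable def orbSize (A : Subgroup (Perm α)) (o : Orb A) : ℕ := Nat.card {x : α // orbOf A x = o}

/-- The multiset of orbit sizes. -/
noncomputable def orbSizes (A : Subgroup (Perm α)) [Fintype (Orb A)] : Multiset ℕ :=
  Finset.univ.val.map (orbSize A)

section bounds

variable (A : Subgroup (Perm α)) [Fintype (Orb A)]

theorem orbSizes_sum : (orbSizes A).sum = Fintype.card α := by
  classical
  change ∑ o, orbSize A o = _
  simp only [orbSize, Nat.card_eq_fintype_card]
  rw [← Fintype.card_sigma]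
  exact Fintype.card_congr (Equiv.sigmaFiberEquiv (orbOf A))

theorem orbSizes_prod : (orbSizes A).prod = ∏ o, orbSize A o := rfl

omit [Fintype (Orb A)] [DecidableEq α] in
theorem orbSize_pos (o : Orb A) : 0 < orbSize A o := by
  induction o using Quotient.inductionOn' with
  | h a =>
    haveI : Nonempty {x : α // orbOf A x = Quotient.mk'' a} := ⟨⟨a, rfl⟩⟩
    exact Nat.card_pos

theorem orbSizes_pos : ∀ k ∈ orbSizes A, 1 ≤ k := by
  intro k hk
  obtain ⟨o, -, rfl⟩ := Multiset.mem_map.mp hk
  exact orbSize_pos A o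

/-- The tuple of images of chosen base points, one in each orbit. -/
def imagesOf (base : Orb A → α) (hbase : ∀ o, orbOf A (base o) = o) (g : A) :
    (o : Orb A) → {x : α // orbOf A x = o} :=
  fun o => ⟨(g : Perm α) (base o), (orbOf_apply g.2 _).trans (hbase o)⟩

variable {A}

omit [Fintype α] [DecidableEq α] [Fintype (Orb A)] in
theorem imagesOf_injective (hA : IsMulCommutative A) (base : Orb A → α) (hbase : ∀ o, orbOf A (base o) = o) :
    Function.Injective (imagesOf A base hbase) := by
  intro g h hgh
  apply Subtype.ext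
  ext x : 1
  exact agree_on_orbit hA g.2 h.2 (congrArg Subtype.val (congrFun hgh (orbOf A x)))
    (hbase (orbOf A x)).symm

theorem card_le_prod (hA : IsMulCommutative A) : Nat.card A ≤ ∏ o, orbSize A o := by
  have h := Nat.card_le_card_of_injective _
    (imagesOf_injective hA (fun o => o.out) (fun o => o.out_eq))
  rwa [Nat.card_pi] at h

theorem imagesOf_surjective (hA : IsMulCommutative A) (hcard : Nat.card A = ∏ o, orbSize A o)
    (base : Orb A → α) (hbase : ∀ o, orbOf A (base o) = o) :
    Function.Surjective (imagesOf A base hbase) := by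
  refine ((Nat.bijective_iff_injective_and_card _).mpr ⟨imagesOf_injective hA base hbase, ?_⟩).2
  rw [Nat.card_pi]
  exact hcard

theorem sign_moves_pair (g h : Perm α) (a b : α) (hab : a ≠ b) (hs : ∀ x, x ≠ a → x ≠ b → g x = h x)
    (hsg : sign g = sign h) : g = h := by
  by_contra hne
  have hk : g⁻¹ * h ≠ 1 := fun hc => hne (inv_mul_eq_one.mp hc)
  have hsupp : (g⁻¹ * h).support ⊆ {a, b} := by
    intro x hx
    rw [mem_support, Perm.mul_apply, Ne, Perm.inv_eq_iff_eq] at hx
    simp only [Finset.mem_insert, Finset.mem_singleton]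
    by_contra hc
    push Not at hc
    exact hx (hs x hc.1 hc.2).symm
  have hc2 : (g⁻¹ * h).support.card = 2 :=
    le_antisymm ((Finset.card_le_card hsupp).trans (by rw [Finset.card_pair hab]))
      (two_le_card_support_of_ne_one hk)
  have h2 := Perm.IsSwap.sign_eq (card_support_eq_two.mp hc2)
  rw [map_mul, map_inv, hsg, inv_mul_cancel] at h2
  exact absurd h2 (by decide)

/-- An even abelian group with an orbit of size two has at most half the maximal order. -/
theorem two_mul_card_le_of_pair (hA : IsMulCommutative A) (hev : A ≤ alternatingGroup α)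
    (o : Orb A) (ho : orbSize A o = 2) : 2 * Nat.card A ≤ ∏ o, orbSize A o := by
  classical
  let f : A → (o' : {o' : Orb A // o' ≠ o}) → {x : α // orbOf A x = o'.1} :=
    fun g o' => imagesOf A (fun o => o.out) (fun o => o.out_eq) g o'.1
  have hf : Function.Injective f := by
    intro g h hgh
    have hcard : Fintype.card {x : α // orbOf A x = o} = 2 := by rw [← Nat.card_eq_fintype_card]; exact ho
    obtain ⟨a, b, hab, huniv⟩ := Finset.card_eq_two.mp (Finset.card_univ.trans hcard)
    refine Subtype.ext (sign_moves_pair (g : Perm α) h a b (fun hc => hab (Subtype.ext hc)) ?_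
      ((show sign (g : Perm α) = 1 from hev g.2).trans (show sign (h : Perm α) = 1 from hev h.2).symm))
    intro x hxa hxb
    by_cases hx : orbOf A x = o
    · have : (⟨x, hx⟩ : {x : α // orbOf A x = o}) ∈ ({a, b} : Finset _) := huniv ▸ Finset.mem_univ _
      simp only [Finset.mem_insert, Finset.mem_singleton] at this
      rcases this with h1 | h1
      · exact absurd (congrArg Subtype.val h1) hxa
      · exact absurd (congrArg Subtype.val h1) hxb
    · exact agree_on_orbit hA g.2 h.2 (congrArg Subtype.val (congrFun hgh ⟨orbOf A x, hx⟩))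
        (Quotient.out_eq (orbOf A x)).symm
  have hle := Nat.card_le_card_of_injective f hf
  rw [Nat.card_pi] at hle
  rw [Fintype.prod_eq_mul_prod_subtype_ne (fun o => orbSize A o) o, ho]
  exact Nat.mul_le_mul_left 2 hle

theorem card_le_maxProdSym (hA : IsMulCommutative A) : Nat.card A ≤ maxProdSym (Fintype.card α) := by
  rw [← orbSizes_sum A]
  exact (card_le_prod hA).trans (prod_le_maxProdSym _ (orbSizes_pos A))

theorem card_le_maxProdAlt (hA : IsMulCommutative A) (hev : A ≤ alternatingGroup α) :
    Nat.card A ≤ maxProdAlt (Fintype.card α) := by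
  by_cases h2 : ∃ o, orbSize A o = 2
  · obtain ⟨o, ho⟩ := h2
    have h1 := two_mul_card_le_of_pair hA hev o ho
    have h3 := prod_le_maxProdSym _ (orbSizes_pos A)
    rw [orbSizes_sum] at h3
    have h4 := maxProdSym_le (Fintype.card α)
    rw [orbSizes_prod] at h3
    omega
  · rw [← orbSizes_sum A]
    refine (card_le_prod hA).trans (prod_le_maxProdAlt _ fun k hk => ⟨orbSizes_pos A k hk, ?_⟩)
    obtain ⟨o, -, rfl⟩ := Multiset.mem_map.mp hk
    exact fun h => h2 ⟨o, h⟩

theorem maximal_alt_structure (hA : IsMulCommutative A) (hev : A ≤ alternatingGroup α)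
    (hn : 3 ≤ Fintype.card α) (hcard : Nat.card A = maxProdAlt (Fintype.card α)) :
    Nat.card A = ∏ o, orbSize A o ∧ (∀ k ∈ orbSizes A, 1 ≤ k ∧ k ≠ 2) ∧
      (orbSizes A).prod = maxProdAlt (orbSizes A).sum := by
  have hno : ∀ o, orbSize A o ≠ 2 := by
    intro o ho
    have h1 := two_mul_card_le_of_pair hA hev o ho
    have h3 := prod_le_maxProdSym _ (orbSizes_pos A)
    rw [orbSizes_sum, orbSizes_prod] at h3
    have h4 := maxProdSym_lt _ hn
    omega
  have hparts : ∀ k ∈ orbSizes A, 1 ≤ k ∧ k ≠ 2 := fun k hk => ⟨orbSizes_pos A k hk, by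
    obtain ⟨o, -, rfl⟩ := Multiset.mem_map.mp hk
    exact hno o⟩
  have h1 := card_le_prod hA
  have h2 := prod_le_maxProdAlt _ hparts
  rw [orbSizes_sum] at h2 ⊢
  rw [orbSizes_prod] at h2 ⊢
  exact ⟨by omega, hparts, by omega⟩

end bounds

section criterion

variable {A : Subgroup (Perm α)} [Fintype (Orb A)]

/-- Regular Klein four groups: in an extremal even group an element squares to the identity on an
orbit of size four. -/
theorem apply_apply_of_size_four (hA : IsMulCommutative A) (hev : A ≤ alternatingGroup α)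
    (hcard : Nat.card A = ∏ o, orbSize A o) {g : Perm α} (hg : g ∈ A) {a : α}
    (h4 : orbSize A (orbOf A a) = 4) : g (g a) = a := by
  classical
  by_contra hne
  have hga : g a ≠ a := fun h => hne (by rw [h, h])
  let base : Orb A → α := fun o => if o = orbOf A a then a else o.out
  have hbase : ∀ o, orbOf A (base o) = o := by
    intro o
    simp only [base]
    split_ifs with h
    · exact h.symm
    · exact o.out_eq
  obtain ⟨h, hh⟩ := imagesOf_surjective hA hcard base hbase
    (fun o => if o = orbOf A a then ⟨g (base o), (orbOf_apply hg _).trans (hbase o)⟩ else ⟨base o, hbase o⟩)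
  have hha : (h : Perm α) a = g a := by
    have := congrArg Subtype.val (congrFun hh (orbOf A a))
    simpa [imagesOf, base] using this
  have hin : ∀ x, orbOf A x = orbOf A a → (h : Perm α) x = g x := fun x hx =>
    agree_on_orbit hA h.2 hg hha hx
  have hout : ∀ x, orbOf A x ≠ orbOf A a → (h : Perm α) x = x := by
    intro x hx
    have := congrArg Subtype.val (congrFun hh (orbOf A x))
    simp only [imagesOf, if_neg hx] at this
    exact agree_on_orbit hA h.2 A.one_mem (this : (h : Perm α) (base (orbOf A x)) = base (orbOf A x))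
      (hbase _).symm
  have hsupp : (h : Perm α).support = Finset.univ.filter fun x => orbOf A x = orbOf A a := by
    ext x
    simp only [mem_support, Finset.mem_filter, Finset.mem_univ, true_and]
    refine ⟨fun hx => ?_, fun hx hc => hga ?_⟩
    · by_contra hc; exact hx (hout x hc)
    · rw [← hha]
      exact agree_on_orbit hA h.2 A.one_mem (a := x) hc hx.symm
  have hc4 : (h : Perm α).support.card = 4 := by
    rw [hsupp, ← h4, orbSize, Nat.card_eq_fintype_card, Fintype.card_subtype]
  have hhh : (h : Perm α) ((h : Perm α) a) ≠ a := by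
    rw [hha, hin _ (orbOf_apply hg a)]; exact hne
  have hsign : sign (h : Perm α) = 1 := hev h.2
  have hsum := sum_cycleType (h : Perm α)
  rw [hc4] at hsum
  have h2le : ∀ k ∈ (h : Perm α).cycleType, 2 ≤ k := fun k hk => two_le_of_mem_cycleType hk
  have hev' : Even ((h : Perm α).cycleType.sum + Multiset.card (h : Perm α).cycleType) := by
    rw [sign_of_cycleType] at hsign
    exact (neg_one_pow_eq_one_iff_even (by decide)).mp hsign
  have hall : ∀ k ∈ (h : Perm α).cycleType, k = 2 := by
    intro k hk
    have hle := Multiset.le_sum_of_mem hk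
    obtain ⟨t, ht⟩ := Multiset.exists_cons_of_mem hk
    rw [ht, Multiset.sum_cons] at hsum
    rw [ht, Multiset.sum_cons, Multiset.card_cons] at hev'
    have hk2 := h2le k hk
    rcases Multiset.empty_or_exists_mem t with rfl | ⟨l, hl⟩
    · simp only [Multiset.sum_zero, Multiset.card_zero, Nat.even_iff] at hev' hsum
      omega
    · have := Multiset.le_sum_of_mem hl
      have := h2le l (by rw [ht]; exact Multiset.mem_cons_of_mem hl)
      omega
  have hord : orderOf (h : Perm α) ∣ 2 := by
    rw [← lcm_cycleType]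
    exact Multiset.lcm_dvd.mpr fun k hk => (hall k hk).dvd
  have hpow := orderOf_dvd_iff_pow_eq_one.mp hord
  exact hhh (by rw [← Perm.mul_apply, ← pow_two, hpow, Perm.one_apply])

omit [Fintype (Orb A)] [Fintype α] [DecidableEq α] in
theorem fixed_all_or_none (hA : IsMulCommutative A) {g : Perm α} (hg : g ∈ A) {a x : α}
    (hx : orbOf A x = orbOf A a) : g a = a ↔ g x = x :=
  ⟨fun h => agree_on_orbit hA hg A.one_mem (h := 1) h hx,
    fun h => agree_on_orbit hA hg A.one_mem (h := 1) h hx.symm⟩

theorem agree_three : ∀ g h : Perm (Fin 3), ∀ a : Fin 3,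
    ((∀ x, g x = x) ∨ ∀ x, g x ≠ x) → ((∀ x, h x = x) ∨ ∀ x, h x ≠ x) → g a = h a → g = h := by
  decide +kernel

set_option synthInstance.maxSize 1024 in
theorem agree_four : ∀ g h : Perm (Fin 4), ∀ a : Fin 4,
    ((∀ x, g x = x) ∨ ∀ x, g x ≠ x) → ((∀ x, h x = x) ∨ ∀ x, h x ≠ x) →
    (∀ x, g (g x) = x) → (∀ x, h (h x) = x) → g a = h a → g = h := by
  decide +kernel

/-- Two permutations of a three or four point set, each regular, involutive in the second case,
agree as soon as they agree at one point. -/
theorem agree_small {γ : Type*} [Fintype γ] (hγ : Fintype.card γ = 3 ∨ Fintype.card γ = 4)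
    (g h : Perm γ) (a : γ) (hg : (∀ x, g x = x) ∨ ∀ x, g x ≠ x) (hh : (∀ x, h x = x) ∨ ∀ x, h x ≠ x)
    (hg4 : Fintype.card γ = 4 → ∀ x, g (g x) = x) (hh4 : Fintype.card γ = 4 → ∀ x, h (h x) = x)
    (ha : g a = h a) : g = h := by
  let e := Fintype.equivFin γ
  have hfix : ∀ k : Perm γ, ((∀ x, k x = x) ∨ ∀ x, k x ≠ x) →
      (∀ y, e.permCongr k y = y) ∨ ∀ y, e.permCongr k y ≠ y := by
    intro k hk
    rcases hk with hk | hk
    · exact Or.inl fun y => by simp [Equiv.permCongr_apply, hk]
    · refine Or.inr fun y hy => hk (e.symm y) ?_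
      rw [Equiv.permCongr_apply] at hy
      exact e.injective (by rw [hy, e.apply_symm_apply])
  have hinv : ∀ k : Perm γ, (∀ x, k (k x) = x) → ∀ y, e.permCongr k (e.permCongr k y) = y := by
    intro k hk y
    simp [Equiv.permCongr_apply, hk]
  have hea : e.permCongr g (e a) = e.permCongr h (e a) := by simp [Equiv.permCongr_apply, ha]
  apply e.permCongr.injective
  rcases hγ with h3 | h4
  · have aux : ∀ (n : ℕ), n = 3 → ∀ g h : Perm (Fin n), ∀ a : Fin n,
        ((∀ x, g x = x) ∨ ∀ x, g x ≠ x) → ((∀ x, h x = x) ∨ ∀ x, h x ≠ x) → g a = h a → g = h := by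
      rintro n rfl; exact agree_three
    exact aux _ h3 _ _ (e a) (hfix g hg) (hfix h hh) hea
  · have aux : ∀ (n : ℕ), n = 4 → ∀ g h : Perm (Fin n), ∀ a : Fin n,
        ((∀ x, g x = x) ∨ ∀ x, g x ≠ x) → ((∀ x, h x = x) ∨ ∀ x, h x ≠ x) →
        (∀ x, g (g x) = x) → (∀ x, h (h x) = x) → g a = h a → g = h := by
      rintro n rfl; exact agree_four
    exact aux _ h4 _ _ (e a) (hfix g hg) (hfix h hh) (hinv g (hg4 h4)) (hinv h (hh4 h4)) hea

/-- The extremal even abelian group with orbits of size three and four is determined by its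
orbits: a group with the same orbits and the same property is conjugate. -/
theorem map_conj_le_of_same_orbits {B : Subgroup (Perm α)} [Fintype (Orb B)]
    (hA : IsMulCommutative A) (hB : IsMulCommutative B)
    (hAev : A ≤ alternatingGroup α) (hBev : B ≤ alternatingGroup α)
    (hAc : Nat.card A = ∏ o, orbSize A o) (hBc : Nat.card B = ∏ o, orbSize B o)
    (σ : Perm α) (hσ : ∀ x y, orbOf B (σ x) = orbOf B (σ y) ↔ orbOf A x = orbOf A y)
    (h34 : ∀ o, orbSize A o = 3 ∨ orbSize A o = 4) :
    A.map (MulAut.conj σ).toMonoidHom ≤ B := by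
  classical
  rintro _ ⟨g, hg, rfl⟩
  have hσinv : ∀ x, σ (σ⁻¹ x) = x := fun x => σ.apply_symm_apply x
  have hσinv' : ∀ x, σ⁻¹ (σ x) = x := fun x => σ.symm_apply_apply x
  let base : Orb B → α := fun o => σ ((orbOf A (σ⁻¹ o.out)).out)
  have hbase : ∀ o, orbOf B (base o) = o := by
    intro o
    have : orbOf A ((orbOf A (σ⁻¹ o.out)).out) = orbOf A (σ⁻¹ o.out) := Quotient.out_eq _
    have h1 := (hσ _ _).mpr this
    rw [hσinv] at h1
    exact h1.trans o.out_eq
  have hmem : ∀ o, orbOf B ((MulAut.conj σ g) (base o)) = o := by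
    intro o
    refine Eq.trans ?_ (hbase o)
    simp only [MulAut.conj_apply, Perm.mul_apply, base, hσinv']
    exact (hσ _ _).mpr (orbOf_apply hg _)
  obtain ⟨h, hh⟩ := imagesOf_surjective hB hBc base hbase (fun o => ⟨(MulAut.conj σ g) (base o), hmem o⟩)
  have key : ∀ x, (h : Perm α) (σ x) = σ (g x) := by
    intro x
    set o := orbOf B (σ x)
    set a := (orbOf A (σ⁻¹ o.out)).out
    have ha : orbOf A a = orbOf A x := by
      rw [← hσ]
      exact hbase o
    have hha : (h : Perm α) (σ a) = σ (g a) := by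
      have := congrArg Subtype.val (congrFun hh o)
      simp only [imagesOf, base, MulAut.conj_apply, Perm.mul_apply, hσinv'] at this
      exact this
    -- both induce permutations of the orbit of `x`
    let γ := {y : α // orbOf A y = orbOf A x}
    have hpres : ∀ y, orbOf A y = orbOf A x ↔ orbOf A (g y) = orbOf A x := fun y => by rw [orbOf_apply hg]
    have hpres' : ∀ y, orbOf A y = orbOf A x ↔ orbOf A ((σ⁻¹ * (h : Perm α) * σ) y) = orbOf A x := fun y => by
      rw [← hσ, ← hσ]
      simp [orbOf_apply h.2]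
    let g' : Perm γ := g.subtypePerm (fun y => (hpres y).symm)
    let h' : Perm γ := (σ⁻¹ * (h : Perm α) * σ).subtypePerm (fun y => (hpres' y).symm)
    have hv : ∀ y : γ, ((h' y : γ) : α) = σ⁻¹ ((h : Perm α) (σ y)) := fun y => rfl
    have hv' : ∀ y : γ, ((g' y : γ) : α) = g y := fun y => rfl
    have hcγ : Fintype.card γ = orbSize A (orbOf A x) := by rw [orbSize, Nat.card_eq_fintype_card]
    have hszB : orbSize B o = orbSize A (orbOf A x) := by
      refine (Nat.card_eq_of_bijective (fun y : γ => (⟨σ y, (hσ _ _).mpr y.2⟩ : {z : α // orbOf B z = o})) ⟨?_, ?_⟩).symm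
      · intro y z hyz
        exact Subtype.ext (σ.injective (congrArg Subtype.val hyz))
      · rintro ⟨z, hz⟩
        refine ⟨⟨σ⁻¹ z, ?_⟩, Subtype.ext (hσinv z)⟩
        rw [← hσ, hσinv]
        exact hz
    have hgg : (∀ y, g' y = y) ∨ ∀ y, g' y ≠ y := by
      by_cases hfx : g x = x
      · exact Or.inl fun y => Subtype.ext ((fixed_all_or_none hA hg y.2).mp hfx)
      · exact Or.inr fun y hy => hfx ((fixed_all_or_none hA hg y.2).mpr (congrArg Subtype.val hy))
    have hhh : (∀ y, h' y = y) ∨ ∀ y, h' y ≠ y := by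
      by_cases hfx : (h : Perm α) (σ x) = σ x
      · refine Or.inl fun y => Subtype.ext ?_
        have := (fixed_all_or_none hB h.2 ((hσ _ _).mpr y.2)).mp hfx
        rw [hv, this, hσinv']
      · refine Or.inr fun y hy => hfx ((fixed_all_or_none hB h.2 ((hσ _ _).mpr y.2)).mpr ?_)
        have h1 := congrArg (fun z : γ => σ (Subtype.val z)) hy
        simp only [hv, hσinv] at h1
        exact h1
    have hg4 : Fintype.card γ = 4 → ∀ y, g' (g' y) = y := fun h4 y =>
      Subtype.ext (apply_apply_of_size_four hA hAev hAc hg (by rw [y.2, ← hcγ, h4]))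
    have hh4 : Fintype.card γ = 4 → ∀ y, h' (h' y) = y := by
      intro h4 y
      apply Subtype.ext
      have := apply_apply_of_size_four hB hBev hBc h.2 (a := σ y)
        (by rw [(hσ _ _).mpr y.2, hszB, ← hcγ, h4])
      rw [hv, hv, hσinv, this, hσinv']
    have heq := agree_small (by rw [hcγ]; exact h34 _) g' h' ⟨a, ha⟩ hgg hhh hg4 hh4
      (Subtype.ext (by rw [hv, hv']; exact ((congrArg (σ⁻¹ : Perm α) hha).trans (hσinv' _)).symm))
    have := congrArg (fun k : Perm γ => σ (k ⟨x, rfl⟩ : γ).1) heq
    simp only [hv, hv', hσinv] at this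
    exact this.symm
  have : (MulAut.conj σ).toMonoidHom g = (h : Perm α) := by
    ext y
    simp [← key]
  rw [this]
  exact h.2

end criterion

theorem exists_equiv_of_map_eq {β γ : Type*} [Fintype β] [Fintype γ] {δ : Type*} [DecidableEq δ]
    (f : β → δ) (g : γ → δ) (h : Finset.univ.val.map f = Finset.univ.val.map g) :
    ∃ e : β ≃ γ, ∀ b, g (e b) = f b := by
  classical
  have hc : ∀ d, Fintype.card {b // f b = d} = Fintype.card {c // g c = d} := by
    intro d
    have := congrArg (Multiset.count d) h
    rw [Multiset.count_map, Multiset.count_map] at this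
    rw [Fintype.card_subtype, Fintype.card_subtype, Finset.card_def, Finset.card_def,
      Finset.filter_val, Finset.filter_val]
    simpa [eq_comm] using this
  refine ⟨Equiv.ofFiberEquiv (fun d => Fintype.equivOfCardEq (hc d)), fun b => ?_⟩
  exact Equiv.ofFiberEquiv_map _ b

/-- Two extremal abelian subgroups of an alternating group of degree at least six are conjugate
by an even permutation. -/
theorem maximal_alt_conj {A B : Subgroup (Perm α)} [Fintype (Orb A)] [Fintype (Orb B)]
    (hA : IsMulCommutative A) (hB : IsMulCommutative B)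
    (hAev : A ≤ alternatingGroup α) (hBev : B ≤ alternatingGroup α) (hn : 6 ≤ Fintype.card α)
    (hAm : Nat.card A = maxProdAlt (Fintype.card α)) (hBm : Nat.card B = maxProdAlt (Fintype.card α)) :
    ∃ σ ∈ alternatingGroup α, A.map (MulAut.conj σ).toMonoidHom = B := by
  classical
  obtain ⟨hAc, hA2, hAp⟩ := maximal_alt_structure hA hAev (by omega) hAm
  obtain ⟨hBc, hB2, hBp⟩ := maximal_alt_structure hB hBev (by omega) hBm
  have hsA := orbSizes_sum A
  have hsB := orbSizes_sum B
  have heq := maximiser_unique _ _ hA2 hB2 (hsA.trans hsB.symm) (by omega) hAp hBp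
  obtain ⟨π, hπ⟩ := exists_equiv_of_map_eq (orbSize A) (orbSize B) heq
  let ε : (o : Orb A) → {x : α // orbOf A x = o} ≃ {x : α // orbOf B x = π o} := fun o =>
    Fintype.equivOfCardEq (by rw [← Nat.card_eq_fintype_card, ← Nat.card_eq_fintype_card]; exact (hπ o).symm)
  let σ : Perm α := (Equiv.sigmaFiberEquiv (orbOf A)).symm.trans
    ((Equiv.sigmaCongr π ε).trans (Equiv.sigmaFiberEquiv (orbOf B)))
  have hσπ : ∀ x, orbOf B (σ x) = π (orbOf A x) := fun x => (ε (orbOf A x) ⟨x, rfl⟩).2
  have h34 : ∀ o, orbSize A o = 3 ∨ orbSize A o = 4 := fun o =>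
    maximiser_parts _ hA2 (by omega) hAp _ (Multiset.mem_map.mpr ⟨o, Finset.mem_univ _, rfl⟩)
  -- correct the parity inside one orbit
  obtain ⟨a⟩ : Nonempty α := Fintype.card_pos_iff.mp (by omega)
  obtain ⟨b, hb, hba⟩ : ∃ b, orbOf A b = orbOf A a ∧ b ≠ a := by
    have : 1 < Nat.card {x : α // orbOf A x = orbOf A a} := by
      have := h34 (orbOf A a); rw [orbSize] at this; omega
    rw [Finite.one_lt_card_iff_nontrivial] at this
    obtain ⟨⟨b, hb⟩, hne⟩ := exists_ne (⟨a, rfl⟩ : {x : α // orbOf A x = orbOf A a})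
    exact ⟨b, hb, fun h => hne (Subtype.ext h)⟩
  let τ : Perm α := if sign σ = 1 then σ else σ * swap a b
  have hτ : sign τ = 1 := by
    simp only [τ]
    split_ifs with h
    · exact h
    · rw [map_mul, Perm.sign_swap hba.symm, (Int.units_eq_one_or _).resolve_left h]; rfl
  have hτπ : ∀ x, orbOf B (τ x) = π (orbOf A x) := by
    intro x
    simp only [τ]
    split_ifs with h
    · exact hσπ x
    · rw [Perm.mul_apply, hσπ]
      congr 1
      rw [swap_apply_def]
      split_ifs with h1 h2
      · rw [h1, hb]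
      · rw [h2, hb]
      · rfl
  refine ⟨τ, hτ, Subgroup.eq_of_le_of_card_ge
    (map_conj_le_of_same_orbits hA hB hAev hBev hAc hBc τ (fun x y => by rw [hτπ, hτπ]; exact π.injective.eq_iff) h34) ?_⟩
  rw [Subgroup.card_map_of_injective, hAm, hBm]
  exact (MulAut.conj τ).injective

end H63
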