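import Mathlib
import Cfsg.Agent.H63.AbelianPerm

/-!
Largest abelian subgroups of symmetric and alternating groups: constructions and uniqueness.
-/

set_option autoImplicit false
set_option linter.style.haveILetI false

namespace H63

open Equiv Equiv.Perm

/-- `S_n` has an abelian subgroup of order `c`. -/
def RealSym (n c : ℕ) : Prop :=
  ∃ A : Subgroup (Perm (Fin n)), IsMulCommutative A ∧ Nat.card A = c

/-- `A_n` has an abelian subgroup of order `c`. -/
def RealAlt (n c : ℕ) : Prop :=
  ∃ A : Subgroup (Perm (Fin n)), IsMulCommutative A ∧ Nat.card A = c ∧ A ≤ alternatingGroup (Fin n)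

/-- The product of two permutation groups acting on disjoint sets. -/
def blockSum {n m : ℕ} (A : Subgroup (Perm (Fin n))) (B : Subgroup (Perm (Fin m))) :
    Subgroup (Perm (Fin (n + m))) :=
  ((A.prod B).map (sumCongrHom (Fin n) (Fin m))).map (finSumFinEquiv.permCongrHom).toMonoidHom

theorem card_blockSum {n m : ℕ} (A : Subgroup (Perm (Fin n))) (B : Subgroup (Perm (Fin m))) :
    Nat.card (blockSum A B) = Nat.card A * Nat.card B := by
  unfold blockSum
  rw [Subgroup.card_map_of_injective, Subgroup.card_map_of_injective sumCongrHom_injective,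
    Nat.card_congr (A.prodEquiv B).toEquiv, Nat.card_prod]
  exact (finSumFinEquiv.permCongrHom).injective

theorem isMulCommutative_blockSum {n m : ℕ} {A : Subgroup (Perm (Fin n))} {B : Subgroup (Perm (Fin m))}
    (hA : IsMulCommutative A) (hB : IsMulCommutative B) : IsMulCommutative (blockSum A B) := by
  refine ⟨⟨?_⟩⟩
  rintro ⟨_, _, ⟨a, ha, rfl⟩, rfl⟩ ⟨_, _, ⟨b, hb, rfl⟩, rfl⟩
  apply Subtype.ext
  simp only [Subgroup.coe_mul, ← map_mul]
  congr 2
  exact Prod.ext (congrArg Subtype.val (hA.is_comm.comm ⟨a.1, ha.1⟩ ⟨b.1, hb.1⟩))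
    (congrArg Subtype.val (hB.is_comm.comm ⟨a.2, ha.2⟩ ⟨b.2, hb.2⟩))

theorem blockSum_le_alternating {n m : ℕ} {A : Subgroup (Perm (Fin n))} {B : Subgroup (Perm (Fin m))}
    (hA : A ≤ alternatingGroup (Fin n)) (hB : B ≤ alternatingGroup (Fin m)) :
    blockSum A B ≤ alternatingGroup (Fin (n + m)) := by
  rintro _ ⟨_, ⟨a, ha, rfl⟩, rfl⟩
  change sign (finSumFinEquiv.permCongr (Equiv.sumCongr a.1 a.2)) = 1
  rw [sign_permCongr, sign_sumCongr, mem_alternatingGroup.mp (hA ha.1), mem_alternatingGroup.mp (hB ha.2), mul_one]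

theorem RealSym.add {n m c d : ℕ} (h : RealSym n c) (h' : RealSym m d) : RealSym (n + m) (c * d) := by
  obtain ⟨A, hA, rfl⟩ := h
  obtain ⟨B, hB, rfl⟩ := h'
  exact ⟨blockSum A B, isMulCommutative_blockSum hA hB, card_blockSum A B⟩

theorem RealAlt.add {n m c d : ℕ} (h : RealAlt n c) (h' : RealAlt m d) : RealAlt (n + m) (c * d) := by
  obtain ⟨A, hA, rfl, hA'⟩ := h
  obtain ⟨B, hB, rfl, hB'⟩ := h'
  exact ⟨blockSum A B, isMulCommutative_blockSum hA hB, card_blockSum A B, blockSum_le_alternating hA' hB'⟩

theorem RealAlt.toSym {n c : ℕ} (h : RealAlt n c) : RealSym n c :=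
  ⟨h.choose, h.choose_spec.1, h.choose_spec.2.1⟩

theorem realAlt_bot (n : ℕ) : RealAlt n 1 :=
  ⟨⊥, inferInstance, Subgroup.card_bot, bot_le⟩

theorem realAlt_three : RealAlt 3 3 := by
  refine ⟨alternatingGroup (Fin 3), ?_, ?_, le_rfl⟩
  · have h : Nat.card (alternatingGroup (Fin 3)) = 3 := by rw [nat_card_alternatingGroup, Nat.card_fin]; rfl
    haveI := Fact.mk Nat.prime_three
    haveI := isCyclic_of_prime_card h
    exact inferInstance
  · rw [nat_card_alternatingGroup, Nat.card_fin]; rfl

theorem realAlt_four : RealAlt 4 4 := by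
  obtain ⟨P⟩ : Nonempty (Sylow 2 (alternatingGroup (Fin 4))) := inferInstance
  have hP : Nat.card P.toSubgroup = 2 ^ 2 := by
    rw [P.card_eq_multiplicity, nat_card_alternatingGroup, Nat.card_fin,
      show (4 : ℕ).factorial / 2 = 2 ^ 2 * 3 from rfl, Nat.factorization_mul (by norm_num) (by norm_num),
      Finsupp.add_apply, Nat.prime_two.factorization_pow, Nat.prime_three.factorization]
    simp
  haveI := Fact.mk Nat.prime_two
  haveI := IsPGroup.isMulCommutative_of_card_eq_prime_sq hP
  exact ⟨P.toSubgroup.map (alternatingGroup (Fin 4)).subtype, inferInstance,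
    (Subgroup.card_subtype _ _).trans hP, Subgroup.map_subtype_le _⟩

theorem realSym_two : RealSym 2 2 := by
  refine ⟨⊤, ?_, ?_⟩
  · have h : Nat.card (Perm (Fin 2)) = 2 := by rw [Nat.card_perm, Nat.card_fin]; rfl
    haveI := Fact.mk Nat.prime_two
    haveI := isCyclic_of_prime_card h
    exact ⟨⟨fun a b => Subtype.ext ((IsCyclic.isMulCommutative (α := Perm (Fin 2))).is_comm.comm (a : Perm (Fin 2)) b)⟩⟩
  · rw [Subgroup.card_top, Nat.card_perm, Nat.card_fin]; rfl

theorem realAlt_five : RealAlt 5 5 := by
  haveI := Fact.mk Nat.prime_five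
  obtain ⟨g, hg⟩ := exists_prime_orderOf_dvd_card' (G := alternatingGroup (Fin 5)) 5
    (by rw [nat_card_alternatingGroup, Nat.card_fin]; decide)
  exact ⟨(Subgroup.zpowers g).map (alternatingGroup (Fin 5)).subtype, inferInstance,
    (Subgroup.card_subtype _ _).trans ((Nat.card_zpowers g).trans hg), Subgroup.map_subtype_le _⟩

theorem realSym_maxProdSym : ∀ n, RealSym n (maxProdSym n) := by
  intro n
  induction n using Nat.strong_induction_on with
  | _ n ih =>
    rcases Nat.lt_or_ge n 5 with h | h
    · interval_cases n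
      · exact (realAlt_bot 0).toSym
      · exact (realAlt_bot 1).toSym
      · exact realSym_two
      · exact realAlt_three.toSym
      · exact realAlt_four.toSym
    · obtain ⟨m, rfl⟩ := Nat.exists_eq_add_of_le' (show 3 ≤ n by omega)
      rw [maxProdSym_add_three (by omega), mul_comm]
      exact (ih m (by omega)).add realAlt_three.toSym

theorem realAlt_maxProdAlt : ∀ n, RealAlt n (maxProdAlt n) := by
  intro n
  induction n using Nat.strong_induction_on with
  | _ n ih =>
    rcases Nat.lt_or_ge n 9 with h | h
    · interval_cases n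
      · exact realAlt_bot 0
      · exact realAlt_bot 1
      · exact realAlt_bot 2
      · exact realAlt_three
      · exact realAlt_four
      · exact realAlt_five
      · exact realAlt_three.add realAlt_three
      · exact realAlt_four.add realAlt_three
      · exact realAlt_four.add realAlt_four
    · obtain ⟨m, rfl⟩ := Nat.exists_eq_add_of_le' (show 3 ≤ n by omega)
      rw [maxProdAlt_add_three (by omega), mul_comm]
      exact (ih m (by omega)).add realAlt_three

theorem isGreatest_abelian_perm (n : ℕ) :
    IsGreatest {c : ℕ | ∃ A : Subgroup (Perm (Fin n)), IsMulCommutative A ∧ Nat.card A = c} (maxProdSym n) := by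
  refine ⟨realSym_maxProdSym n, ?_⟩
  rintro c ⟨A, hA, rfl⟩
  haveI := Fintype.ofFinite (Orb A)
  exact (card_le_maxProdSym hA).trans_eq (congrArg maxProdSym (Fintype.card_fin n))

theorem card_le_alt_sub {n : ℕ} (A : Subgroup (alternatingGroup (Fin n))) (hA : IsMulCommutative A) :
    Nat.card A ≤ maxProdAlt n := by
  haveI := Fintype.ofFinite (Orb (A.map (alternatingGroup (Fin n)).subtype))
  have := card_le_maxProdAlt (A := A.map (alternatingGroup (Fin n)).subtype) inferInstance
    (Subgroup.map_subtype_le _)
  rwa [Subgroup.card_subtype, Fintype.card_fin] at this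

theorem isGreatest_abelian_alt (n : ℕ) :
    IsGreatest {c : ℕ | ∃ A : Subgroup (alternatingGroup (Fin n)), IsMulCommutative A ∧ Nat.card A = c}
      (maxProdAlt n) := by
  refine ⟨?_, ?_⟩
  · obtain ⟨A, hA, hc, hle⟩ := realAlt_maxProdAlt n
    refine ⟨A.subgroupOf _, ?_, ?_⟩
    · exact ⟨⟨fun a b => Subtype.ext (Subtype.ext (congrArg Subtype.val
        (hA.is_comm.comm ⟨_, a.2⟩ ⟨_, b.2⟩) : _))⟩⟩
    · rw [← hc]; exact Nat.card_congr (Subgroup.subgroupOfEquivOfLe hle).toEquiv
  · rintro c ⟨A, hA, rfl⟩
    exact card_le_alt_sub A hA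

theorem exists_conj_map_of_card_eq_max {n : ℕ} (A B : Subgroup (alternatingGroup (Fin n)))
    (hA : IsMulCommutative A) (hB : IsMulCommutative B)
    (hAc : Nat.card A = maxProdAlt n) (hBc : Nat.card B = maxProdAlt n) :
    ∃ g : alternatingGroup (Fin n), A.map (MulAut.conj g).toMonoidHom = B := by
  classical
  rcases Nat.lt_or_ge n 6 with h6 | h6
  · rcases Nat.lt_or_ge n 5 with h5 | h5
    · refine ⟨1, ?_⟩
      have hmap : A.map (MulAut.conj (1 : alternatingGroup (Fin n))).toMonoidHom = A := by
        ext x; simp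
      rw [hmap]
      rcases (show n ≤ 3 ∨ n = 4 by omega) with h3 | rfl
      · -- the subgroups are the whole group
        have htop : ∀ C : Subgroup (alternatingGroup (Fin n)), Nat.card C = maxProdAlt n → C = ⊤ := by
          intro C hC
          refine Subgroup.eq_top_of_le_card C ?_
          rcases Nat.lt_or_ge n 2 with h2 | h2
          · haveI : Subsingleton (Fin n) := by interval_cases n <;> infer_instance
            rw [Nat.card_of_subsingleton (1 : alternatingGroup (Fin n))]
            exact Nat.card_pos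
          · haveI : Nontrivial (Fin n) := Fin.nontrivial_iff_two_le.mpr h2
            rw [nat_card_alternatingGroup, Nat.card_fin, hC]
            interval_cases n <;> decide
        rw [htop A hAc, htop B hBc]
      · -- degree four: both are the normal four-group
        haveI := Fact.mk Nat.prime_two
        have hfac : (Nat.card (alternatingGroup (Fin 4))).factorization 2 = 2 := by
          rw [nat_card_alternatingGroup, Nat.card_fin,
            show (4 : ℕ).factorial / 2 = 2 ^ 2 * 3 from rfl, Nat.factorization_mul (by norm_num) (by norm_num),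
            Finsupp.add_apply, Nat.prime_two.factorization_pow, Nat.prime_three.factorization]
          simp
        have hval : maxProdAlt 4 = 4 := by simp [maxProdAlt]
        let PA := Sylow.ofCard A (show Nat.card A = 2 ^ _ by rw [hfac, hAc, hval]; rfl)
        let PB := Sylow.ofCard B (show Nat.card B = 2 ^ _ by rw [hfac, hBc, hval]; rfl)
        haveI : Subsingleton (Sylow 2 (alternatingGroup (Fin 4))) := by
          have := alternatingGroup.subsingleton_two_sylow (α := Fin 4) (by simp)
          exact this
        exact congrArg Sylow.toSubgroup (Subsingleton.elim PA PB)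
    · obtain rfl : n = 5 := by omega
      haveI := Fact.mk Nat.prime_five
      have hfac : (Nat.card (alternatingGroup (Fin 5))).factorization 5 = 1 := by
        rw [nat_card_alternatingGroup, Nat.card_fin,
          show (5 : ℕ).factorial / 2 = 5 ^ 1 * 12 from rfl, Nat.factorization_mul (by norm_num) (by norm_num),
          Finsupp.add_apply, Nat.prime_five.factorization_pow, Nat.factorization_eq_zero_of_not_dvd (by norm_num : ¬ 5 ∣ 12)]
        simp
      have hval : maxProdAlt 5 = 5 := by simp [maxProdAlt]
      let PA := Sylow.ofCard A (show Nat.card A = 5 ^ _ by rw [hfac, hAc, hval]; rfl)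
      let PB := Sylow.ofCard B (show Nat.card B = 5 ^ _ by rw [hfac, hBc, hval]; rfl)
      obtain ⟨g, hg⟩ := MulAction.exists_smul_eq (alternatingGroup (Fin 5)) PA PB
      exact ⟨g, congrArg Sylow.toSubgroup hg⟩
  · let AA := A.map (alternatingGroup (Fin n)).subtype
    let BB := B.map (alternatingGroup (Fin n)).subtype
    haveI := Fintype.ofFinite (Orb AA)
    haveI := Fintype.ofFinite (Orb BB)
    obtain ⟨σ, hσ, hmap⟩ := maximal_alt_conj (A := AA) (B := BB) inferInstance inferInstance
      (Subgroup.map_subtype_le _) (Subgroup.map_subtype_le _) (by simpa using h6)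
      (by rw [Fintype.card_fin, Subgroup.card_subtype]; exact hAc)
      (by rw [Fintype.card_fin, Subgroup.card_subtype]; exact hBc)
    refine ⟨⟨σ, hσ⟩, Subgroup.map_injective (alternatingGroup (Fin n)).subtype_injective ?_⟩
    refine Eq.trans ?_ hmap
    rw [Subgroup.map_map, Subgroup.map_map]
    rfl

end H63
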