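import Mathlib

/-!
Binary actions on cosets: transport along isomorphisms and a criterion coming from
pointwise stabilisers of finite sets of points.
-/

set_option autoImplicit false

namespace H63.BinAct

variable {G : Type*} [Group G]

/-- The action on the cosets of `H` has relational complexity two. -/
def Binary (H : Subgroup G) : Prop :=
  ∀ (n : ℕ) (I J : Fin n → G ⧸ H), 2 ≤ n →
    (∀ i j : Fin n, i ≠ j → ∃ g : G, g • I i = J i ∧ g • I j = J j) → ∃ g : G, ∀ i, g • I i = J i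

theorem binary_of_map {G' : Type*} [Group G'] (e : G ≃* G') {H : Subgroup G} {H' : Subgroup G'}
    (hH : ∀ x, e x ∈ H' ↔ x ∈ H) (h : Binary H) : Binary H' := by
  let φ : G' ⧸ H' → G ⧸ H := Quotient.lift (fun x => ((e.symm x : G) : G ⧸ H)) (by
    intro a b hab
    have hab' : a⁻¹ * b ∈ H' := QuotientGroup.leftRel_apply.mp hab
    apply QuotientGroup.eq.mpr
    rw [← hH, map_mul, map_inv, e.apply_symm_apply, e.apply_symm_apply]
    exact hab')
  have hφ : ∀ (g : G) (p : G' ⧸ H'), φ (e g • p) = g • φ p := by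
    intro g p
    obtain ⟨x, rfl⟩ := QuotientGroup.mk_surjective p
    show ((e.symm (e g * x) : G) : G ⧸ H) = ((g * e.symm x : G) : G ⧸ H)
    rw [map_mul, e.symm_apply_apply]
  have hinj : Function.Injective φ := by
    intro p q hpq
    obtain ⟨x, rfl⟩ := QuotientGroup.mk_surjective p
    obtain ⟨y, rfl⟩ := QuotientGroup.mk_surjective q
    have h1 : ((e.symm x : G) : G ⧸ H) = ((e.symm y : G) : G ⧸ H) := hpq
    rw [QuotientGroup.eq, ← hH, map_mul, map_inv, e.apply_symm_apply, e.apply_symm_apply] at h1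
    exact QuotientGroup.eq.mpr h1
  intro n I J hn hp
  obtain ⟨g, hg⟩ := h n (φ ∘ I) (φ ∘ J) hn (fun i j hij => by
    obtain ⟨g, h1, h2⟩ := hp i j hij
    refine ⟨e.symm g, ?_, ?_⟩
    · show e.symm g • φ (I i) = φ (J i)
      rw [← hφ, e.apply_symm_apply, h1]
    · show e.symm g • φ (I j) = φ (J j)
      rw [← hφ, e.apply_symm_apply, h2])
  exact ⟨e g, fun i => hinj (by rw [hφ]; exact hg i)⟩

theorem binary_congr {G' : Type*} [Group G'] (e : G ≃* G') {H : Subgroup G} {H' : Subgroup G'}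
    (hH : ∀ x, e x ∈ H' ↔ x ∈ H) : Binary H ↔ Binary H' :=
  ⟨binary_of_map e hH, binary_of_map e.symm fun x => by rw [← hH, e.apply_symm_apply]⟩

theorem binary_conj (H : Subgroup G) (g : G) :
    Binary (H.map (MulAut.conj g).toMonoidHom) ↔ Binary H :=
  (binary_congr (MulAut.conj g) fun _ => Subgroup.mem_map_equiv.trans (by simp [mul_assoc])).symm

theorem binary_bot : Binary (⊥ : Subgroup G) := by
  intro n I J hn hp
  obtain ⟨g, hg, -⟩ := hp ⟨0, by omega⟩ ⟨1, by omega⟩ (by simp [Fin.ext_iff])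
  refine ⟨g, fun i => ?_⟩
  by_cases hi : i = ⟨0, by omega⟩
  · rw [hi]; exact hg
  obtain ⟨g', hg', hi'⟩ := hp ⟨0, by omega⟩ i (Ne.symm hi)
  obtain ⟨x, hx⟩ := QuotientGroup.mk_surjective (I ⟨0, by omega⟩)
  have h1 : g • I ⟨0, by omega⟩ = g' • I ⟨0, by omega⟩ := by rw [hg, hg']
  rw [← hx, MulAction.Quotient.smul_mk, MulAction.Quotient.smul_mk, QuotientGroup.eq,
    Subgroup.mem_bot, inv_mul_eq_one, smul_eq_mul, smul_eq_mul, mul_left_inj] at h1
  rw [h1]; exact hi'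

variable {H : Subgroup G}

/-- The pointwise stabiliser of a finite set of cosets. -/
def fix (H : Subgroup G) (s : Finset (G ⧸ H)) : Subgroup G where
  carrier := {g | ∀ p ∈ s, g • p = p}
  one_mem' := fun p _ => one_smul G p
  mul_mem' := fun {a b} ha hb p hp => by rw [mul_smul, hb p hp, ha p hp]
  inv_mem' := fun {a} ha p hp => inv_smul_eq_iff.mpr (ha p hp).symm

theorem mem_fix {s : Finset (G ⧸ H)} {g : G} : g ∈ fix H s ↔ ∀ p ∈ s, g • p = p := Iff.rfl

theorem smul_coset (g x : G) : g • (x : G ⧸ H) = (x : G ⧸ H) ↔ x⁻¹ * g * x ∈ H := by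
  rw [MulAction.Quotient.smul_mk, smul_eq_mul, eq_comm, QuotientGroup.eq, mul_assoc]

/-- Three pointwise stabilisers in a binary action. -/
theorem criterion (hB : Binary H) (s1 s2 s3 : Finset (G ⧸ H))
    (h12 : ∀ g, g ∈ fix H s1 → g ∈ fix H s2 → g ∈ fix H s3) {v w : G} (hv : v ∈ fix H s1)
    (hw : w ∈ fix H s2) (hu : v * w ∈ fix H s3) : w ∈ fix H s3 := by
  classical
  set T := s1 ∪ s2 ∪ s3
  by_cases hT : T = ∅
  · intro p hp
    exact absurd (hT ▸ (Finset.mem_union_right _ hp : p ∈ T)) (Finset.notMem_empty p)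
  let e := T.equivFin
  have hpos : 0 < T.card := Finset.card_pos.mpr (Finset.nonempty_iff_ne_empty.mpr hT)
  let I : Fin (2 * T.card) → G ⧸ H := fun i => (e.symm ⟨i.1 % T.card, Nat.mod_lt _ hpos⟩ : T).1
  have hI : ∀ i, I i ∈ T := fun i => (e.symm _).2
  have hsurj : ∀ p ∈ T, ∃ i, I i = p := fun p hp => by
    refine ⟨⟨(e ⟨p, hp⟩).1, by have := (e ⟨p, hp⟩).2; omega⟩, ?_⟩
    show (e.symm _ : T).1 = p
    simp [Nat.mod_eq_of_lt (e ⟨p, hp⟩).2]
  let f : G ⧸ H → G ⧸ H := fun p => if p ∈ s1 ∪ s2 then p else w • p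
  -- the new values on `s3`
  have hf3 : ∀ p ∈ s3, f p = w • p := by
    intro p hp
    by_cases hp12 : p ∈ s1 ∪ s2
    · simp only [f, if_pos hp12]
      rcases Finset.mem_union.mp hp12 with h | h
      · have h1 := hu p hp
        have h2 : v⁻¹ • p = p := (fix H s1).inv_mem hv p h
        conv_lhs => rw [← h2, ← h1]
        rw [mul_smul, inv_smul_smul]
      · exact (hw p h).symm
    · simp only [f, if_neg hp12]
  have hf12 : ∀ p ∈ s1 ∪ s2, f p = p := fun p hp => by simp only [f, if_pos hp]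
  have h13 : ∀ p ∈ s1, ∀ q ∈ s3, ∃ g : G, g • p = f p ∧ g • q = f q := fun p hp q hq =>
    ⟨v⁻¹, by rw [hf12 p (Finset.mem_union_left _ hp)]; exact (fix H s1).inv_mem hv p hp, by
      rw [hf3 q hq]
      conv_lhs => rw [← hu q hq]
      rw [mul_smul, inv_smul_smul]⟩
  have h23 : ∀ p ∈ s2, ∀ q ∈ s3, ∃ g : G, g • p = f p ∧ g • q = f q := fun p hp q hq =>
    ⟨w, by rw [hf12 p (Finset.mem_union_right _ hp)]; exact hw p hp, (hf3 q hq).symm⟩
  have hpair : ∀ p ∈ T, ∀ q ∈ T, ∃ g : G, g • p = f p ∧ g • q = f q := by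
    intro p hp q hq
    rcases Finset.mem_union.mp hp with hp | hp <;> rcases Finset.mem_union.mp hq with hq | hq
    · exact ⟨1, by rw [one_smul, hf12 p hp], by rw [one_smul, hf12 q hq]⟩
    · rcases Finset.mem_union.mp hp with hp | hp
      · exact h13 p hp q hq
      · exact h23 p hp q hq
    · rcases Finset.mem_union.mp hq with hq | hq
      · obtain ⟨g, h1, h2⟩ := h13 q hq p hp
        exact ⟨g, h2, h1⟩
      · obtain ⟨g, h1, h2⟩ := h23 q hq p hp
        exact ⟨g, h2, h1⟩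
    · exact ⟨w, (hf3 p hp).symm, (hf3 q hq).symm⟩
  obtain ⟨g, hg⟩ := hB (2 * T.card) I (f ∘ I) (by omega) fun i j _ => hpair _ (hI i) _ (hI j)
  have hgT : ∀ p ∈ T, g • p = f p := fun p hp => by
    obtain ⟨i, rfl⟩ := hsurj p hp
    exact hg i
  have hg1 : g ∈ fix H s1 := fun p hp => by
    rw [hgT p (Finset.mem_union_left _ (Finset.mem_union_left _ hp)),
      hf12 p (Finset.mem_union_left _ hp)]
  have hg2 : g ∈ fix H s2 := fun p hp => by
    rw [hgT p (Finset.mem_union_left _ (Finset.mem_union_right _ hp)),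
      hf12 p (Finset.mem_union_right _ hp)]
  intro p hp
  rw [← hf3 p hp, ← hgT p (Finset.mem_union_right _ hp)]
  exact h12 g hg1 hg2 p hp

/-- A pointwise stabiliser of a nonempty set of points. -/
def IsFix (H M : Subgroup G) : Prop := ∃ s : Finset (G ⧸ H), s.Nonempty ∧ M = fix H s

theorem isFix_self : IsFix H H := by
  refine ⟨{((1 : G) : G ⧸ H)}, Finset.singleton_nonempty _, ?_⟩
  ext g
  rw [mem_fix]
  simp only [Finset.mem_singleton, forall_eq]
  rw [smul_coset]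
  simp

theorem isFix_inf {M N : Subgroup G} (hM : IsFix H M) (hN : IsFix H N) : IsFix H (M ⊓ N) := by
  classical
  obtain ⟨s, hs, rfl⟩ := hM
  obtain ⟨t, -, rfl⟩ := hN
  refine ⟨s ∪ t, hs.mono Finset.subset_union_left, ?_⟩
  ext g
  simp only [Subgroup.mem_inf, mem_fix, Finset.mem_union]
  exact ⟨fun h p hp => hp.elim (h.1 p) (h.2 p),
    fun h => ⟨fun p hp => h p (Or.inl hp), fun p hp => h p (Or.inr hp)⟩⟩

theorem isFix_conj {M : Subgroup G} (hM : IsFix H M) (g : G) :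
    IsFix H (M.map (MulAut.conj g).toMonoidHom) := by
  classical
  obtain ⟨s, hs, rfl⟩ := hM
  refine ⟨s.image (g • ·), hs.image _, ?_⟩
  ext x
  rw [Subgroup.mem_map_equiv, MulAut.conj_symm_apply]
  simp only [mem_fix, Finset.forall_mem_image]
  refine forall₂_congr fun p _ => ?_
  rw [mul_smul, mul_smul, inv_smul_eq_iff]

/-- A minimal nontrivial pointwise stabiliser. -/
def IsMin (H M : Subgroup G) : Prop :=
  IsFix H M ∧ M ≠ ⊥ ∧ ∀ N, IsFix H N → M ≤ N ∨ M ⊓ N = ⊥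

theorem exists_min [Finite G] {X : Subgroup G} (hX : IsFix H X) (hne : X ≠ ⊥) :
    ∃ M ≤ X, IsMin H M := by
  classical
  have hex : ∃ n, ∃ M ≤ X, IsFix H M ∧ M ≠ ⊥ ∧ Nat.card M = n := ⟨_, X, le_rfl, hX, hne, rfl⟩
  obtain ⟨M, hMX, hM, hM0, hcard⟩ := Nat.find_spec hex
  refine ⟨M, hMX, hM, hM0, fun N hN => or_iff_not_imp_right.mpr fun h => ?_⟩
  have h1 : Nat.find hex ≤ Nat.card ↥(M ⊓ N) :=
    Nat.find_le ⟨M ⊓ N, inf_le_left.trans hMX, isFix_inf hM hN, h, rfl⟩
  exact inf_eq_left.mp (Subgroup.eq_of_le_of_card_ge inf_le_left (hcard ▸ h1))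

theorem isMin_conj {M : Subgroup G} (hM : IsMin H M) (g : G) :
    IsMin H (M.map (MulAut.conj g).toMonoidHom) := by
  have hN : ∀ N : Subgroup G,
      (N.map (MulAut.conj g⁻¹).toMonoidHom).map (MulAut.conj g).toMonoidHom = N := fun N => by
    ext x; simp [mul_assoc]
  refine ⟨isFix_conj hM.1 g, (Subgroup.map_eq_bot_iff_of_injective _ (MulAut.conj g).injective).not.mpr hM.2.1,
    fun N hfix => ?_⟩
  rcases hM.2.2 _ (isFix_conj hfix g⁻¹) with h | h
  · left
    have h' := Subgroup.map_mono (f := (MulAut.conj g).toMonoidHom) h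
    rwa [hN] at h'
  · right
    rw [← hN N, ← Subgroup.map_inf _ _ _ (MulAut.conj g).injective, h, Subgroup.map_bot]

theorem min_eq {M N : Subgroup G} (hM : IsMin H M) (hN : IsMin H N) {x : G} (hx : x ∈ M)
    (hx' : x ∈ N) (hx1 : x ≠ 1) : M = N := by
  have h : ∀ {A B : Subgroup G}, IsMin H A → IsFix H B → x ∈ A → x ∈ B → A ≤ B := by
    intro A B hA hB ha hb
    refine (hA.2.2 B hB).resolve_right fun h => hx1 ?_
    exact Subgroup.mem_bot.mp (h ▸ Subgroup.mem_inf.mpr ⟨ha, hb⟩)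
  exact le_antisymm (h hM hN.1 hx hx') (h hN hM.1 hx' hx)

/-- Three minimal stabilisers of a binary action contain no proper triangle. -/
theorem min_triangle (hB : Binary H) {M1 M2 M3 : Subgroup G} (h1 : IsMin H M1) (h2 : IsMin H M2)
    (h3 : IsMin H M3) {v w : G} (hv : v ∈ M1) (hw : w ∈ M2) (hu : v * w ∈ M3)
    (hne : M1 ≠ M2) : v = 1 ∨ w = 1 := by
  by_contra hc
  push Not at hc
  obtain ⟨hv1, hw1⟩ := hc
  have hbot : ∀ g, g ∈ M1 → g ∈ M2 → g = 1 := fun g ha hb => by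
    by_contra hg
    exact hne (min_eq h1 h2 ha hb hg)
  obtain ⟨s1, -, e1⟩ := h1.1
  obtain ⟨s2, -, e2⟩ := h2.1
  obtain ⟨s3, -, e3⟩ := h3.1
  have hw3 : w ∈ M3 := by
    rw [e3]
    refine criterion hB s1 s2 s3 (fun g ha hb => ?_) (e1 ▸ hv) (e2 ▸ hw) (e3 ▸ hu)
    rw [hbot g (e1 ▸ ha) (e2 ▸ hb)]
    exact one_mem _
  have e23 : M2 = M3 := min_eq h2 h3 hw hw3 hw1
  have hv2 : v ∈ M2 := by
    have := M2.mul_mem (e23 ▸ hu : v * w ∈ M2) (M2.inv_mem hw)
    rwa [mul_inv_cancel_right] at this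
  exact hv1 (hbot v hv hv2)

end H63.BinAct
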