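import Mathlib

/-!
Cutting a cycle into consecutive intervals.

`cut L l` cuts the list `l` into consecutive pieces of the lengths in `L`. The cycle along `l` is
the product of the cycles along the pieces and a cycle through the last points of the pieces.
-/

set_option autoImplicit false

namespace H63

open List Equiv Equiv.Perm

universe u

variable {α : Type u}

/-- Cut a list into consecutive pieces of prescribed lengths. -/
def cut : List ℕ → List α → List (List α)
  | [], _ => []
  | k :: ks, l => l.take k :: cut ks (l.drop k)

/-- The last points of the pieces. -/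
def cutLasts [Inhabited α] (L : List ℕ) (l : List α) : List α :=
  (cut L l).map fun B => B.getLastI

/-- `v` and `v + 1` are positions of the same piece. -/
def Inner : List ℕ → ℕ → Prop
  | [], _ => False
  | k :: ks, v => v + 1 < k ∨ (k ≤ v ∧ Inner ks (v - k))

variable [DecidableEq α]

/-- The product of the cycles along the pieces. -/
def cutProd (L : List ℕ) (l : List α) : Perm α := ((cut L l).map formPerm).prod

omit [DecidableEq α] in
theorem inner_head {k : ℕ} {ks : List ℕ} {v : ℕ} (h : v + 1 < k) : Inner (k :: ks) v := Or.inl h

omit [DecidableEq α] in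
theorem inner_second {k k' : ℕ} {ks : List ℕ} {v : ℕ} (h₀ : k ≤ v) (h : v + 1 < k + k') :
    Inner (k :: k' :: ks) v := Or.inr ⟨h₀, Or.inl (by omega)⟩

theorem formPerm_append_pair : ∀ (x : α) (l R : List α) (hR : R ≠ []), ((x :: l) ++ R).Nodup →
    formPerm ((x :: l) ++ R) =
      formPerm (x :: l) * formPerm R *
        swap ((x :: l).getLast (cons_ne_nil x l)) (R.getLast hR) := by
  intro x l
  induction l generalizing x with
  | nil =>
    intro R hR hnd
    obtain ⟨y, S, rfl⟩ := exists_cons_of_ne_nil hR
    rw [formPerm_singleton, one_mul, singleton_append, formPerm_cons_cons, getLast_singleton,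
      Equiv.mul_swap_eq_swap_mul, formPerm_apply_getLast]
    rw [formPerm_apply_of_notMem]
    simpa using (nodup_cons.mp hnd).1
  | cons y l ih =>
    intro R hR hnd
    rw [cons_append, cons_append, formPerm_cons_cons, ← cons_append,
      ih y R hR (nodup_cons.mp hnd).2, formPerm_cons_cons, getLast_cons (cons_ne_nil y l)]
    simp only [mul_assoc]

theorem formPerm_cons_last (x : α) (R : List α) (hR : R ≠ []) (hnd : (x :: R).Nodup) :
    formPerm (x :: R) = formPerm R * swap x (R.getLast hR) := by
  simpa using formPerm_append_pair x [] R hR hnd

variable [Inhabited α]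

/-- The cycle along `l` splits into the pieces and the cycle through their last points. -/
theorem formPerm_eq_cut : ∀ (L : List ℕ) (l : List α), (∀ k ∈ L, 1 ≤ k) → L.sum = l.length →
    l.Nodup →
      formPerm l = cutProd L l * formPerm (cutLasts L l) ∧ (∀ x ∈ cutLasts L l, x ∈ l) ∧
        (cutLasts L l).Nodup ∧ (cutLasts L l).length = L.length ∧
        (∀ h : L ≠ [], ∃ h' : cutLasts L l ≠ [], ∃ h'' : l ≠ [],
          (cutLasts L l).getLast h' = l.getLast h'') := by
  intro L
  induction L with
  | nil =>
    intro l _ hsum _
    rw [sum_nil, eq_comm, length_eq_zero_iff] at hsum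
    subst hsum
    simp [cutProd, cutLasts, cut]
  | cons k ks ih =>
    intro l hpos hsum hnd
    rw [sum_cons] at hsum
    have hk : 1 ≤ k := hpos k mem_cons_self
    have hpos' : ∀ j ∈ ks, 1 ≤ j := fun j hj => hpos j (mem_cons_of_mem _ hj)
    have hsum' : ks.sum = (l.drop k).length := by rw [length_drop]; omega
    have hnd' : (l.drop k).Nodup := hnd.drop
    obtain ⟨ih1, ih2, ih3, ih4, ih5⟩ := ih (l.drop k) hpos' hsum' hnd'
    have hB : l.take k ≠ [] := by
      intro h
      have h := congrArg length h
      rw [length_take, length_nil] at h
      omega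
    obtain ⟨x, B, hxB⟩ := exists_cons_of_ne_nil hB
    have hlasts : cutLasts (k :: ks) l = (l.take k).getLast hB :: cutLasts ks (l.drop k) := by
      rw [cutLasts, cut, List.map_cons, ← cutLasts, getLastI_eq_getLast?,
        getLast?_eq_some_getLast hB]
      rfl
    have hprod : cutProd (k :: ks) l = formPerm (l.take k) * cutProd ks (l.drop k) := by
      rw [cutProd, cut, List.map_cons, List.prod_cons, ← cutProd]
    have hmemtake : (l.take k).getLast hB ∈ l.take k := getLast_mem hB
    have hnin : (l.take k).getLast hB ∉ cutLasts ks (l.drop k) := fun h =>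
      disjoint_of_nodup_append (by rw [take_append_drop]; exact hnd) hmemtake (ih2 _ h)
    refine ⟨?_, ?_, ?_, ?_, fun _ => ?_⟩
    · rcases eq_or_ne ks [] with rfl | hks
      · rw [sum_nil] at hsum'
        have hd : l.drop k = [] := length_eq_zero_iff.mp hsum'.symm
        have ht : l.take k = l := by
          conv_rhs => rw [← take_append_drop k l, hd, append_nil]
        simp [hprod, hlasts, ht, cutProd, cutLasts, cut]
      · obtain ⟨h', h'', hlast⟩ := ih5 hks
        rw [hprod, hlasts, formPerm_cons_last _ _ h' (nodup_cons.mpr ⟨hnin, ih3⟩), hlast]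
        conv_lhs => rw [← take_append_drop k l]
        have hnd2 : ((x :: B) ++ l.drop k).Nodup := by rw [← hxB, take_append_drop]; exact hnd
        have := formPerm_append_pair x B (l.drop k) h'' hnd2
        simp only [← hxB] at this
        rw [this, ih1]
        simp only [mul_assoc]
    · intro y hy
      rw [hlasts, mem_cons] at hy
      rcases hy with rfl | hy
      · exact mem_of_mem_take hmemtake
      · exact mem_of_mem_drop (ih2 _ hy)
    · rw [hlasts]; exact nodup_cons.mpr ⟨hnin, ih3⟩
    · rw [hlasts, length_cons, length_cons, ih4]
    · have hl : l ≠ [] := fun h => hB (by simp [h])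
      refine ⟨by simp [hlasts], hl, ?_⟩
      simp only [hlasts]
      rcases eq_or_ne ks [] with rfl | hks
      · rw [sum_nil] at hsum'
        have hd : l.drop k = [] := length_eq_zero_iff.mp hsum'.symm
        have ht : l.take k = l := by
          conv_rhs => rw [← take_append_drop k l, hd, append_nil]
        simp [cutLasts, cut, ht]
      · obtain ⟨h', h'', hlast⟩ := ih5 hks
        rw [getLast_cons h', hlast, getLast_drop h'']

theorem cutProd_apply_of_notMem : ∀ (L : List ℕ) (l : List α) (x : α), x ∉ l →
    cutProd L l x = x := by
  intro L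
  induction L with
  | nil => intro l x _; simp [cutProd, cut]
  | cons k ks ih =>
    intro l x hx
    rw [cutProd, cut, List.map_cons, List.prod_cons, ← cutProd, Perm.mul_apply,
      ih _ _ (fun h => hx (mem_of_mem_drop h)), formPerm_apply_of_notMem fun h => hx (mem_of_mem_take h)]

/-- Inside a piece the product moves each position to the next one. -/
theorem cutProd_apply_inner : ∀ (L : List ℕ) (l : List α), l.Nodup → ∀ (v : ℕ), Inner L v →
    ∀ (h : v + 1 < l.length), cutProd L l (l[v]'(by omega)) = l[v + 1] := by
  intro L
  induction L with
  | nil => intro l _ v hv; exact hv.elim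
  | cons k ks ih =>
    intro l hnd v hv h
    have hdis := disjoint_of_nodup_append (by rw [take_append_drop]; exact hnd :
      (l.take k ++ l.drop k).Nodup)
    rw [cutProd, cut, List.map_cons, List.prod_cons, ← cutProd, Perm.mul_apply]
    rcases hv with hv | ⟨hkv, hv⟩
    · have hl : (l.take k)[v]'(by rw [length_take]; omega) = l[v]'(by omega) := getElem_take
      have hmem : l[v]'(by omega) ∈ l.take k := hl ▸ getElem_mem _
      rw [cutProd_apply_of_notMem ks _ _ (fun hd => hdis hmem hd), ← hl,
        formPerm_apply_lt_getElem _ hnd.take v (by rw [length_take]; omega), getElem_take]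
    · have hl : (l.drop k)[v - k]'(by rw [length_drop]; omega) = l[v]'(by omega) := by
        rw [getElem_drop]; congr 1; omega
      have hl' : (l.drop k)[v - k + 1]'(by rw [length_drop]; omega) = l[v + 1] := by
        rw [getElem_drop]; congr 1; omega
      rw [← hl, ih _ hnd.drop (v - k) hv (by rw [length_drop]; omega), hl',
        formPerm_apply_of_notMem fun hm => hdis hm (hl' ▸ getElem_mem _)]

theorem cycleType_formPerm_list [Fintype α] (l : List α) (hnd : l.Nodup) :
    (formPerm l).cycleType = if 2 ≤ l.length then {l.length} else 0 := by
  split_ifs with h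
  · rw [(isCycle_formPerm hnd h).cycleType, support_formPerm_of_nodup l hnd
      (fun x hx => by rw [hx] at h; simp at h), toFinset_card_of_nodup hnd]
  · rw [(formPerm_eq_one_iff _ hnd).mpr (by omega), cycleType_one]

/-- The cycle type of the product of the pieces. -/
theorem cycleType_cutProd [Fintype α] : ∀ (L : List ℕ) (l : List α), L.sum = l.length → l.Nodup →
    (cutProd L l).cycleType = ((L.filter fun k => 2 ≤ k) : Multiset ℕ) := by
  intro L
  induction L with
  | nil => intro l _ _; simp [cutProd, cut]
  | cons k ks ih =>
    intro l hsum hnd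
    rw [sum_cons] at hsum
    have hdis := disjoint_of_nodup_append (by rw [take_append_drop]; exact hnd :
      (l.take k ++ l.drop k).Nodup)
    have hD : Perm.Disjoint (formPerm (l.take k)) (cutProd ks (l.drop k)) := by
      intro x
      by_cases hx : x ∈ l.take k
      · exact Or.inr (cutProd_apply_of_notMem _ _ _ (fun h => hdis hx h))
      · exact Or.inl (formPerm_apply_of_notMem hx)
    rw [cutProd, cut, List.map_cons, List.prod_cons, ← cutProd, hD.cycleType_mul,
      ih _ (by rw [length_drop]; omega) hnd.drop, cycleType_formPerm_list _ hnd.take, length_take,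
      min_eq_left (by omega : k ≤ l.length)]
    by_cases h : 2 ≤ k <;> simp [h, filter_cons]

end H63
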