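import Cfsg.Agent.H63.FactorizedAction
import Cfsg.Agent.H1.CoprimeAction2
import Cfsg.Agent.H31.InvariantMax
import Cfsg.Agent.H35.Basic
import Cfsg.Agent.H29.Basic
import Mathlib

/-!
A Sylow `p`-subgroup (`p` odd) generated by sets `C` and by `D`, all of whose pairs
`⟨x c x⁻¹, d⟩` are `p`-groups, centralises the normal `p`-complement.

The pair condition says that the complement factorises as `C(d) C(c)`; this passes to invariant
Sylow subgroups and to their abelianisations, where a fixed point bound finishes the proof.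
-/

set_option autoImplicit false
set_option maxHeartbeats 400000

namespace H63

open scoped Pointwise

universe u

section group

variable {G : Type u} [Group G] [Finite G]

/-- Centralisers in an invariant Sylow subgroup are Sylow subgroups of centralisers. -/
theorem factorization_centralizer {A N : Subgroup G} (hAN : A ≤ Subgroup.normalizer (N : Set G))
    (hcop : (Nat.card A).Coprime (Nat.card N)) (hsol : Group.IsSolvable A) {q : ℕ} [Fact q.Prime]
    (Q : Sylow q N) (hQ : A ≤ Subgroup.normalizer ((Q : Subgroup N).map N.subtype : Set G)) :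
    Nat.card ((Q : Subgroup N).map N.subtype ⊓ Subgroup.centralizer (A : Set G) : Subgroup G) =
      q ^ (Nat.card (N ⊓ Subgroup.centralizer (A : Set G) : Subgroup G)).factorization q := by
  set C := N ⊓ Subgroup.centralizer (A : Set G) with hCdef
  set Qc := (Q : Subgroup N).map N.subtype ⊓ Subgroup.centralizer (A : Set G) with hQcdef
  obtain ⟨i, hi⟩ := IsPGroup.iff_card.mp
    ((Q.isPGroup'.map N.subtype).to_le (inf_le_left : Qc ≤ _))
  have hle : Qc ≤ C := inf_le_inf_right _ (Subgroup.map_subtype_le _)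
  have hup : i ≤ (Nat.card C).factorization q := by
    rw [← Nat.Prime.pow_dvd_iff_le_factorization Fact.out Nat.card_pos.ne', ← hi]
    exact Subgroup.card_dvd_of_le hle
  obtain ⟨S⟩ : Nonempty (Sylow q C) := inferInstance
  set S' := (S : Subgroup C).map C.subtype
  have hS'C : S' ≤ C := Subgroup.map_subtype_le _
  have hS'cent : A ≤ Subgroup.centralizer (S' : Set G) :=
    Subgroup.le_centralizer_iff.mp (hS'C.trans inf_le_right)
  obtain ⟨P, hSP, hP⟩ := H1.exists_invariant_sylow_ge hAN hcop (Or.inl hsol) q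
    (hS'C.trans inf_le_left) (S.isPGroup'.map C.subtype)
    (hS'cent.trans (Subgroup.centralizer_le_normalizer _))
  obtain ⟨c, hc, hcPQ⟩ := H1.exists_fixed_conj_sylow hAN hcop (Or.inl hsol) q P Q hP hQ
  have hinto : S'.map (MulAut.conj (c : G)).toMonoidHom ≤ Qc := by
    rintro _ ⟨x, hx, rfl⟩
    refine Subgroup.mem_inf.mpr ⟨?_, ?_⟩
    · obtain ⟨y, hy, hyx⟩ := hSP hx
      refine ⟨c * y * c⁻¹, ?_, by simp [← hyx]⟩
      rw [← hcPQ]
      exact ⟨y, hy, rfl⟩
    · exact mul_mem (mul_mem hc (Subgroup.mem_inf.mp (hS'C hx)).2) (inv_mem hc)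
  have hlow := Subgroup.card_dvd_of_le hinto
  rw [Subgroup.card_map_of_injective (MulAut.conj (c : G)).injective, Subgroup.card_subtype,
    S.card_eq_multiplicity, hi, Nat.pow_dvd_pow_iff_le_right (Fact.out : q.Prime).one_lt] at hlow
  rw [hi, le_antisymm hup hlow]

/-- The automorphism of the abelianisation induced by an automorphism. -/
def abelAut (H : Type u) [Group H] : MulAut H →* MulAut (Abelianization H) where
  toFun f := MulEquiv.abelianizationCongr f
  map_one' := by
    ext x
    induction x using QuotientGroup.induction_on with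
    | H x => rfl
  map_mul' f g := by
    ext x
    induction x using QuotientGroup.induction_on with
    | H x => rfl

theorem commutator_eq_bot_of_pairs (p : ℕ) [Fact p.Prime] (hp3 : 3 ≤ p) (P : Sylow p G)
    (N : Subgroup G) [N.Normal] (hN : (Nat.card N).Coprime p) (hNP : N ⊔ (P : Subgroup G) = ⊤)
    (C D : Set G) (hC : Subgroup.closure C = (P : Subgroup G)) (hD : Subgroup.closure D = (P : Subgroup G))
    (h : ∀ x ∈ N, ∀ c ∈ C, ∀ d ∈ D, IsPGroup p (Subgroup.closure ({x * c * x⁻¹, d} : Set G))) :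
    ⁅(P : Subgroup G), N⁆ = ⊥ := by
  classical
  have hCP : C ⊆ (P : Subgroup G) := hC ▸ Subgroup.subset_closure
  have hDP : D ⊆ (P : Subgroup G) := hD ▸ Subgroup.subset_closure
  -- `N` is the product of the two centralisers
  have hfac : ∀ c ∈ C, ∀ d ∈ D, (N : Set G) =
      ((N ⊓ Subgroup.centralizer ({d} : Set G) : Subgroup G) : Set G) *
        ((N ⊓ Subgroup.centralizer ({c} : Set G) : Subgroup G) : Set G) := by
    intro c hc d hd
    refine Set.Subset.antisymm (fun x hx => ?_) ?_
    · obtain ⟨n, hn, hconj⟩ := H35.exists_conj_mem_of_le_sup N hN (h x hx c hc d hd) P.isPGroup'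
        (B := (P : Subgroup G)) (by rw [sup_comm, hNP]; exact le_top)
      have key : ∀ y ∈ N, ∀ a ∈ (P : Subgroup G), y * a * y⁻¹ ∈ (P : Subgroup G) → y * a = a * y := by
        intro y hy a ha hya
        have h1 : y * a * y⁻¹ * a⁻¹ ∈ N := by
          have h1 := mul_mem hy (Subgroup.Normal.conj_mem ‹N.Normal› y⁻¹ (inv_mem hy) a)
          simpa [mul_assoc] using h1
        have h2 : y * a * y⁻¹ * a⁻¹ ∈ (P : Subgroup G) := mul_mem hya (inv_mem ha)
        obtain ⟨k, hk⟩ := P.isPGroup' ⟨_, h2⟩
        have h3 : orderOf (y * a * y⁻¹ * a⁻¹) ∣ Nat.gcd (Nat.card N) (p ^ k) := by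
          refine Nat.dvd_gcd ?_ (orderOf_dvd_of_pow_eq_one (congrArg Subtype.val hk))
          exact Subgroup.orderOf_dvd_natCard _ h1
        rw [(hN.pow_right k).gcd_eq_one, Nat.dvd_one, orderOf_eq_one_iff, mul_inv_eq_one,
          mul_inv_eq_iff_eq_mul] at h3
        exact h3
      have hdn : n * d = d * n :=
        key n hn d (hDP hd) (hconj d (Subgroup.subset_closure (by simp)))
      have hcn : n * x * c = c * (n * x) := by
        refine key (n * x) (mul_mem hn hx) c (hCP hc) ?_
        have := hconj (x * c * x⁻¹) (Subgroup.subset_closure (by simp))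
        simpa [mul_assoc, mul_inv_rev] using this
      refine ⟨n⁻¹, Subgroup.mem_inf.mpr ⟨inv_mem hn, inv_mem (Subgroup.mem_centralizer_singleton_iff.mpr hdn)⟩,
        n * x, Subgroup.mem_inf.mpr ⟨mul_mem hn hx, Subgroup.mem_centralizer_singleton_iff.mpr hcn⟩, ?_⟩
      simp
    · rintro _ ⟨a, ha, b, hb, rfl⟩
      exact mul_mem (Subgroup.mem_inf.mp ha).1 (Subgroup.mem_inf.mp hb).1
  rw [Subgroup.commutator_eq_bot_iff_le_centralizer]
  -- each invariant Sylow subgroup of `N` is centralised
  have hPN : (P : Subgroup G) ≤ Subgroup.normalizer (N : Set G) := Subgroup.le_normalizer_of_normal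
  obtain ⟨e, he⟩ := P.isPGroup'.exists_card_eq
  have hcop : (Nat.card (P : Subgroup G)).Coprime (Nat.card N) := by
    rw [he]; exact (hN.pow_right e).symm
  have hsol : Group.IsSolvable (P : Subgroup G) := by
    have := P.isPGroup'.isNilpotent
    infer_instance
  suffices hS : ∀ q : ℕ, q.Prime → ∃ Q : Subgroup G, Q ≤ N ⊓ Subgroup.centralizer ((P : Subgroup G) : Set G) ∧
      Nat.card Q = q ^ (Nat.card N).factorization q by
    have hdvd : Nat.card N ∣ Nat.card (N ⊓ Subgroup.centralizer ((P : Subgroup G) : Set G) : Subgroup G) := by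
      rw [← Nat.factorization_le_iff_dvd Nat.card_pos.ne' Nat.card_pos.ne']
      intro q
      by_cases hq : q.Prime
      · obtain ⟨Q, hQ, hQc⟩ := hS q hq
        rw [← hq.pow_dvd_iff_le_factorization Nat.card_pos.ne', ← hQc]
        exact Subgroup.card_dvd_of_le hQ
      · rw [Nat.factorization_eq_zero_of_not_prime _ hq]; exact Nat.zero_le _
    have heq := Subgroup.eq_of_le_of_card_ge (inf_le_left : N ⊓ Subgroup.centralizer ((P : Subgroup G) : Set G) ≤ N)
      (Nat.le_of_dvd Nat.card_pos hdvd)
    exact Subgroup.le_centralizer_iff.mp (heq.ge.trans inf_le_right)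
  intro q hq
  haveI := Fact.mk hq
  obtain ⟨Q, hQ⟩ := H1.exists_invariant_sylow hPN hcop (Or.inl hsol) q
  set K := (Q : Subgroup N).map N.subtype with hK
  have hKq : IsPGroup q K := Q.isPGroup'.map N.subtype
  have hKcard : Nat.card K = q ^ (Nat.card N).factorization q := by
    rw [hK, Subgroup.card_subtype, Q.card_eq_multiplicity]
  refine ⟨K, le_inf (Subgroup.map_subtype_le _) ?_, hKcard⟩
  have hsub : ∀ S : Set G, S ⊆ (P : Subgroup G) →
      Nat.card (K ⊓ Subgroup.centralizer S : Subgroup G) =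
        q ^ (Nat.card (N ⊓ Subgroup.centralizer S : Subgroup G)).factorization q := by
    intro S hS
    have hA : Subgroup.closure S ≤ (P : Subgroup G) := (Subgroup.closure_le _).mpr hS
    have := factorization_centralizer (hA.trans hPN)
      (hcop.coprime_dvd_left (Subgroup.card_dvd_of_le hA)) (H1.isSolvable_mono hsol hA) Q (hA.trans hQ)
    rwa [Subgroup.centralizer_closure] at this
  have hKfac : ∀ c ∈ C, ∀ d ∈ D, ∀ v ∈ K, ∃ b ∈ K, ∃ a ∈ K,
      b * d = d * b ∧ a * c = c * a ∧ b * a = v := by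
    intro c hc d hd v hv
    have hn := Cfsg.Agent.H29.card_prod_mul_card_inf (N ⊓ Subgroup.centralizer ({d} : Set G))
      (N ⊓ Subgroup.centralizer ({c} : Set G))
    rw [← hfac c hc d hd, Nat.card_coe_set_eq, ← Nat.card_coe_set_eq (N : Set G)] at hn
    have hinf : ∀ L : Subgroup G, (L ⊓ Subgroup.centralizer ({d} : Set G)) ⊓
        (L ⊓ Subgroup.centralizer ({c} : Set G)) = L ⊓ Subgroup.centralizer ({d, c} : Set G) := by
      intro L
      ext y
      simp only [Subgroup.mem_inf, Subgroup.mem_centralizer_iff, Set.mem_insert_iff,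
        Set.mem_singleton_iff, forall_eq_or_imp, forall_eq]
      tauto
    rw [hinf] at hn
    have hk := Cfsg.Agent.H29.card_prod_mul_card_inf (K ⊓ Subgroup.centralizer ({d} : Set G))
      (K ⊓ Subgroup.centralizer ({c} : Set G))
    rw [hinf, hsub _ (Set.singleton_subset_iff.mpr (hDP hd)),
      hsub _ (Set.singleton_subset_iff.mpr (hCP hc)),
      hsub _ (Set.insert_subset (hDP hd) (Set.singleton_subset_iff.mpr (hCP hc)))] at hk
    have hv1 := congrArg (fun k : ℕ => k.factorization q) hn
    simp only [SetLike.coe_sort_coe, Nat.factorization_mul Nat.card_pos.ne' Nat.card_pos.ne',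
      Finsupp.add_apply] at hv1
    have hcard : Nat.card (((K ⊓ Subgroup.centralizer ({d} : Set G) : Subgroup G) : Set G) *
        ((K ⊓ Subgroup.centralizer ({c} : Set G) : Subgroup G) : Set G) : Set G) = Nat.card K := by
      rw [← pow_add, ← hv1, pow_add, ← hKcard] at hk
      exact Nat.eq_of_mul_eq_mul_right (pow_pos hq.pos _) hk
    have hsubset : ((K ⊓ Subgroup.centralizer ({d} : Set G) : Subgroup G) : Set G) *
        ((K ⊓ Subgroup.centralizer ({c} : Set G) : Subgroup G) : Set G) ⊆ (K : Set G) := by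
      rintro _ ⟨a, ha, b, hb, rfl⟩
      exact mul_mem (Subgroup.mem_inf.mp ha).1 (Subgroup.mem_inf.mp hb).1
    rw [Nat.card_coe_set_eq] at hcard
    have heq := Set.eq_of_subset_of_ncard_le hsubset
      (by rw [hcard]; exact le_of_eq (Nat.card_coe_set_eq (K : Set G)).symm) (Set.toFinite _)
    obtain ⟨b, hb, a, ha, hab⟩ := heq.ge hv
    exact ⟨b, (Subgroup.mem_inf.mp hb).1, a, (Subgroup.mem_inf.mp ha).1,
      Subgroup.mem_centralizer_singleton_iff.mp (Subgroup.mem_inf.mp hb).2,
      Subgroup.mem_centralizer_singleton_iff.mp (Subgroup.mem_inf.mp ha).2, hab⟩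
  -- act on the abelianisation
  let φ : (P : Subgroup G) →* MulAut (Abelianization K) :=
    (abelAut K).comp (K.normalizerMonoidHom.comp (Subgroup.inclusion hQ))
  have hφ : ∀ (g : (P : Subgroup G)) (x : G) (hx : x ∈ K) (hgx : (g : G) * x * (g : G)⁻¹ ∈ K),
      φ g (Abelianization.of ⟨x, hx⟩) = Abelianization.of ⟨(g : G) * x * (g : G)⁻¹, hgx⟩ :=
    fun g x hx hgx => rfl
  haveI : Finite (Abelianization K) := inferInstance
  have hcl : ∀ S : Set G, Subgroup.closure S = (P : Subgroup G) →
      Subgroup.closure (φ '' ((Subtype.val : ↥(P : Subgroup G) → G) ⁻¹' S)) = φ.range := by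
    intro S hS
    have key : Subgroup.closure ((Subtype.val : ↥(P : Subgroup G) → G) ⁻¹' S) = ⊤ := by
      apply Subgroup.map_injective (P : Subgroup G).subtype_injective
      rw [MonoidHom.map_closure, ← MonoidHom.range_eq_map, Subgroup.range_subtype, ← hS]
      congr 1
      exact Set.image_preimage_eq_iff.mpr (fun x hx => ⟨⟨x, hS ▸ Subgroup.subset_closure hx⟩, rfl⟩)
    rw [← MonoidHom.map_closure, key, MonoidHom.range_eq_map]
  have hqp : (Nat.card (Abelianization K)).Coprime p :=
    hN.coprime_dvd_left ((Subgroup.card_quotient_dvd_card _).trans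
      (Subgroup.card_dvd_of_le (Subgroup.map_subtype_le _)))
  have htriv := trivial_of_factor hp3 _ (Abelianization K) rfl hqp φ.range (φ '' ((Subtype.val : ↥(P : Subgroup G) → G) ⁻¹' C))
    (φ '' ((Subtype.val : ↥(P : Subgroup G) → G) ⁻¹' D)) (P.isPGroup'.of_surjective φ.rangeRestrict φ.rangeRestrict_surjective)
    (hcl C hC) (hcl D hD) (by
      rintro _ ⟨c, hc, rfl⟩ _ ⟨d, hd, rfl⟩ v
      induction v using QuotientGroup.induction_on with
      | H v =>
        obtain ⟨b, hb, a, ha, hbd, hac, hab⟩ := hKfac c hc d hd v v.2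
        have hcc : (c : G) * a * (c : G)⁻¹ = a := by rw [← hac, mul_inv_cancel_right]
        have hdd : (d : G) * b * (d : G)⁻¹ = b := by rw [← hbd, mul_inv_cancel_right]
        refine ⟨Abelianization.of ⟨a, ha⟩, Abelianization.of ⟨b, hb⟩, ?_, ?_, ?_⟩
        · rw [hφ c a ha (by rw [hcc]; exact ha)]; exact congrArg _ (Subtype.ext hcc)
        · rw [hφ d b hb (by rw [hdd]; exact hb)]; exact congrArg _ (Subtype.ext hdd)
        · rw [← map_mul]; exact congrArg _ (Subtype.ext hab))
  refine Subgroup.le_centralizer_iff.mpr (Subgroup.le_centralizer_iff.mp ?_)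
  refine Subgroup.le_centralizer_iff.mp (H1.le_centralizer_of_frattini hQ ?_ ?_)
  · exact hcop.coprime_dvd_right ((Subgroup.card_subgroup_dvd_card _).trans
      (Subgroup.card_dvd_of_le (Subgroup.map_subtype_le _)))
  · intro g hg k hk
    have hgk : g * k * g⁻¹ ∈ K := (Subgroup.mem_normalizer_iff.mp (hQ hg) k).mp hk
    have h1 : φ ⟨g, hg⟩ = 1 := Subgroup.mem_bot.mp (htriv ▸ ⟨⟨g, hg⟩, rfl⟩)
    have h2 : Abelianization.of (⟨g * k * g⁻¹, hgk⟩ : K) = Abelianization.of ⟨k, hk⟩ := by
      rw [← hφ ⟨g, hg⟩ k hk hgk, h1, MulAut.one_apply]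
    refine ⟨⟨g * k * g⁻¹, hgk⟩ * ⟨k, hk⟩⁻¹, H31.commutator_le_frattini hKq ?_, rfl⟩
    rw [← Abelianization.ker_of, MonoidHom.mem_ker, map_mul, map_inv, h2, mul_inv_cancel]

end group

end H63
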