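import Cfsg.Agent.H6.OmegaOdd
import Cfsg.Agent.H80.Detect
import Mathlib

/-!
Coprime action of a `p`-group (`p` odd) on an abelian group: if two generating sets `C`, `D`
satisfy `V = C(d) C(c)` throughout, the action is trivial.
-/

set_option autoImplicit false
set_option maxHeartbeats 400000

namespace H63

universe u

section abelian

variable {V : Type u} [CommGroup V]

/-- Fixed points of an automorphism. -/
def fixSub (c : MulAut V) : Subgroup V where
  carrier := {v | c v = v}
  one_mem' := map_one c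
  mul_mem' := fun {a b} ha hb => by
    change c (a * b) = a * b
    rw [map_mul]
    exact congr_arg₂ (· * ·) ha hb
  inv_mem' := fun {a} ha => by
    change c a⁻¹ = a⁻¹
    rw [map_inv]
    exact congrArg (·⁻¹) ha

theorem mem_fixSub {c : MulAut V} {v : V} : v ∈ fixSub c ↔ c v = v := Iff.rfl

theorem fixSub_le_pow (c : MulAut V) (k : ℕ) : fixSub c ≤ fixSub (c ^ k) := by
  intro v hv
  induction k with
  | zero => rfl
  | succ k ih => rw [mem_fixSub, pow_succ, MulAut.mul_apply, mem_fixSub.mp hv, mem_fixSub.mp ih]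

/-- The norm map of an element of order dividing `p`. -/
def powNorm (p : ℕ) (x : MulAut V) : V →* V where
  toFun v := ∏ k ∈ Finset.range p, (x ^ k) v
  map_one' := by simp
  map_mul' v w := by simp [Finset.prod_mul_distrib]

theorem powNorm_apply (p : ℕ) (x : MulAut V) (v : V) :
    powNorm p x v = ∏ k ∈ Finset.range p, (x ^ k) v := rfl

theorem powNorm_fixed {p : ℕ} {x : MulAut V} (hx : x ^ p = 1) (v : V) :
    x (powNorm p x v) = powNorm p x v := by
  rw [powNorm_apply, map_prod]
  have h1 : ∀ k, x ((x ^ k) v) = (x ^ (k + 1)) v := fun k => by rw [pow_succ', MulAut.mul_apply]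
  simp only [h1]
  rcases p with _ | p
  · simp
  rw [Finset.prod_range_succ _ p, Finset.prod_range_succ' (fun k => (x ^ k) v) p, hx, pow_zero]

theorem powNorm_of_fixed {p : ℕ} {x : MulAut V} {v : V} (hv : x v = v) :
    powNorm p x v = v ^ p := by
  rw [powNorm_apply, Finset.prod_congr rfl (fun k _ => (fixSub_le_pow x k hv : (x ^ k) v = v)),
    Finset.prod_const, Finset.card_range]

theorem powNorm_conj {p : ℕ} {c x y : MulAut V} (h : c * x * c⁻¹ = y) (v : V) :
    c (powNorm p x v) = powNorm p y (c v) := by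
  simp only [powNorm_apply, map_prod]
  refine Finset.prod_congr rfl fun k _ => ?_
  rw [← h, conj_pow, MulAut.mul_apply, MulAut.mul_apply, MulAut.inv_apply_self]

variable [Finite V] {p : ℕ}

theorem eq_one_of_pow_eq_one (hcop : (Nat.card V).Coprime p) {v : V} (hv : v ^ p = 1) : v = 1 :=
  orderOf_eq_one_iff.mp (Nat.eq_one_of_dvd_one (hcop ▸ Nat.dvd_gcd (orderOf_dvd_natCard v)
    (orderOf_dvd_of_pow_eq_one hv)))

theorem fixed_of_pow_fixed [Fact p.Prime] {x : MulAut V} (hx : x ^ p = 1) {k : ℕ} (hk0 : 0 < k)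
    (hk : k < p) {w : V} (hw : (x ^ k) w = w) : x w = w := by
  have hcp : k.Coprime p := ((Fact.out : p.Prime).coprime_iff_not_dvd.mpr fun h =>
    absurd (Nat.le_of_dvd hk0 h) (not_le.mpr hk)).symm
  obtain ⟨m, -, hm⟩ := Nat.exists_mul_mod_eq_one_of_coprime hcp (Fact.out : p.Prime).one_lt
  have h2 : (x ^ k) ^ m = x := by
    rw [← pow_mul, ← Nat.div_add_mod (k * m) p, hm, pow_add, pow_mul, hx, one_pow, one_mul, pow_one]
  have h3 := fixSub_le_pow (x ^ k) m hw
  rwa [h2] at h3

variable {e z : MulAut V}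

theorem ez_pow_p (hz : z ^ p = 1) (he : e ^ p = 1) (hez : Commute e z) (i : ℕ) : (e * z ^ i) ^ p = 1 := by
  rw [(hez.pow_right i).mul_pow, he, ← pow_mul, mul_comm, pow_mul, hz, one_pow, one_mul]

/-- The norms of the complements of `⟨z⟩` in `⟨e, z⟩` multiply to the `p`-th power. -/
theorem prod_powNorm [Fact p.Prime] (hz : z ^ p = 1) (hfpf : ∀ v, z v = v → v = 1)
    (hez : Commute e z) (v : V) : ∏ i ∈ Finset.range p, powNorm p (e * z ^ i) v = v ^ p := by
  simp only [powNorm_apply]
  rw [Finset.prod_comm]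
  have h0 : ∏ i ∈ Finset.range p, ((e * z ^ i) ^ 0) v = v ^ p := by simp
  rw [← Finset.mul_prod_erase _ _ (Finset.mem_range.mpr (Fact.out : p.Prime).pos), h0]
  rw [Finset.prod_eq_one, mul_one]
  intro k hk
  have hrw : ∀ i, ((e * z ^ i) ^ k) v = (e ^ k) (((z ^ k) ^ i) v) := fun i => by
    rw [(hez.pow_right i).mul_pow, ← pow_mul, mul_comm i k, pow_mul, MulAut.mul_apply]
  simp only [hrw, ← map_prod]
  have hkp : k ≠ 0 ∧ k < p := ⟨Finset.ne_of_mem_erase hk, Finset.mem_range.mp (Finset.mem_of_mem_erase hk)⟩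
  have hfix : (z ^ k) (powNorm p (z ^ k) v) = powNorm p (z ^ k) v :=
    powNorm_fixed (by rw [← pow_mul, mul_comm, pow_mul, hz, one_pow]) v
  have h1 : z (powNorm p (z ^ k) v) = powNorm p (z ^ k) v :=
    fixed_of_pow_fixed hz (Nat.pos_of_ne_zero hkp.1) hkp.2 hfix
  rw [powNorm_apply] at h1
  rw [hfpf _ h1, map_one]

theorem powNorm_powNorm [Fact p.Prime] (hz : z ^ p = 1) (he : e ^ p = 1)
    (hfpf : ∀ v, z v = v → v = 1) (hez : Commute e z) {i j : ℕ} (hi : i < p) (hj : j < p)
    (hij : i ≠ j) (v : V) : powNorm p (e * z ^ j) (powNorm p (e * z ^ i) v) = 1 := by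
  set w := powNorm p (e * z ^ j) (powNorm p (e * z ^ i) v)
  have hwj : (e * z ^ j) w = w := powNorm_fixed (ez_pow_p hz he hez j) _
  have hwi : (e * z ^ i) w = w := by
    have hc : Commute (e * z ^ i) (e * z ^ j) :=
      ((Commute.refl e).mul_left (hez.pow_right i).symm).mul_right
        ((hez.pow_right j).mul_left (Commute.refl z |>.pow_pow i j))
    have h := powNorm_conj (p := p) (c := e * z ^ i) (x := e * z ^ j) (y := e * z ^ j)
      (by rw [hc.eq, mul_inv_cancel_right]) (powNorm p (e * z ^ i) v)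
    rwa [powNorm_fixed (ez_pow_p hz he hez i) v] at h
  have hzw : ∀ i j, i < j → j < p → (e * z ^ i) w = w → (e * z ^ j) w = w → z w = w := by
    intro i j hlt hj hwi hwj
    obtain ⟨d, rfl⟩ := Nat.exists_eq_add_of_lt hlt
    have h1 : (z ^ (d + 1)) w = w := by
      rw [show i + d + 1 = i + (d + 1) by ring, pow_add, ← mul_assoc, MulAut.mul_apply] at hwj
      exact (e * z ^ i).injective (hwj.trans hwi.symm)
    exact fixed_of_pow_fixed hz (by omega) (by omega) h1
  rcases Nat.lt_or_gt_of_ne hij with h | h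
  · exact hfpf _ (hzw i j h hj hwi hwj)
  · exact hfpf _ (hzw j i h hi hwj hwi)

/-- An element moving `e` to `e z`, with `z` fixed point free, fixes at most a `p`-th root of `V`. -/
theorem card_fixSub_pow_le [Fact p.Prime] (hcop : (Nat.card V).Coprime p) (hz : z ^ p = 1)
    (he : e ^ p = 1) (hfpf : ∀ v, z v = v → v = 1) (hez : Commute e z) {c : MulAut V}
    (hcz : Commute c z) (hce : c * e * c⁻¹ = e * z) : Nat.card (fixSub c) ^ p ≤ Nat.card V := by
  classical
  have hcard : Nat.card (Fin p → fixSub c) = Nat.card (fixSub c) ^ p := by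
    rw [Nat.card_fun, Nat.card_fin]
  rw [← hcard]
  let ψ : (Fin p → fixSub c) →* V :=
    { toFun := fun f => ∏ i : Fin p, powNorm p (e * z ^ (i : ℕ)) (f i : V)
      map_one' := by simp
      map_mul' := fun f g => by simp [Finset.prod_mul_distrib] }
  refine Nat.card_le_card_of_injective ψ ((injective_iff_map_eq_one ψ).mpr fun f hf => funext fun j => ?_)
  have hj : powNorm p (e * z ^ (j : ℕ)) (f j : V) = 1 := by
    have h := congrArg (powNorm p (e * z ^ (j : ℕ))) hf
    simp only [ψ, MonoidHom.coe_mk, OneHom.coe_mk, map_prod, map_one] at h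
    rw [Finset.prod_eq_single j (fun i _ hij => powNorm_powNorm hz he hfpf hez i.2 j.2
      (fun h => hij (Fin.ext h)) _) (by simp)] at h
    rw [powNorm_of_fixed (powNorm_fixed (ez_pow_p hz he hez _) _)] at h
    exact eq_one_of_pow_eq_one hcop h
  have hshift : ∀ i : ℕ, powNorm p (e * z ^ i) (f j : V) = 1 →
      powNorm p (e * z ^ (i + 1)) (f j : V) = 1 := by
    intro i hi
    have h := powNorm_conj (p := p) (c := c) (x := e * z ^ i) (y := e * z ^ (i + 1)) ?_ (f j : V)
    · rw [hi, map_one, mem_fixSub.mp (f j).2] at h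
      exact h.symm
    · calc c * (e * z ^ i) * c⁻¹ = c * e * c⁻¹ * (c * z ^ i * c⁻¹) := by group
        _ = e * z * z ^ i := by rw [hce, (hcz.pow_right i).eq, mul_inv_cancel_right]
        _ = e * z ^ (i + 1) := by rw [mul_assoc, ← pow_succ']
  have hall : ∀ k, powNorm p (e * z ^ ((j : ℕ) + k)) (f j : V) = 1 := by
    intro k
    induction k with
    | zero => exact hj
    | succ k ih => exact hshift _ ih
  apply Subtype.ext
  refine eq_one_of_pow_eq_one hcop ?_
  rw [← prod_powNorm hz hfpf hez]
  refine Finset.prod_eq_one fun i hi => ?_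
  have h := hall (p * 1 + i - j)
  have : (j : ℕ) + (p * 1 + i - j) = p * 1 + i := by have := j.2; omega
  rwa [this, pow_add, pow_mul, hz, one_pow, one_mul] at h

/-- A noncyclic group of fixed point free automorphisms of order `p` fixes nothing at all. -/
theorem eq_one_of_all_fpf [Fact p.Prime] (hcop : (Nat.card V).Coprime p) (hz : z ^ p = 1)
    (he : e ^ p = 1) (hfpf : ∀ v, z v = v → v = 1) (hez : Commute e z)
    (hall : ∀ i : ℕ, ∀ v, (e * z ^ i) v = v → v = 1) (v : V) : v = 1 := by
  refine eq_one_of_pow_eq_one hcop ?_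
  rw [← prod_powNorm hz hfpf hez]
  exact Finset.prod_eq_one fun i _ => hall i _ (powNorm_fixed (ez_pow_p hz he hez i) _)

end abelian

/-- The induced automorphism of the quotient by an invariant subgroup. -/
def quotAut {V : Type u} [CommGroup V] (W : Subgroup V) (P : Subgroup (MulAut V))
    (h : ∀ g : P, W.map ((g : MulAut V) : V ≃* V).toMonoidHom = W) : P →* MulAut (V ⧸ W) where
  toFun g := QuotientGroup.congr W W ((g : MulAut V) : V ≃* V) (h g)
  map_one' := by
    ext x
    induction x using QuotientGroup.induction_on with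
    | H x => rfl
  map_mul' g g' := by
    ext x
    induction x using QuotientGroup.induction_on with
    | H x => rfl

theorem quotAut_mk {V : Type u} [CommGroup V] {W : Subgroup V} {P : Subgroup (MulAut V)}
    (h : ∀ g : P, W.map ((g : MulAut V) : V ≃* V).toMonoidHom = W) (g : P) (v : V) :
    quotAut W P h g (v : V ⧸ W) = (((g : MulAut V) v : V) : V ⧸ W) := rfl

/-- By induction, nontrivial central elements are fixed point free. -/
theorem central_fpf {p : ℕ} [Fact p.Prime] {V : Type u} [CommGroup V] [Finite V]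
    (ih : ∀ (W : Type u) [CommGroup W] [Finite W], Nat.card W < Nat.card V → (Nat.card W).Coprime p →
      ∀ (P : Subgroup (MulAut W)) (C D : Set (MulAut W)), IsPGroup p P →
        Subgroup.closure C = P → Subgroup.closure D = P →
        (∀ c ∈ C, ∀ d ∈ D, ∀ v, ∃ a b : W, c a = a ∧ d b = b ∧ b * a = v) → P = ⊥)
    (hcop : (Nat.card V).Coprime p) (P : Subgroup (MulAut V)) (C D : Set (MulAut V))
    (hP : IsPGroup p P) (hC : Subgroup.closure C = P) (hD : Subgroup.closure D = P)
    (hfac : ∀ c ∈ C, ∀ d ∈ D, ∀ v, ∃ a b : V, c a = a ∧ d b = b ∧ b * a = v)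
    {z : MulAut V} (hz : z ∈ P) (hcen : ∀ x ∈ P, Commute x z) (hz1 : z ≠ 1) :
    ∀ v, z v = v → v = 1 := by
  let W := fixSub z
  by_contra! hW
  obtain ⟨v₀, hv₀, hv₀1⟩ := hW
  have hinv : ∀ g : P, W.map ((g : MulAut V) : V ≃* V).toMonoidHom = W := by
    intro g
    have hsub : ∀ g ∈ P, ∀ w ∈ W, g w ∈ W := fun g hg w hw => by
      rw [mem_fixSub, ← MulAut.mul_apply, ← (hcen g hg).eq, MulAut.mul_apply, mem_fixSub.mp hw]
    refine le_antisymm ?_ ?_
    · rintro _ ⟨w, hw, rfl⟩
      exact hsub g g.2 w hw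
    · intro w hw
      exact ⟨(g : MulAut V)⁻¹ w, hsub _ (inv_mem g.2) w hw, MulAut.apply_inv_self _ _ _⟩
  let ρ := quotAut W P hinv
  have hlt : Nat.card (V ⧸ W) < Nat.card V := by
    rw [← W.index_mul_card, ← Subgroup.index_eq_card]
    refine lt_mul_of_one_lt_right (Nat.pos_of_ne_zero Subgroup.index_ne_zero_of_finite) ?_
    exact W.one_lt_card_iff_ne_bot.mpr fun h => hv₀1 (Subgroup.mem_bot.mp (h ▸ hv₀))
  have hcl : ∀ S : Set (MulAut V), Subgroup.closure S = P →
      Subgroup.closure (⇑ρ '' ((Subtype.val : P → MulAut V) ⁻¹' S)) = ρ.range := by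
    intro S hS
    subst hS
    rw [← MonoidHom.map_closure, Subgroup.closure_closure_coe_preimage, MonoidHom.range_eq_map]
  have htriv := ih (V ⧸ W) hlt (hcop.coprime_dvd_left (Subgroup.card_quotient_dvd_card W))
    ρ.range (⇑ρ '' (Subtype.val ⁻¹' C)) (⇑ρ '' (Subtype.val ⁻¹' D))
    (hP.of_surjective ρ.rangeRestrict ρ.rangeRestrict_surjective) (hcl C hC) (hcl D hD) (by
      rintro _ ⟨c, hc, rfl⟩ _ ⟨d, hd, rfl⟩ v
      induction v using QuotientGroup.induction_on with
      | H v =>
        obtain ⟨a, b, ha, hb, hab⟩ := hfac c hc d hd v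
        exact ⟨a, b, (quotAut_mk hinv c a).trans (congrArg QuotientGroup.mk ha),
            (quotAut_mk hinv d b).trans (congrArg QuotientGroup.mk hb),
          congrArg QuotientGroup.mk hab⟩)
  apply hz1
  ext v
  change z v = v
  have hρ : ρ ⟨z, hz⟩ = 1 := Subgroup.mem_bot.mp (htriv ▸ ⟨⟨z, hz⟩, rfl⟩)
  have hq : (QuotientGroup.mk (z v) : V ⧸ W) = QuotientGroup.mk v :=
    (quotAut_mk hinv ⟨z, hz⟩ v).symm.trans (DFunLike.congr_fun hρ (QuotientGroup.mk v : V ⧸ W))
  obtain ⟨w, hw, hzv⟩ : ∃ w ∈ W, z v = v * w :=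
    ⟨v⁻¹ * z v, QuotientGroup.eq.mp hq.symm, (mul_inv_cancel_left v (z v)).symm⟩
  have hiter : ∀ k : ℕ, (z ^ k) v = v * w ^ k := by
    intro k
    induction k with
    | zero => simp
    | succ k ihk =>
      rw [pow_succ', MulAut.mul_apply, ihk, map_mul, map_pow, hzv, mem_fixSub.mp hw, pow_succ',
        mul_assoc]
  obtain ⟨k, hk⟩ := hP ⟨z, hz⟩
  have hzk : z ^ p ^ k = 1 := by simpa using congrArg Subtype.val hk
  have hw1 := hiter (p ^ k)
  rw [hzk, MulAut.one_apply] at hw1
  have : w = 1 := eq_one_of_pow_eq_one (hcop.pow_right k) (mul_left_cancel (hw1.symm.trans (mul_one v).symm))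
  rw [hzv, this, mul_one]

/-- The abelian case. -/
theorem trivial_of_factor {p : ℕ} [Fact p.Prime] (hp3 : 3 ≤ p) :
    ∀ (n : ℕ) (V : Type u) [CommGroup V] [Finite V], Nat.card V = n → (Nat.card V).Coprime p →
      ∀ (P : Subgroup (MulAut V)) (C D : Set (MulAut V)), IsPGroup p P →
        Subgroup.closure C = P → Subgroup.closure D = P →
        (∀ c ∈ C, ∀ d ∈ D, ∀ v, ∃ a b : V, c a = a ∧ d b = b ∧ b * a = v) → P = ⊥ := by
  intro n
  induction n using Nat.strong_induction_on with
  | _ n ih =>
    intro V _ _ hn hcop P C D hP hC hD hfac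
    by_contra hne
    have hCP : C ⊆ P := hC ▸ Subgroup.subset_closure
    have hDP : D ⊆ P := hD ▸ Subgroup.subset_closure
    -- central elements are fixed point free
    have hcfpf : ∀ z ∈ P, (∀ x ∈ P, Commute x z) → z ≠ 1 → ∀ v, z v = v → v = 1 := fun z hz hcen hz1 =>
      central_fpf (fun W _ _ hlt => ih _ (hn ▸ hlt) W rfl) hcop P C D hP hC hD hfac hz hcen hz1
    -- a central element of order p
    haveI : Nontrivial P := (Subgroup.nontrivial_iff_ne_bot _).mpr hne
    haveI : Finite (MulAut V) :=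
      Finite.of_injective (fun f : MulAut V => (f : V → V)) DFunLike.coe_injective
    haveI : Nontrivial V := by
      by_contra h
      haveI := not_nontrivial_iff_subsingleton.mp h
      exact hne ((Subgroup.eq_bot_iff_forall _).mpr fun x _ => MulEquiv.ext fun v => Subsingleton.elim _ _)
    have hsmall : ∀ c ∈ C, ∀ d ∈ D, Nat.card (fixSub c) ^ p ≤ Nat.card V →
        Nat.card (fixSub d) ^ p ≤ Nat.card V → False := by
      intro c hc d hd hc' hd'
      have hle : Nat.card V ≤ Nat.card (fixSub c) * Nat.card (fixSub d) := by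
        rw [← Nat.card_prod]
        refine Nat.card_le_card_of_surjective (fun x : fixSub c × fixSub d => (x.2 : V) * x.1) fun v => ?_
        obtain ⟨a, b, ha, hb, hab⟩ := hfac c hc d hd v
        exact ⟨(⟨a, ha⟩, ⟨b, hb⟩), hab⟩
      have h1 : Nat.card V ^ p ≤ Nat.card V ^ 2 :=
        calc Nat.card V ^ p ≤ (Nat.card (fixSub c) * Nat.card (fixSub d)) ^ p := Nat.pow_le_pow_left hle p
          _ ≤ Nat.card V ^ 2 := by rw [mul_pow, pow_two]; exact Nat.mul_le_mul hc' hd'
      have := (Nat.pow_le_pow_iff_right (Finite.one_lt_card (α := V))).mp h1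
      omega
    have hfree : ∀ c : MulAut V, (∀ v, c v = v → v = 1) → Nat.card (fixSub c) ^ p ≤ Nat.card V := by
      intro c hc
      have : fixSub c = ⊥ := (Subgroup.eq_bot_iff_forall _).mpr hc
      rw [this, Subgroup.card_bot, one_pow]
      exact Nat.card_pos
    by_cases hcyc : IsCyclic P
    · -- cyclic: generators are fixed point free
      have hgen : ∀ S : Set (MulAut V), Subgroup.closure S = P → ∃ c ∈ S, ∀ v, c v = v → v = 1 := by
        intro S hS
        obtain ⟨c, hcS, hc1⟩ : ∃ c ∈ S, c ≠ 1 := by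
          by_contra! h
          exact hne (hS ▸ Subgroup.closure_eq_bot_iff.mpr fun x hx => h x hx)
        refine ⟨c, hcS, fun v hv => ?_⟩
        have hcP : c ∈ P := hS ▸ Subgroup.subset_closure hcS
        letI := hcyc.commGroup
        obtain ⟨k, hk⟩ := hP ⟨c, hcP⟩
        have hck : c ^ p ^ k = 1 := by simpa using congrArg Subtype.val hk
        obtain ⟨j, hj⟩ := (Nat.dvd_prime_pow (Fact.out : p.Prime)).mp (orderOf_dvd_of_pow_eq_one hck)
        have hj0 : j ≠ 0 := fun h => hc1 (orderOf_eq_one_iff.mp (by rw [hj.2, h, pow_zero]))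
        set z := c ^ p ^ (j - 1) with hzdef
        have hz1 : z ≠ 1 := fun h => by
          have := orderOf_dvd_of_pow_eq_one h
          rw [hj.2] at this
          exact absurd ((Nat.pow_dvd_pow_iff_le_right (Fact.out : p.Prime).one_lt).mp this) (by omega)
        exact hcfpf z (pow_mem hcP _) (fun x hx =>
          congrArg Subtype.val (mul_comm (⟨x, hx⟩ : P) ⟨z, pow_mem hcP _⟩)) hz1 v (fixSub_le_pow c _ hv)
      obtain ⟨c, hc, hc'⟩ := hgen C hC
      obtain ⟨d, hd, hd'⟩ := hgen D hD
      exact hsmall c hc d hd (hfree c hc') (hfree d hd')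
    · obtain ⟨E, hEn, hEab, hEcard⟩ := H6.exists_normal_elementary_sq (by omega) hP hcyc
      haveI := hEn
      have hE : E ≠ ⊥ := by
        intro h
        rw [h, Subgroup.card_bot] at hEcard
        have : 1 < p ^ 2 := Nat.one_lt_pow two_ne_zero (Fact.out : p.Prime).one_lt
        omega
      obtain ⟨z, hz, hz1⟩ : ∃ z ∈ E ⊓ Subgroup.center P, z ≠ 1 := by
        by_contra! h
        exact H80.pgroup_normal_inf_center_ne_bot hP E hE ((Subgroup.eq_bot_iff_forall _).mpr h)
      obtain ⟨hzE, hzZ⟩ := Subgroup.mem_inf.mp hz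
      have hzp : z ^ p = 1 := hEab.2 z hzE
      obtain ⟨e, heE, hez⟩ : ∃ e ∈ E, e ∉ Subgroup.zpowers z := by
        by_contra! h
        have h1 := Subgroup.card_le_of_le (show E ≤ Subgroup.zpowers z from h)
        rw [Nat.card_zpowers, orderOf_eq_prime hzp hz1, hEcard] at h1
        nlinarith
      have hep : e ^ p = 1 := hEab.2 e heE
      have hcomm : Commute (e : MulAut V) z :=
        congrArg Subtype.val (Subgroup.mem_center_iff.mp hzZ e)
      have hzp' : (z : MulAut V) ^ p = 1 := by simpa using congrArg Subtype.val hzp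
      have hep' : (e : MulAut V) ^ p = 1 := by simpa using congrArg Subtype.val hep
      have hfpf : ∀ z' : P, z' ∈ Subgroup.center P → z' ≠ 1 → ∀ v, (z' : MulAut V) v = v → v = 1 :=
        fun z' hz' hz'1 => hcfpf z' z'.2
          (fun x hx => congrArg Subtype.val (Subgroup.mem_center_iff.mp hz' ⟨x, hx⟩))
          (fun h => hz'1 (Subtype.ext h))
      by_cases hec : e ∈ Subgroup.center P
      · obtain ⟨v, hv⟩ := exists_ne (1 : V)
        refine hv (eq_one_of_all_fpf hcop hzp' hep' (hfpf z hzZ hz1) hcomm (fun i w hw => ?_) v)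
        refine hfpf (e * z ^ i) (mul_mem hec (pow_mem hzZ i)) (fun h => hez ?_) w (by simpa using hw)
        rw [mul_eq_one_iff_eq_inv.mp h]
        exact inv_mem (pow_mem (Subgroup.mem_zpowers z) i)
      -- commutators with `e` are central
      have hstep : ∀ g : P, ∃ z' : P, z' ∈ Subgroup.zpowers z ∧ g * e * g⁻¹ = e * z' := by
        intro g
        let M := Subgroup.zpowers z
        haveI : M.Normal := ⟨fun a ha b => by
          obtain ⟨i, rfl⟩ := Subgroup.mem_zpowers_iff.mp ha
          rw [Subgroup.mem_center_iff.mp (zpow_mem hzZ i) b, mul_inv_cancel_right]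
          exact ha⟩
        have hcardE : Nat.card (E.map (QuotientGroup.mk' M)) = p := by
          have h1 : Nat.card (M.subgroupOf E) = p := by
            rw [Nat.card_congr (Subgroup.subgroupOfEquivOfLe (Subgroup.zpowers_le.mpr hzE)).toEquiv,
              Nat.card_zpowers, orderOf_eq_prime hzp hz1]
          have h2 := (M.subgroupOf E).card_mul_index
          rw [h1, hEcard, pow_two] at h2
          have h3 : (M.subgroupOf E).index = p := Nat.eq_of_mul_eq_mul_left (Fact.out : p.Prime).pos h2
          rw [← h3, ← Subgroup.relIndex_ker, QuotientGroup.ker_mk']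
          rfl
        haveI : (E.map (QuotientGroup.mk' M)).Normal :=
          hEn.map _ (QuotientGroup.mk'_surjective M)
        have hcen : E.map (QuotientGroup.mk' M) ≤ Subgroup.center (P ⧸ M) := by
          have hne' := H80.pgroup_normal_inf_center_ne_bot (hP.to_quotient M) (E.map (QuotientGroup.mk' M))
            (fun h => by rw [h, Subgroup.card_bot] at hcardE; exact (Fact.out : p.Prime).one_lt.ne hcardE)
          have hd := Subgroup.card_dvd_of_le
            (inf_le_left : E.map (QuotientGroup.mk' M) ⊓ Subgroup.center (P ⧸ M) ≤ _)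
          rw [hcardE] at hd
          rcases (Nat.dvd_prime (Fact.out : p.Prime)).mp hd with h | h
          · exact absurd (Subgroup.card_eq_one.mp h) hne'
          · have heq := Subgroup.eq_of_le_of_card_ge
              (inf_le_left : E.map (QuotientGroup.mk' M) ⊓ Subgroup.center (P ⧸ M) ≤ _) (by rw [h, hcardE])
            exact heq.ge.trans inf_le_right
        have h4 := Subgroup.mem_center_iff.mp (hcen (Subgroup.mem_map_of_mem _ heE)) (QuotientGroup.mk' M g)
        refine ⟨e⁻¹ * (g * e * g⁻¹), ?_, by group⟩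
        apply (QuotientGroup.eq_one_iff _).mp
        change QuotientGroup.mk' M _ = 1
        rw [map_mul, map_mul, map_mul, h4, map_inv, map_inv, mul_inv_cancel_right, inv_mul_cancel]
      have hgen : ∀ S : Set (MulAut V), Subgroup.closure S = P →
          ∃ c ∈ S, Nat.card (fixSub c) ^ p ≤ Nat.card V := by
        intro S hS
        obtain ⟨c, hcS, hce⟩ : ∃ c ∈ S, ¬ Commute c (e : MulAut V) := by
          by_contra! h
          apply hec
          rw [Subgroup.mem_center_iff]
          intro x
          apply Subtype.ext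
          have hle : Subgroup.closure S ≤ Subgroup.centralizer ({(e : MulAut V)} : Set (MulAut V)) :=
            (Subgroup.closure_le _).mpr fun y hy => Subgroup.mem_centralizer_singleton_iff.mpr (h y hy).eq
          exact Subgroup.mem_centralizer_singleton_iff.mp (hle (hS.symm ▸ x.2))
        refine ⟨c, hcS, ?_⟩
        have hcP : c ∈ P := hS ▸ Subgroup.subset_closure hcS
        obtain ⟨z', hz', hcz'⟩ := hstep ⟨c, hcP⟩
        have hz'Z : z' ∈ Subgroup.center P := Subgroup.zpowers_le.mpr hzZ hz'
        have hz'1 : z' ≠ 1 := by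
          rintro rfl
          rw [mul_one, mul_inv_eq_iff_eq_mul] at hcz'
          exact hce (congrArg Subtype.val hcz')
        have hz'p : (z' : MulAut V) ^ p = 1 := by
          simpa using congrArg Subtype.val (hEab.2 z' (Subgroup.zpowers_le.mpr hzE hz'))
        exact card_fixSub_pow_le hcop hz'p hep' (hfpf z' hz'Z hz'1)
          (congrArg Subtype.val (Subgroup.mem_center_iff.mp hz'Z e))
          (congrArg Subtype.val (Subgroup.mem_center_iff.mp hz'Z ⟨c, hcP⟩))
          (by simpa using congrArg Subtype.val hcz')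
      obtain ⟨c, hc, hc'⟩ := hgen C hC
      obtain ⟨d, hd, hd'⟩ := hgen D hD
      exact hsmall c hc d hd hc' hd'

end H63
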