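import Mathlib

/-!
The number of fixed points of `a' * b`, for `a'` in the class of `a` under the alternating group,
is not constant when `a, b` are nontrivial and the degree is at least five.

If it were constant it would equal its average, which is determined by the fixed point counts of
`a` and `b`. When both fix a point, averaging also over the stabiliser of a common fixed point
gives a contradiction; otherwise a direct construction does.
-/

set_option autoImplicit false

namespace H63

open Equiv Equiv.Perm Finset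

universe u

section count

/-- An equivariant map onto a transitive set has fibres of equal size. -/
theorem card_fibre_mul {G : Type*} [Group G] [Fintype G] {β : Type*} [DecidableEq β] (f : G → β)
    (S : Finset β) (hf : ∀ g, f g ∈ S)
    (htr : ∀ u ∈ S, ∀ v ∈ S, ∃ t : G, ∀ g, f g = u → f (t * g) = v) {u : β} (hu : u ∈ S) :
    S.card * (univ.filter fun g => f g = u).card = Fintype.card G := by
  have heq : ∀ v ∈ S, (univ.filter fun g => f g = v).card = (univ.filter fun g => f g = u).card := by
    have hle : ∀ v ∈ S, ∀ w ∈ S,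
        (univ.filter fun g => f g = v).card ≤ (univ.filter fun g => f g = w).card := by
      intro v hv w hw
      obtain ⟨t, ht⟩ := htr v hv w hw
      refine card_le_card_of_injOn (fun g => t * g) (fun g hg => ?_) (fun g _ g' _ h => mul_left_cancel h)
      simp only [coe_filter, mem_univ, true_and, Set.mem_ofPred_eq] at hg ⊢
      exact ht g hg
    exact fun v hv => le_antisymm (hle v hv u hu) (hle u hu v hv)
  have h := card_eq_sum_card_fiberwise (s := (univ : Finset G)) (f := f) (t := S) (fun g _ => hf g)
  rw [sum_congr rfl heq, sum_const, smul_eq_mul, card_univ] at h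
  exact h.symm

end count

variable {α : Type u} [Fintype α] [DecidableEq α]

/-- The number of fixed points. -/
def fixN (g : Perm α) : ℕ := (univ.filter fun x => g x = x).card

/-- The number of moved points. -/
def movN (g : Perm α) : ℕ := (univ.filter fun x => ¬ g x = x).card

theorem fixN_add_movN (g : Perm α) : fixN g + movN g = Fintype.card α := by
  rw [fixN, movN, card_filter_add_card_filter_not, card_univ]

theorem natCard_fixedPoints (g : Perm α) : Nat.card (Function.fixedPoints ⇑g) = fixN g := by
  rw [Nat.card_coe_set_eq, fixN, ← Set.ncard_coe_finset]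
  congr 1
  ext x
  simp [Function.mem_fixedPoints, Function.IsFixedPt]

theorem fixN_conj (c g : Perm α) : fixN (c * g * c⁻¹) = fixN g := by
  refine card_bij (fun x _ => c⁻¹ x) (fun x hx => ?_) (fun x _ y _ h => c⁻¹.injective h)
    (fun y hy => ⟨c y, ?_, by simp⟩)
  · have hx' : c (g (c⁻¹ x)) = x := (mem_filter.mp hx).2
    exact mem_filter.mpr ⟨mem_univ _, by simpa using congrArg c.symm hx'⟩
  · have hy' : g y = y := (mem_filter.mp hy).2
    exact mem_filter.mpr ⟨mem_univ _, by simp [hy']⟩

/-- An even permutation mapping one injective tuple to another, given two spare points. -/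
theorem exists_even_extending {ι : Type*} [Fintype ι] (f g : ι → α) (hf : Function.Injective f)
    (hg : Function.Injective g) (h2 : Fintype.card ι + 2 ≤ Fintype.card α) :
    ∃ σ ∈ alternatingGroup α, ∀ i, σ (f i) = g i := by
  obtain ⟨σ, hσ⟩ := Equiv.Perm.exists_extending_pair f g hf hg
  rcases Int.units_eq_one_or (sign σ) with hs | hs
  · exact ⟨σ, hs, hσ⟩
  obtain ⟨w, w', hw, hw', hne⟩ := one_lt_card_iff.mp
    (show 1 < (univ.image g)ᶜ.card by
      rw [card_compl, card_image_of_injective _ hg, card_univ]; omega)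
  simp only [mem_compl, mem_image, mem_univ, true_and, not_exists] at hw hw'
  refine ⟨swap w w' * σ, ?_, fun i => ?_⟩
  · rw [mem_alternatingGroup, map_mul, sign_swap hne, hs, Int.units_mul_self]
  · rw [Perm.mul_apply, hσ, swap_apply_of_ne_of_ne (hw i) (hw' i)]

theorem alternating_two_transitive (h4 : 4 ≤ Fintype.card α) {x y u v : α} (hxy : x ≠ y)
    (huv : u ≠ v) : ∃ g : alternatingGroup α, (g : Perm α) x = u ∧ (g : Perm α) y = v := by
  obtain ⟨σ, hσ, h⟩ := exists_even_extending ![x, y] ![u, v] (by simp [hxy])
    (by simp [huv]) (by simp; omega)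
  exact ⟨⟨σ, hσ⟩, h 0, h 1⟩

/-- If the fixed point count is constant on the class it equals its average. -/
theorem average_fix (h4 : 4 ≤ Fintype.card α) (a b : Perm α) (c : ℕ)
    (hc : ∀ g ∈ alternatingGroup α, fixN (g * a * g⁻¹ * b) = c) :
    c * (Fintype.card α * (Fintype.card α - 1)) =
      fixN a * fixN b * (Fintype.card α - 1) + movN a * movN b := by
  set n := Fintype.card α with hn
  have h1 : ∀ y u : α, n * (univ.filter fun h : alternatingGroup α => (h : Perm α) y = u).card
      = Fintype.card (alternatingGroup α) := by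
    intro y u
    refine card_fibre_mul (fun h : alternatingGroup α => (h : Perm α) y) univ (fun _ => mem_univ _)
      (fun v _ w _ => ?_) (mem_univ u)
    obtain ⟨v', hv'⟩ := Fintype.exists_ne_of_one_lt_card (by omega) v
    obtain ⟨w', hw'⟩ := Fintype.exists_ne_of_one_lt_card (by omega) w
    obtain ⟨t, ht, -⟩ := alternating_two_transitive h4 hv'.symm hw'.symm
    exact ⟨t, fun g hg => by simp [hg, ht]⟩
  have h2 : ∀ y w u v : α, y ≠ w → u ≠ v → n * (n - 1) *
      (univ.filter fun h : alternatingGroup α => ((h : Perm α) y, (h : Perm α) w) = (u, v)).card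
        = Fintype.card (alternatingGroup α) := by
    intro y w u v hyw huv
    have hoff : (univ : Finset α).offDiag.card = n * (n - 1) := by
      rw [offDiag_card, card_univ, ← hn, Nat.mul_sub_one]
    rw [← hoff]
    refine card_fibre_mul (fun h : alternatingGroup α => ((h : Perm α) y, (h : Perm α) w)) _
      (fun h => by simp [hyw]) (fun p hp q hq => ?_) (by simp [huv])
    simp only [mem_offDiag, mem_univ, true_and] at hp hq
    obtain ⟨t, ht, ht'⟩ := alternating_two_transitive h4 hp hq
    refine ⟨t, fun g hg => ?_⟩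
    rw [← hg] at ht ht'
    exact Prod.ext ht ht'
  -- count incidences
  have hsum : ∑ h : alternatingGroup α, fixN ((h : Perm α)⁻¹ * a * (h : Perm α) * b) =
      Fintype.card (alternatingGroup α) * c := by
    rw [← card_univ, ← smul_eq_mul, ← sum_const]
    refine sum_congr rfl fun h _ => ?_
    have := hc _ (inv_mem h.2)
    rwa [inv_inv] at this
  have hswap : ∑ h : alternatingGroup α, fixN ((h : Perm α)⁻¹ * a * (h : Perm α) * b) =
      ∑ y : α, (univ.filter fun h : alternatingGroup α => a ((h : Perm α) (b y)) = (h : Perm α) y).card := by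
    simp only [fixN, card_filter]
    rw [sum_comm]
    refine sum_congr rfl fun y _ => sum_congr rfl fun h _ => ?_
    simp only [Perm.mul_apply, Perm.inv_def, Equiv.symm_apply_eq]
  have hfix : ∀ y : α, b y = y → n * (n - 1) *
      (univ.filter fun h : alternatingGroup α => a ((h : Perm α) (b y)) = (h : Perm α) y).card =
        fixN a * (n - 1) * Fintype.card (alternatingGroup α) := by
    intro y hy
    have : (univ.filter fun h : alternatingGroup α => a ((h : Perm α) (b y)) = (h : Perm α) y).card =
        ∑ u ∈ univ.filter (fun u => a u = u),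
          (univ.filter fun h : alternatingGroup α => (h : Perm α) y = u).card := by
      rw [card_eq_sum_card_fiberwise (f := fun h : alternatingGroup α => (h : Perm α) y)
        (t := univ.filter fun u => a u = u) (fun h hh => by simpa [hy] using hh)]
      refine sum_congr rfl fun u hu => ?_
      congr 1
      ext h
      simp only [mem_filter, mem_univ, true_and] at hu ⊢
      exact ⟨fun h' => h'.2, fun h' => ⟨by rw [hy, h', hu], h'⟩⟩
    rw [this, mul_sum, sum_congr rfl (fun u _ => by rw [mul_right_comm, h1 y u]), sum_const, smul_eq_mul,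
      fixN]
    ring
  have hmov : ∀ y : α, ¬ b y = y → n * (n - 1) *
      (univ.filter fun h : alternatingGroup α => a ((h : Perm α) (b y)) = (h : Perm α) y).card =
        movN a * Fintype.card (alternatingGroup α) := by
    intro y hy
    have : (univ.filter fun h : alternatingGroup α => a ((h : Perm α) (b y)) = (h : Perm α) y).card =
        ∑ u ∈ univ.filter (fun u => ¬ a u = u),
          (univ.filter fun h : alternatingGroup α => ((h : Perm α) (b y), (h : Perm α) y) = (u, a u)).card := by
      rw [card_eq_sum_card_fiberwise (f := fun h : alternatingGroup α => (h : Perm α) (b y))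
        (t := univ.filter fun u => ¬ a u = u) (fun h hh => by
          simp only [coe_filter, mem_univ, true_and, Set.mem_ofPred_eq] at hh ⊢
          intro h'
          rw [h'] at hh
          exact hy ((h : Perm α).injective hh))]
      refine sum_congr rfl fun u _ => ?_
      congr 1
      ext h
      simp only [mem_filter, mem_univ, true_and, Prod.mk.injEq]
      exact ⟨fun h' => ⟨h'.2, by rw [← h'.1, h'.2]⟩, fun h' => ⟨by rw [h'.1, h'.2], h'.1⟩⟩
    have hrw : ∀ u ∈ univ.filter (fun u => ¬ a u = u), n * (n - 1) *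
        (univ.filter fun h : alternatingGroup α => ((h : Perm α) (b y), (h : Perm α) y) = (u, a u)).card =
          Fintype.card (alternatingGroup α) := fun u hu => by
      have hau : ¬ a u = u := (mem_filter.mp hu).2
      exact h2 (b y) y u (a u) hy (fun h' => hau h'.symm)
    rw [this, mul_sum, sum_congr rfl hrw, sum_const, smul_eq_mul, movN]
  have key : n * (n - 1) * (Fintype.card (alternatingGroup α) * c) =
      (fixN b * fixN a * (n - 1) + movN b * movN a) * Fintype.card (alternatingGroup α) := by
    rw [← hsum, hswap, mul_sum, ← sum_filter_add_sum_filter_not univ (fun y => b y = y),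
      sum_congr rfl (fun y hy => hfix y (mem_filter.mp hy).2),
      sum_congr rfl (fun y hy => hmov y (mem_filter.mp hy).2), sum_const, sum_const, smul_eq_mul,
      smul_eq_mul, fixN, movN, fixN, movN]
    ring
  exact Nat.eq_of_mul_eq_mul_left (Fintype.card_pos (α := alternatingGroup α)) (by linarith)

theorem ofSubtype_fixN {x : α} (π : Perm {y // y ≠ x}) :
    fixN (ofSubtype π : Perm α) = fixN π + 1 := by
  rw [fixN, fixN]
  have hx : (ofSubtype π : Perm α) x = x := ofSubtype_apply_of_not_mem π (by simp)
  rw [← insert_erase (show x ∈ univ.filter (fun y => (ofSubtype π : Perm α) y = y) by simp [hx]),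
    card_insert_of_notMem (notMem_erase _ _)]
  congr 1
  symm
  refine card_bij (fun y _ => (y : α)) (fun y hy => ?_) (fun _ _ _ _ h => Subtype.ext h)
    (fun y hy => ?_)
  · simp only [mem_erase, mem_filter, mem_univ, true_and] at hy ⊢
    exact ⟨y.2, by rw [ofSubtype_apply_coe, hy]⟩
  · simp only [mem_erase, mem_filter, mem_univ, true_and] at hy ⊢
    refine ⟨⟨y, hy.1⟩, ?_, rfl⟩
    apply Subtype.ext
    rw [← ofSubtype_apply_coe π ⟨y, hy.1⟩]
    exact hy.2

theorem not_constant_of_both_fix (h5 : 5 ≤ Fintype.card α) {a b : Perm α} (ha : a ≠ 1) (hb : b ≠ 1)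
    {p x : α} (hp : a p = p) (hx : b x = x) (c : ℕ)
    (hc : ∀ g ∈ alternatingGroup α, fixN (g * a * g⁻¹ * b) = c) : False := by
  have hav := average_fix (by omega) a b c hc
  obtain ⟨q, hq⟩ := Fintype.exists_ne_of_one_lt_card (by omega) p
  obtain ⟨y, hy⟩ := Fintype.exists_ne_of_one_lt_card (by omega) x
  obtain ⟨g₀, hg₀, -⟩ := alternating_two_transitive (by omega) hq.symm hy.symm
  set a' := (g₀ : Perm α) * a * (g₀ : Perm α)⁻¹ with ha'def
  have ha' : a' x = x := by rw [ha'def, ← hg₀]; simp [hp]
  have hβ : Fintype.card {z // z ≠ x} = Fintype.card α - 1 := by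
    simp [Fintype.card_subtype_compl]
  let φ : Perm {z // z ≠ x} →* Perm α := ofSubtype
  have hmk : ∀ f : Perm α, f x = x → ∃ f' : Perm {z // z ≠ x}, φ f' = f := by
    intro f hf
    refine ⟨f.subtypePerm (fun z => by conv_lhs => rw [← hf]
                                       exact f.injective.ne_iff), ?_⟩
    exact ofSubtype_subtypePerm _ (fun z hz h => hz (by rw [h, hf]))
  obtain ⟨a₁, ha₁⟩ := hmk a' ha'
  obtain ⟨b₁, hb₁⟩ := hmk b hx
  have hfa : fixN a = fixN a₁ + 1 := by
    rw [← ofSubtype_fixN, show (ofSubtype a₁ : Perm α) = a' from ha₁, fixN_conj]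
  have hfb : fixN b = fixN b₁ + 1 := by
    rw [← ofSubtype_fixN, show (ofSubtype b₁ : Perm α) = b from hb₁]
  have hpos : 1 ≤ c := by
    rw [← hc g₀ g₀.2]
    exact card_pos.mpr ⟨x, by simp [← ha'def, hx, ha']⟩
  have hav' := average_fix (by omega) a₁ b₁ (c - 1) (fun g hg => by
    have hφg : φ g ∈ alternatingGroup α := by
      rw [mem_alternatingGroup, sign_ofSubtype]; exact hg
    have h := hc (φ g * g₀) (mul_mem hφg g₀.2)
    have heq : φ g * (g₀ : Perm α) * a * (φ g * g₀)⁻¹ * b = φ (g * a₁ * g⁻¹ * b₁) := by
      rw [map_mul, map_mul, map_mul, map_inv, ha₁, hb₁, ha'def]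
      group
    rw [heq, ofSubtype_fixN] at h
    omega)
  have e1 := fixN_add_movN a
  have e2 := fixN_add_movN b
  have e3 := fixN_add_movN a₁
  have e4 := fixN_add_movN b₁
  have hsa : 0 < movN a := by
    rw [movN, card_pos]
    by_contra hne
    rw [not_nonempty_iff_eq_empty, filter_eq_empty_iff] at hne
    exact ha (Equiv.ext fun z => by simpa using hne (mem_univ z))
  have hsb : 0 < movN b := by
    rw [movN, card_pos]
    by_contra hne
    rw [not_nonempty_iff_eq_empty, filter_eq_empty_iff] at hne
    exact hb (Equiv.ext fun z => by simpa using hne (mem_univ z))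
  have m1 : movN a₁ = movN a := by omega
  have m2 : movN b₁ = movN b := by omega
  rw [m1, m2, hβ] at hav'
  set n := Fintype.card α
  obtain ⟨k, hk⟩ : ∃ k, n = k + 2 := ⟨n - 2, by omega⟩
  obtain ⟨c', rfl⟩ : ∃ c', c = c' + 1 := ⟨c - 1, by omega⟩
  simp only [hk, show k + 2 - 1 = k + 1 by omega, show k + 1 - 1 = k by omega, Nat.add_sub_cancel] at hav hav'
  rw [hfa, hfb] at hav
  rw [hfa] at e1
  rw [hfb] at e2
  have hpos' : 0 < movN a * movN b := Nat.mul_pos hsa hsb
  zify at hav hav' e1 e2 hpos' hk
  have ea : (movN a : ℤ) = k + 1 - fixN a₁ := by linarith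
  have eb : (movN b : ℤ) = k + 1 - fixN b₁ := by linarith
  rw [ea, eb] at hav hav' hpos'
  nlinarith

theorem not_constant_of_no_fix (h5 : 5 ≤ Fintype.card α) {a b : Perm α} (hb : b ≠ 1)
    (ha : ∀ p, a p ≠ p) (c : ℕ)
    (hc : ∀ g ∈ alternatingGroup α, ∀ h ∈ alternatingGroup α,
      fixN (g * a * g⁻¹ * (h * b * h⁻¹)) = c) : False := by
  have hav := average_fix (by omega) a b c (fun g hg => by simpa using hc g hg 1 (one_mem _))
  have e1 := fixN_add_movN a
  have e2 := fixN_add_movN b
  have hfa : fixN a = 0 := by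
    rw [fixN, card_eq_zero, filter_eq_empty_iff]; exact fun z _ => ha z
  have hsb : 0 < movN b := by
    rw [movN, card_pos]
    by_contra hne
    rw [not_nonempty_iff_eq_empty, filter_eq_empty_iff] at hne
    exact hb (Equiv.ext fun z => by simpa using hne (mem_univ z))
  set n := Fintype.card α with hn
  rw [hfa, zero_mul, zero_mul, zero_add, show movN a = n by omega, mul_comm c, mul_assoc] at hav
  have hav' : (n - 1) * c = movN b := Nat.eq_of_mul_eq_mul_left (by omega) hav
  have hc1 : c = 1 := by
    rcases Nat.lt_or_ge c 2 with h | h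
    · interval_cases c
      · omega
      · rfl
    · have : (n - 1) * 2 ≤ (n - 1) * c := Nat.mul_le_mul_left _ h
      omega
  subst hc1
  rw [mul_one] at hav'
  -- `b` moves all but one point; build two agreements
  obtain ⟨y, hy⟩ : ∃ y, b y ≠ y := by
    by_contra! h
    exact hb (Equiv.ext h)
  obtain ⟨z, hz, hzb⟩ : ∃ z, z ∉ ({y, b y, b⁻¹ y} : Finset α) ∧ b z ≠ z := by
    by_contra! h
    have hle : (univ.filter fun z => ¬ b z = z) ⊆ {y, b y, b⁻¹ y} := by
      intro z hz
      by_contra h'
      exact (mem_filter.mp hz).2 (h z h')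
    have := (card_le_card hle).trans card_le_three
    rw [← movN] at this
    omega
  simp only [mem_insert, mem_singleton, not_or] at hz
  obtain ⟨z1, z2, z3⟩ := hz
  have hbzy : b z ≠ y := fun h => z3 (by rw [← h]; simp)
  obtain ⟨p⟩ : Nonempty α := Fintype.card_pos_iff.mp (by omega)
  obtain ⟨q, hq⟩ : ∃ q, q ∉ ({p, a p, a⁻¹ p} : Finset α) := by
    by_contra! h
    have := (card_le_card (show (univ : Finset α) ⊆ {p, a p, a⁻¹ p} from fun z _ => h z)).trans card_le_three
    rw [card_univ] at this
    omega
  simp only [mem_insert, mem_singleton, not_or] at hq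
  obtain ⟨q1, q2, q3⟩ := hq
  have haqp : a q ≠ p := fun h => q3 (by rw [← h]; simp)
  have hinjf : Function.Injective ![p, a p, q, a q] := by
    have := (a.injective.ne q1 : a q ≠ a p)
    have := ha p
    have := ha q
    intro i j
    fin_cases i <;> fin_cases j <;> simp <;> grind
  have hinjg : Function.Injective ![b y, y, b z, z] := by
    have := (b.injective.ne z1 : b z ≠ b y)
    intro i j
    fin_cases i <;> fin_cases j <;> simp <;> grind
  obtain ⟨σ, hσ⟩ := Equiv.Perm.exists_extending_pair _ _ hinjf hinjg
  have s0 : σ p = b y := hσ 0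
  have s1 : σ (a p) = y := hσ 1
  have s2 : σ q = b z := hσ 2
  have s3 : σ (a q) = z := hσ 3
  have two : ∀ τ : Perm α, τ p = b y → τ (a p) = y → τ q = b z → τ (a q) = z →
      fixN (τ * a * τ⁻¹ * b) ≠ 1 := by
    intro τ t0 t1 t2 t3 h1
    rw [fixN, card_eq_one] at h1
    obtain ⟨w, hw⟩ := h1
    have m : ∀ u, (τ * a * τ⁻¹ * b) u = u → u = w := fun u hu =>
      mem_singleton.mp (hw ▸ mem_filter.mpr ⟨mem_univ u, hu⟩)
    have i0 : τ⁻¹ (b y) = p := Perm.inv_eq_iff_eq.mpr t0.symm
    have i2 : τ⁻¹ (b z) = q := Perm.inv_eq_iff_eq.mpr t2.symm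
    refine z1 ((m z ?_).trans (m y ?_).symm)
    · simp only [Perm.mul_apply]; rw [i2, t3]
    · simp only [Perm.mul_apply]; rw [i0, t1]
  by_cases h6 : 6 ≤ n
  · obtain ⟨τ, hτ, hτe⟩ := exists_even_extending _ _ hinjf hinjg (by simp; omega)
    exact two τ (hτe 0) (hτe 1) (hτe 2) (hτe 3) (by simpa using hc τ hτ 1 (one_mem _))
  -- five points
  rcases Int.units_eq_one_or (sign σ) with hs | hs
  · exact two σ s0 s1 s2 s3 (by simpa using hc σ hs 1 (one_mem _))
  obtain ⟨t, ht, htb⟩ : ∃ t : Perm α, sign t = -1 ∧ Commute t b := by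
    rcases Int.units_eq_one_or (sign b) with hbs | hbs
    · refine ⟨swap y (b y), sign_swap hy.symm, ?_⟩
      have hb2 : ∀ u, b (b u) = u := by
        have hsupp : b.support.card = 4 := by
          rw [show b.support = univ.filter (fun u => ¬ b u = u) by ext u; simp, ← movN]; omega
        have hsum := b.sum_cycleType
        rw [hsupp] at hsum
        have hall : ∀ k ∈ b.cycleType, k = 2 := by
          intro k hk
          have h2 := two_le_of_mem_cycleType hk
          have h4 : k ≤ 4 := hsum ▸ Multiset.le_sum_of_mem hk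
          obtain ⟨m, hm⟩ := Multiset.exists_cons_of_mem hk
          rw [hm, Multiset.sum_cons] at hsum
          have hsign := sign_of_cycleType b
          rw [hbs, hm, Multiset.sum_cons, Multiset.card_cons] at hsign
          have hm2 : ∀ j ∈ m, 2 ≤ j := fun j hj =>
            two_le_of_mem_cycleType (hm ▸ Multiset.mem_cons_of_mem hj)
          have hmc : Multiset.card m • 2 ≤ m.sum := Multiset.card_nsmul_le_sum hm2
          rw [smul_eq_mul] at hmc
          by_contra hk2
          have hm0 : Multiset.card m = 0 := by omega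
          rw [Multiset.card_eq_zero] at hm0
          rw [hm0] at hsum hsign
          simp only [Multiset.sum_zero, add_zero, Multiset.card_zero, zero_add] at hsum hsign
          rw [hsum] at hsign
          exact absurd hsign (by decide)
        have hord : b ^ 2 = 1 := orderOf_dvd_iff_pow_eq_one.mp (by
          rw [← lcm_cycleType]; exact Multiset.lcm_dvd.mpr fun k hk => by rw [hall k hk])
        intro u
        have := Equiv.ext_iff.mp hord u
        simpa [pow_two] using this
      have := Equiv.mul_swap_eq_swap_mul b y (b y)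
      rw [hb2, swap_comm (b y) y] at this
      exact this.symm
    · exact ⟨b, hbs, Commute.refl b⟩
  have hg : σ⁻¹ * σ = 1 := inv_mul_cancel σ
  obtain ⟨o, ho⟩ : ∃ o : Perm α, sign o = -1 := ⟨t, ht⟩
  have hev1 : o * σ ∈ alternatingGroup α := by
    rw [mem_alternatingGroup, map_mul, ho, hs, Int.units_mul_self]
  have hev2 : o * t ∈ alternatingGroup α := by
    rw [mem_alternatingGroup, map_mul, ho, ht, Int.units_mul_self]
  have := hc _ hev1 _ hev2
  have heq : o * σ * a * (o * σ)⁻¹ * (o * t * b * (o * t)⁻¹) = o * (σ * a * σ⁻¹ * b) * o⁻¹ := by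
    have : t * b * t⁻¹ = b := by rw [htb.eq, mul_inv_cancel_right]
    calc o * σ * a * (o * σ)⁻¹ * (o * t * b * (o * t)⁻¹)
        = o * (σ * a * σ⁻¹ * (t * b * t⁻¹)) * o⁻¹ := by group
      _ = _ := by rw [this]
  rw [heq, fixN_conj] at this
  exact two σ s0 s1 s2 s3 this

/-- The fixed point count is not constant on products of two `A`-classes. -/
theorem exists_fixN_ne (h5 : 5 ≤ Fintype.card α) {a b : Perm α} (ha : a ≠ 1) (hb : b ≠ 1) :
    ∃ g₁ h₁ g₂ h₂ : Perm α, g₁ ∈ alternatingGroup α ∧ h₁ ∈ alternatingGroup α ∧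
      g₂ ∈ alternatingGroup α ∧ h₂ ∈ alternatingGroup α ∧
      fixN (g₁ * a * g₁⁻¹ * (h₁ * b * h₁⁻¹)) ≠ fixN (g₂ * a * g₂⁻¹ * (h₂ * b * h₂⁻¹)) := by
  by_contra! H
  have hc : ∀ g ∈ alternatingGroup α, ∀ h ∈ alternatingGroup α,
      fixN (g * a * g⁻¹ * (h * b * h⁻¹)) = fixN (a * b) := fun g hg h hh => by
    simpa using H g h 1 1 hg hh (one_mem _) (one_mem _)
  by_cases hfa : ∀ p, a p ≠ p
  · exact not_constant_of_no_fix h5 hb hfa _ hc
  by_cases hfb : ∀ p, b p ≠ p
  · refine not_constant_of_no_fix h5 ha hfb (fixN (a * b)) fun g hg h hh => ?_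
    rw [← hc h hh g hg, ← fixN_conj (h * a * h⁻¹) (g * b * g⁻¹ * (h * a * h⁻¹))]
    congr 1
    group
  push Not at hfa hfb
  obtain ⟨p, hp⟩ := hfa
  obtain ⟨x, hx⟩ := hfb
  exact not_constant_of_both_fix h5 ha hb hp hx _ (fun g hg => by simpa using hc g hg 1 (one_mem _))

end H63
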