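import Cfsg.Agent.H32.MinNonClosed
import Cfsg.Agent.H37.SmallIso
import Mathlib

/-!
The least order of a group whose Sylow `p`-subgroups are not normal.
-/

set_option autoImplicit false

namespace H63.LeastNC

open Matrix
open scoped MatrixGroups

/-- The Brauer–Reynolds theorem, as used here. -/
def LargePrimeShape (p : ℕ) : Prop :=
  ∀ (G : Type) [Group G] [Finite G] [IsSimpleGroup G], ¬ IsCyclic G → p ∣ Nat.card G →
    Nat.card G < p ^ 3 →
    (∃ (F : Type) (_ : Field F) (_ : Fintype F), Fintype.card F = p ∧ 3 < p ∧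
      Nonempty (G ≃* Matrix.ProjectiveSpecialLinearGroup (Fin 2) F)) ∨
    (∃ (m : ℕ) (F : Type) (_ : Field F) (_ : Fintype F), Fintype.card F = 2 ^ m ∧ p = 2 ^ m + 1 ∧ 3 < p ∧
      Nonempty (G ≃* Matrix.ProjectiveSpecialLinearGroup (Fin 2) F))

theorem card_pow_two_sub_one (q : ℕ) : q ^ 2 - 1 = (q + 1) * (q - 1) := by
  have h := Nat.sq_sub_sq q 1
  simpa using h

theorem two_mul_half (p : ℕ) (hodd : p % 2 = 1) :
    2 * (p * (p ^ 2 - 1) / 2) = p * (p ^ 2 - 1) := by
  refine Nat.mul_div_cancel' (Dvd.dvd.mul_left ?_ _)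
  rw [card_pow_two_sub_one]
  exact Dvd.dvd.mul_right (by omega) _

/-- Every group of order below the bound is `p`-closed. -/
theorem closed_of_small {p m : ℕ} [Fact p.Prime] (hp : p ≠ 2) (hBR : LargePrimeShape p)
    (hleast : ∀ k : ℕ, IsPrimePow k → k % p = 1 → m ≤ k) :
    ∀ (n : ℕ) (H : Type) [Group H] [Finite H], Nat.card H = n →
      n < min (p * m) (p * (p ^ 2 - 1) / 2) → Cfsg.IsPClosed p H := by
  intro n
  induction n using Nat.strong_induction_on with
  | _ n ih =>
    intro H _ _ hn hlt
    by_contra hnc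
    have hsub : ∀ K : Subgroup H, K ≠ ⊤ → Cfsg.IsPClosed p ↥K := fun K hK => by
      have hlt' : Nat.card K < n := by
        rw [← hn]
        exact lt_of_le_of_ne (Subgroup.card_le_card_group K) fun e => hK (Subgroup.eq_top_of_card_eq K e)
      exact ih _ hlt' K rfl (hlt'.trans hlt)
    have hquo : ∀ (N : Subgroup H) [N.Normal], N ≠ ⊥ → Cfsg.IsPClosed p (H ⧸ N) := fun N _ hN => by
      have hlt' : Nat.card (H ⧸ N) < n := by
        rw [← hn, ← Subgroup.index_eq_card, ← N.card_mul_index]
        exact lt_mul_left (Nat.pos_of_ne_zero N.index_ne_zero_of_finite) (Subgroup.one_lt_card_iff_ne_bot N |>.mpr hN)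
      exact ih _ hlt' _ rfl (hlt'.trans hlt)
    have hpp : p.Prime := Fact.out
    by_cases hs : IsSimpleGroup H
    · have hcyc : ¬ IsCyclic H := fun hc => hnc fun P => by
        exact ⟨fun x hx g => by
          rw [IsMulCommutative.is_comm.comm g x, mul_inv_cancel_right]; exact hx⟩
      have hpd : p ∣ Nat.card H := by
        by_contra hd
        apply hnc
        intro P
        have : (P : Subgroup H) = ⊥ := by
          obtain ⟨k, hk⟩ := IsPGroup.iff_card.mp P.isPGroup'
          rcases k with - | k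
          · exact Subgroup.card_eq_one.mp hk
          · exact absurd (((dvd_pow_self p (show k + 1 ≠ 0 by omega)).trans (dvd_of_eq hk.symm)).trans
              (Subgroup.card_subgroup_dvd_card (P : Subgroup H))) hd
        rw [this]; infer_instance
      have hbound : n < p * (p ^ 2 - 1) / 2 := hlt.trans_le (min_le_right _ _)
      have h2 := two_mul_half p ((hpp.eq_two_or_odd).resolve_left hp)
      have hcube : Nat.card H < p ^ 3 := by
        rw [hn]
        calc n < p * (p ^ 2 - 1) / 2 := hbound
          _ ≤ p * (p ^ 2 - 1) := Nat.div_le_self _ _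
          _ ≤ p * p ^ 2 := Nat.mul_le_mul_left _ (Nat.sub_le _ _)
          _ = p ^ 3 := by ring
      rcases hBR H hcyc hpd hcube with ⟨F, _, _, hF, h3, ⟨e⟩⟩ | ⟨k, F, _, _, hF, hk, h3, ⟨e⟩⟩
      · have hc := H37.card_PSL_two (F := F)
        rw [← Nat.card_congr e.toEquiv, hn, Nat.card_eq_fintype_card (α := F), hF] at hc
        have hg : Nat.gcd 2 (p - 1) = 2 := Nat.gcd_eq_left (by
          have := (hpp.eq_two_or_odd).resolve_left hp; omega)
        rw [hg] at hc
        omega
      · have hc := H37.card_PSL_two (F := F)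
        rw [← Nat.card_congr e.toEquiv, hn, Nat.card_eq_fintype_card (α := F), hF] at hc
        have hk0 : k ≠ 0 := fun h => by rw [h] at hk; omega
        have hg : Nat.gcd 2 (2 ^ k - 1) = 1 := by
          refine Nat.Coprime.gcd_eq_one ((Nat.prime_two.coprime_iff_not_dvd).mpr ?_)
          have : 2 ∣ 2 ^ k := dvd_pow_self 2 hk0
          have := Nat.one_le_two_pow (n := k)
          omega
        rw [hg, one_mul] at hc
        obtain ⟨r, hr⟩ : ∃ r, 2 ^ k = r + 4 := ⟨2 ^ k - 4, by
          have : 2 ≤ k := by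
            by_contra h
            have : k = 1 := by omega
            rw [this] at hk; omega
          have := Nat.pow_le_pow_right (show 0 < 2 by norm_num) this
          omega⟩
        rw [card_pow_two_sub_one] at hc h2 hbound
        rw [hk, hr, show r + 4 + 1 - 1 = r + 4 by omega] at h2 hbound
        rw [hr, show r + 4 - 1 = r + 3 by omega] at hc
        nlinarith
    · obtain ⟨q, hq, hqp, hcard, -⟩ := H32.minimal_non_pClosed hnc hsub hquo hs
      set e := orderOf (q : ZMod p) with he
      have hqz : (q : ZMod p) ≠ 0 := fun h => hqp ((Nat.prime_dvd_prime_iff_eq hpp hq).mp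
        ((ZMod.natCast_eq_zero_iff _ _).mp h)).symm
      have he0 : e ≠ 0 := by
        intro h
        exact (orderOf_eq_zero_iff'.mp h (p - 1) (by have := hpp.two_le; omega))
          (ZMod.pow_card_sub_one_eq_one hqz)
      have hmod : q ^ e % p = 1 := by
        have h : (((q ^ e : ℕ)) : ZMod p) = ((1 : ℕ) : ZMod p) := by
          push_cast; exact pow_orderOf_eq_one _
        have := (ZMod.natCast_eq_natCast_iff' _ _ _).mp h
        rwa [Nat.mod_eq_of_lt hpp.one_lt] at this
      have hm : m ≤ q ^ e := hleast _ ⟨q, e, hq.prime, Nat.pos_of_ne_zero he0, rfl⟩ hmod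
      have : p * m ≤ n := by rw [← hn, hcard]; exact Nat.mul_le_mul_left _ hm
      exact absurd (hlt.trans_le (min_le_left _ _)) (not_lt.mpr this)

section Frobenius

variable {F : Type} [Field F] [Fintype F]

/-- The units acting on the additive group. -/
def unitsAct : Fˣ →* MulAut (Multiplicative F) where
  toFun a := AddEquiv.toMultiplicative (DistribMulAction.toAddEquiv F a)
  map_one' := by ext x; exact congrArg Multiplicative.ofAdd (one_smul Fˣ x.toAdd)
  map_mul' a b := by ext x; exact congrArg Multiplicative.ofAdd (mul_smul a b x.toAdd)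

theorem exists_frobenius (p : ℕ) [Fact p.Prime] (h : Fintype.card F % p = 1) :
    ∃ (H : Type) (_ : Group H) (_ : Finite H), Nat.card H = p * Fintype.card F ∧ ¬ Cfsg.IsPClosed p H := by
  classical
  have hpp : p.Prime := Fact.out
  have hd : p ∣ Fintype.card Fˣ := by
    rw [Fintype.card_units]
    have := Nat.div_add_mod (Fintype.card F) p
    exact ⟨Fintype.card F / p, by omega⟩
  obtain ⟨ζ, hζ⟩ := exists_prime_orderOf_dvd_card p hd
  let φ : Subgroup.zpowers ζ →* MulAut (Multiplicative F) := unitsAct.comp (Subgroup.zpowers ζ).subtype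
  let H := Multiplicative F ⋊[φ] Subgroup.zpowers ζ
  have hK : Nat.card (Subgroup.zpowers ζ) = p := by rw [Nat.card_zpowers, hζ]
  haveI : Finite H := Finite.of_equiv _ SemidirectProduct.equivProd.symm
  have hcard : Nat.card H = p * Fintype.card F := by
    rw [show Nat.card H = Nat.card (Multiplicative F) * Nat.card (Subgroup.zpowers ζ) from
      SemidirectProduct.card, hK, Nat.card_congr Multiplicative.toAdd, Nat.card_eq_fintype_card, mul_comm]
  refine ⟨H, inferInstance, inferInstance, hcard, fun hc => ?_⟩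
  set R := (SemidirectProduct.inr : Subgroup.zpowers ζ →* H).range
  have hR : Nat.card R = p := by
    rw [← Nat.card_congr (MonoidHom.ofInjective SemidirectProduct.inr_injective).toEquiv, hK]
  have hidx : ¬ p ∣ R.index := by
    have := R.card_mul_index
    rw [hR, hcard] at this
    rw [Nat.eq_of_mul_eq_mul_left hpp.pos this, Nat.dvd_iff_mod_eq_zero, h]
    exact one_ne_zero
  have hn : R.Normal := by
    have := hc ((IsPGroup.of_card (p := p) (n := 1) (by rw [hR, pow_one])).toSylow hidx)
    simpa using this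
  let z : Subgroup.zpowers ζ := ⟨ζ, Subgroup.mem_zpowers ζ⟩
  let b : Multiplicative F ⋊[φ] Subgroup.zpowers ζ := SemidirectProduct.inl (Multiplicative.ofAdd (1 : F))
  obtain ⟨k, hk⟩ : b * SemidirectProduct.inr z * b⁻¹ ∈ R := hn.conj_mem (SemidirectProduct.inr z) ⟨z, rfl⟩ b
  have hl := congrArg SemidirectProduct.left hk
  rw [SemidirectProduct.left_inr, SemidirectProduct.mul_left, SemidirectProduct.mul_left,
    SemidirectProduct.inv_left, SemidirectProduct.mul_right, SemidirectProduct.left_inr,
    show b.left = Multiplicative.ofAdd (1 : F) from SemidirectProduct.left_inl _,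
    show b.right = 1 from SemidirectProduct.right_inl _, SemidirectProduct.right_inr] at hl
  simp [z, φ, unitsAct] at hl
  replace hl := congrArg Multiplicative.toAdd hl
  simp at hl
  have h1 : (ζ : F) = 1 := by
    rw [Units.smul_def, smul_eq_mul, mul_one] at hl
    linear_combination hl
  have : ζ = 1 := Units.ext h1
  rw [this, orderOf_one] at hζ
  exact hpp.one_lt.ne hζ

end Frobenius

/-- `PSL(2,p)` is not `p`-closed. -/
theorem psl_not_closed (p : ℕ) [Fact p.Prime] (hp : p ≠ 2) :
    Nat.card (ProjectiveSpecialLinearGroup (Fin 2) (ZMod p)) = p * (p ^ 2 - 1) / 2 ∧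
      ¬ Cfsg.IsPClosed p (ProjectiveSpecialLinearGroup (Fin 2) (ZMod p)) := by
  classical
  have hpp : p.Prime := Fact.out
  have hodd : p % 2 = 1 := (hpp.eq_two_or_odd).resolve_left hp
  have hc := H37.card_PSL_two (F := ZMod p)
  rw [Nat.card_eq_fintype_card (α := ZMod p), ZMod.card, Nat.gcd_eq_left (show 2 ∣ p - 1 by omega)] at hc
  have hcard : Nat.card (ProjectiveSpecialLinearGroup (Fin 2) (ZMod p)) = p * (p ^ 2 - 1) / 2 := by
    omega
  refine ⟨hcard, fun hclosed => ?_⟩
  set π := QuotientGroup.mk' (Subgroup.center (Matrix.SpecialLinearGroup (Fin 2) (ZMod p)))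
  let u : SL(2, ZMod p) := ⟨!![1, 1; 0, 1], by simp [det_fin_two_of]⟩
  let l : SL(2, ZMod p) := ⟨!![1, 0; 1, 1], by simp [det_fin_two_of]⟩
  have hupow : ∀ n : ℕ, (u ^ n).1 = !![1, (n : ZMod p); 0, 1] := by
    intro n
    induction n with
    | zero => ext i j; fin_cases i <;> fin_cases j <;> simp
    | succ n ih =>
      rw [pow_succ, Matrix.SpecialLinearGroup.coe_mul, ih]
      ext i j; fin_cases i <;> fin_cases j <;> simp [u, Matrix.mul_apply, Fin.sum_univ_two]
      ring
  have hlpow : ∀ n : ℕ, (l ^ n).1 = !![1, 0; (n : ZMod p), 1] := by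
    intro n
    induction n with
    | zero => ext i j; fin_cases i <;> fin_cases j <;> simp
    | succ n ih =>
      rw [pow_succ, Matrix.SpecialLinearGroup.coe_mul, ih]
      ext i j; fin_cases i <;> fin_cases j <;> simp [l, Matrix.mul_apply, Fin.sum_univ_two]
  have hnc : ∀ g : SL(2, ZMod p), g ∈ Subgroup.center (Matrix.SpecialLinearGroup (Fin 2) (ZMod p)) →
      g.1 1 0 = 0 := by
    intro g hg
    obtain ⟨r, -, hr⟩ := Matrix.SpecialLinearGroup.mem_center_iff.mp hg
    rw [← hr]; simp
  have hu1 : π u ≠ 1 := by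
    intro h
    obtain ⟨r, -, hr⟩ := Matrix.SpecialLinearGroup.mem_center_iff.mp ((QuotientGroup.eq_one_iff u).mp h)
    have := congrFun (congrFun hr 0) 1
    simp [u] at this
  have hl1 : π l ≠ 1 := by
    intro h
    have := hnc l ((QuotientGroup.eq_one_iff l).mp h)
    simp [l] at this
  have hup : (π u) ^ p = 1 := by
    rw [← map_pow, show u ^ p = 1 from Subtype.ext (by rw [hupow]; ext i j; fin_cases i <;> fin_cases j <;> simp), map_one]
  have hlp : (π l) ^ p = 1 := by
    rw [← map_pow, show l ^ p = 1 from Subtype.ext (by rw [hlpow]; ext i j; fin_cases i <;> fin_cases j <;> simp), map_one]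
  have hou := orderOf_eq_prime hup hu1
  have hol := orderOf_eq_prime hlp hl1
  set U := Subgroup.zpowers (π u)
  have hU : Nat.card U = p := by rw [Nat.card_zpowers, hou]
  have hidx : ¬ p ∣ U.index := by
    intro hd
    have h := U.card_mul_index
    rw [hU, hcard] at h
    have h2 : 2 * U.index = p ^ 2 - 1 := by
      apply Nat.eq_of_mul_eq_mul_left hpp.pos
      have := two_mul_half p hodd
      rw [← h] at this
      linarith
    have h3 : p ∣ p ^ 2 - 1 := h2 ▸ hd.mul_left 2
    have h4 : p ∣ p ^ 2 := dvd_pow_self p two_ne_zero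
    have h5 := Nat.dvd_sub h4 h3
    rw [Nat.sub_sub_self (Nat.one_le_pow _ _ hpp.pos)] at h5
    exact hpp.not_dvd_one h5
  set S := (IsPGroup.of_card (p := p) (n := 1) (by rw [hU, pow_one]) : IsPGroup p U).toSylow hidx
  haveI := hclosed S
  haveI : Subsingleton (Sylow p (ProjectiveSpecialLinearGroup (Fin 2) (ZMod p))) :=
    (Sylow.unique_of_normal S inferInstance).instSubsingleton
  obtain ⟨T, hT⟩ := IsPGroup.exists_le_sylow (P := Subgroup.zpowers (π l))
    (IsPGroup.of_card (p := p) (n := 1) (by rw [Nat.card_zpowers, hol, pow_one]))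
  rw [Subsingleton.elim T S] at hT
  have hmem : π l ∈ U := hT (Subgroup.mem_zpowers _)
  obtain ⟨n, hn⟩ := (mem_powers_iff_mem_zpowers.mpr hmem)
  have hn' : π (l * (u ^ n)⁻¹) = 1 := by
    rw [map_mul, map_inv, map_pow, ← show (π u) ^ n = π l from hn]; group
  have := hnc _ ((QuotientGroup.eq_one_iff _).mp hn')
  have h0 : (l * (u ^ n)⁻¹).1 = !![1, 0; 1, 1] * !![1, -(n : ZMod p); -0, 1] := by
    rw [← Matrix.adjugate_fin_two_of, ← hupow n]
    rfl
  rw [h0] at this
  simp [Matrix.mul_apply, Fin.sum_univ_two] at this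

/-- The statement, given Brauer–Reynolds. -/
theorem main (p : ℕ) [Fact p.Prime] (hp : p ≠ 2) (m : ℕ) (hm : IsPrimePow m) (hm1 : m % p = 1)
    (hleast : ∀ k : ℕ, IsPrimePow k → k % p = 1 → m ≤ k) (hBR : LargePrimeShape p) :
    (∀ (H : Type) [Group H] [Finite H], ¬ Cfsg.IsPClosed p H → min (p * m) (p * (p ^ 2 - 1) / 2) ≤ Nat.card H) ∧
      ∃ (H : Type) (_ : Group H) (_ : Finite H),
        Nat.card H = min (p * m) (p * (p ^ 2 - 1) / 2) ∧ ¬ Cfsg.IsPClosed p H := by
  refine ⟨fun H _ _ hH => not_lt.mp fun hlt => hH (closed_of_small hp hBR hleast _ H rfl hlt), ?_⟩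
  rcases le_total (p * m) (p * (p ^ 2 - 1) / 2) with hle | hle
  · rw [min_eq_left hle]
    obtain ⟨q, k, hq, hk, rfl⟩ := hm
    haveI : Fact q.Prime := ⟨hq.nat_prime⟩
    haveI := Fintype.ofFinite (GaloisField q k)
    have hF : Fintype.card (GaloisField q k) = q ^ k := by
      rw [← Nat.card_eq_fintype_card]; exact GaloisField.card q k hk.ne'
    obtain ⟨H, i1, i2, hc, hn⟩ := exists_frobenius (F := GaloisField q k) p (by rw [hF]; exact hm1)
    exact ⟨H, i1, i2, by rw [hc, hF], hn⟩
  · rw [min_eq_right hle]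
    exact ⟨_, inferInstance, inferInstance, (psl_not_closed p hp).1, (psl_not_closed p hp).2⟩

end H63.LeastNC
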