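import Cfsg.Agent.H62.Basic
import Cfsg.Agent.H30.Basic
import Cfsg.Agent.H85.BrauerSuzuki
import Cfsg.Agent.H95.SimpleCrit
import Cfsg.Agent.CompBasic
import Mathlib

/-!
Groups of order `7920` with disconnected prime graph.
-/

set_option autoImplicit false

namespace H63.Ord7920

open Subgroup
open scoped Pointwise

variable {G : Type*} [Group G] [Finite G]

/-- A normal subgroup containing a Sylow subgroup `P`: Frattini in numbers. -/
theorem count {p : ℕ} [Fact p.Prime] (P : Sylow p G) (C : Subgroup G) [C.Normal]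
    (hP : (P : Subgroup G) ≤ C) :
    Nat.card C = Nat.card (Sylow p G) *
      Nat.card ↥(C ⊓ normalizer ((P : Subgroup G) : Set G)) := by
  set M := normalizer ((P : Subgroup G) : Set G) with hM
  have hfr : M ⊔ C = ⊤ := P.normalizer_sup_eq_top' hP
  have h2 : C.index = C.relIndex M := by
    have h : C.relIndex (M ⊔ C) = C.relIndex M := by rw [sup_comm, relIndex_sup_left]
    rwa [hfr, relIndex_top_right] at h
  have h3 : Nat.card ↥(C ⊓ M) * C.relIndex M = Nat.card M := by
    rw [← inf_relIndex_right C M, ← relIndex_bot_left, ← relIndex_bot_left]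
    exact relIndex_mul_relIndex _ _ _ bot_le inf_le_right
  have h4 := H62.card_normalizer_mul P
  have h5 := C.card_mul_index
  have hi : 0 < C.index := Nat.pos_of_ne_zero C.index_ne_zero_of_finite
  rw [← hM] at h4
  rw [← h2] at h3
  refine Nat.eq_of_mul_eq_mul_right hi ?_
  rw [h5, ← h4, ← h3]
  ring

/-- A normal subgroup in which `P` is its own normaliser has a complement to `P` normal in `G`. -/
theorem exists_normal_complement {p : ℕ} [Fact p.Prime] (P : Sylow p G)
    (hP : Nat.card (P : Subgroup G) = p) (C : Subgroup G) [C.Normal] (hle : (P : Subgroup G) ≤ C)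
    (hN : C ⊓ normalizer ((P : Subgroup G) : Set G) ≤ P) :
    ∃ K : Subgroup G, K.Normal ∧ K ≤ C ∧ Nat.card K * p = Nat.card C ∧ ¬ p ∣ Nat.card K := by
  set Q := P.subtype hle with hQdef
  have hQc : (Q : Subgroup C) = (P : Subgroup G).subgroupOf C := P.coe_subtype hle
  have hQcard : Nat.card (Q : Subgroup C) = p := by
    rw [hQc, Nat.card_congr (subgroupOfEquivOfLe hle).toEquiv, hP]
  haveI := isCyclic_of_prime_card hP
  have hnc : normalizer ((Q : Subgroup C) : Set C) ≤ centralizer ((Q : Subgroup C) : Set C) := by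
    intro c hc
    have hc1 : (c : G) ∈ normalizer ((P : Subgroup G) : Set G) := by
      rw [mem_normalizer_iff] at hc ⊢
      intro g
      constructor
      · intro hg
        have := (hc ⟨g, hle hg⟩).mp (by rw [hQc]; exact hg)
        rw [hQc] at this
        exact this
      · intro hg
        have hgC : g ∈ C := by
          have := mul_mem (mul_mem (inv_mem c.2) (hle hg)) c.2
          simpa [mul_assoc] using this
        have := (hc ⟨g, hgC⟩).mpr (by rw [hQc]; exact hg)
        rw [hQc] at this
        exact this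
    have hcP : (c : G) ∈ (P : Subgroup G) := hN ⟨c.2, hc1⟩
    rw [mem_centralizer_iff]
    intro q hq
    rw [hQc] at hq
    have hqc := IsMulCommutative.is_comm.comm (⟨(q : G), hq⟩ : (P : Subgroup G)) ⟨(c : G), hcP⟩
    have hqc' := congrArg Subtype.val hqc
    exact Subtype.ext hqc'
  set f := MonoidHom.transferSylow Q hnc with hf
  have hcompl := MonoidHom.ker_transferSylow_isComplement' Q hnc
  have hmul : Nat.card f.ker * p = Nat.card C := by
    have := hcompl.card_mul
    rwa [hQcard] at this
  have hnd : ¬ p ∣ Nat.card f.ker := MonoidHom.not_dvd_card_ker_transferSylow Q hnc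
  refine ⟨f.ker.map C.subtype, ⟨?_⟩, map_subtype_le _, ?_, ?_⟩
  · rintro _ ⟨k, hk, rfl⟩ g
    have hgk : g * (k : G) * g⁻¹ ∈ C := (inferInstance : C.Normal).conj_mem _ k.2 g
    refine ⟨⟨g * (k : G) * g⁻¹, hgk⟩, ?_, rfl⟩
    have hpow : (⟨g * (k : G) * g⁻¹, hgk⟩ : C) ^ Nat.card f.ker = 1 := by
      apply Subtype.ext
      rw [SubmonoidClass.coe_pow, conj_pow]
      have := congrArg (fun u : f.ker => ((u : C) : G)) (pow_card_eq_one' (x := (⟨k, hk⟩ : f.ker)))
      simp only [SubmonoidClass.coe_pow, OneMemClass.coe_one] at this ⊢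
      rw [this]; group
    rw [SetLike.mem_coe, MonoidHom.mem_ker]
    have h1 := congrArg f hpow
    rw [map_pow, map_one] at h1
    have h2 : f ⟨g * (k : G) * g⁻¹, hgk⟩ ^ p = 1 := by
      have := pow_card_eq_one' (x := f ⟨g * (k : G) * g⁻¹, hgk⟩)
      rwa [hQcard] at this
    have hcop : Nat.Coprime p (Nat.card f.ker) :=
      ((Fact.out : p.Prime).coprime_iff_not_dvd).mpr hnd
    have h3 := pow_gcd_eq_one.mpr ⟨h2, h1⟩
    rwa [hcop.gcd_eq_one, pow_one] at h3
  · rwa [card_map_of_injective C.subtype_injective]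
  · rwa [card_map_of_injective C.subtype_injective]

/-- The order of a product of commuting elements from subgroups centralising each other. -/
theorem exists_commuting_orders {K L : Subgroup G} (h : ∀ k ∈ K, ∀ l ∈ L, Commute k l) {a b : ℕ}
    (ha : a.Prime) (hb : b.Prime) (hab : a ≠ b) (haK : a ∣ Nat.card K) (hbL : b ∣ Nat.card L) :
    ∃ g : G, orderOf g = a * b := by
  haveI := Fact.mk ha
  haveI := Fact.mk hb
  obtain ⟨k, hk⟩ := exists_prime_orderOf_dvd_card' (G := K) a haK
  obtain ⟨l, hl⟩ := exists_prime_orderOf_dvd_card' (G := L) b hbL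
  rw [← Subgroup.orderOf_coe] at hk hl
  refine ⟨(k : G) * l, ?_⟩
  rw [(h k k.2 l l.2).orderOf_mul_eq_mul_orderOf_of_coprime (by
    rw [hk, hl]; exact (Nat.coprime_primes ha hb).mpr hab), hk, hl]

/-- An element of order `5` normalising a subgroup of order `3` or `9` centralises it. -/
theorem exists_fifteen (h25 : ¬ 5 ^ 2 ∣ Nat.card G) (h27 : ¬ 3 ^ 3 ∣ Nat.card G) (K : Subgroup G)
    [K.Normal] (h5K : ¬ 5 ∣ Nat.card K) (h3 : 3 ∣ Nat.card K) (h5 : 5 ∣ Nat.card G) :
    ∃ g : G, orderOf g = 3 * 5 := by
  haveI : Fact (Nat.Prime 5) := ⟨Nat.prime_five⟩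
  haveI : Fact (Nat.Prime 3) := ⟨Nat.prime_three⟩
  obtain ⟨f, hf⟩ := exists_prime_orderOf_dvd_card' (G := G) 5 h5
  obtain ⟨Q, hQK, hQ, hQn⟩ := H95.exists_invariant_sylow (q := 3) h25 hf K h5K
  set v := (Nat.card K).factorization 3
  have hv1 : 1 ≤ v :=
    (Nat.prime_three.pow_dvd_iff_le_factorization Nat.card_pos.ne').mp (by simpa using h3)
  have hv2 : v ≤ 2 := by
    by_contra hv
    exact h27 (((pow_dvd_pow 3 (by omega : 3 ≤ v)).trans (hQ ▸ dvd_refl _)).trans
      (Subgroup.card_subgroup_dvd_card Q))
  have hcomm := H95.centralizes_of_coprime Q f Nat.prime_five Nat.prime_three (by norm_num) hf hQ hQn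
    (fun j h1 h2 => by
      have : j = 1 ∨ j = 2 := by omega
      rcases this with rfl | rfl <;> norm_num)
  refine exists_commuting_orders (K := Q) (L := zpowers f) ?_ Nat.prime_three Nat.prime_five
    (by norm_num) (hQ ▸ dvd_pow_self 3 (by omega)) (by rw [Nat.card_zpowers, hf])
  intro q hq l hl
  obtain ⟨n, rfl⟩ := mem_zpowers_iff.mp hl
  exact (show Commute q f from (hcomm q hq).symm).zpow_right n

theorem no_pow_mod {q j : ℕ} (hq : q.Prime) (hj : 1 ≤ j) (hd : q ^ j ∣ 720) : q ^ j % 11 ≠ 1 := by
  intro hm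
  have hmem : q ^ j ∈ (Nat.divisors 720).filter (fun d => d % 11 = 1) :=
    Finset.mem_filter.mpr ⟨Nat.mem_divisors.mpr ⟨hd, by norm_num⟩, hm⟩
  rw [show (Nat.divisors 720).filter (fun d => d % 11 = 1) = {1, 12, 45, 144} by decide +kernel] at hmem
  have key : ∀ a b : ℕ, a.Prime → b.Prime → a ≠ b → a ∣ q ^ j → b ∣ q ^ j → False :=
    fun a b ha hb hab h1 h2 => hab (((Nat.prime_dvd_prime_iff_eq ha hq).mp (ha.dvd_of_dvd_pow h1)).trans
      ((Nat.prime_dvd_prime_iff_eq hb hq).mp (hb.dvd_of_dvd_pow h2)).symm)
  simp only [Finset.mem_insert, Finset.mem_singleton] at hmem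
  rcases hmem with e | e | e | e
  · exact (Nat.one_lt_pow (by omega) hq.one_lt).ne' e
  · exact key 2 3 Nat.prime_two Nat.prime_three (by norm_num) (by rw [e]; norm_num) (by rw [e]; norm_num)
  · exact key 5 3 Nat.prime_five Nat.prime_three (by norm_num) (by rw [e]; norm_num) (by rw [e]; norm_num)
  · exact key 2 3 Nat.prime_two Nat.prime_three (by norm_num) (by rw [e]; norm_num) (by rw [e]; norm_num)

/-- An element of order `11` centralises a normal subgroup of order prime to `11`. -/
theorem le_centralizer_eleven (hord : Nat.card G = 7920) (N : Subgroup G) [N.Normal]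
    (h11 : ¬ 11 ∣ Nat.card N) {x : G} (hx : orderOf x = 11) : N ≤ centralizer {x} := by
  haveI : Fact (Nat.Prime 11) := ⟨by norm_num⟩
  have hN720 : Nat.card N ∣ 720 :=
    (((by norm_num : Nat.Prime 11).coprime_iff_not_dvd).mpr h11).symm.dvd_of_dvd_mul_left
      (show Nat.card N ∣ 11 * 720 by
        have := Subgroup.card_subgroup_dvd_card N; rwa [hord] at this)
  have hall : Nat.card N ∣ Nat.card ↥(N ⊓ centralizer {x}) := by
    rw [← Nat.factorization_le_iff_dvd Nat.card_pos.ne' Nat.card_pos.ne']
    intro q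
    by_cases hq : q.Prime
    · haveI := Fact.mk hq
      by_cases hq11 : q = 11
      · subst hq11
        rw [Nat.factorization_eq_zero_of_not_dvd h11]
        exact Nat.zero_le _
      obtain ⟨Q, hQN, hQ, hQn⟩ := H95.exists_invariant_sylow (p := 11) (q := q)
        (by rw [hord]; norm_num) hx N h11
      have hc := H95.centralizes_of_coprime Q x (by norm_num) hq (Ne.symm hq11) hx hQ hQn
        fun j h1 h2 => no_pow_mod hq h1
          (((pow_dvd_pow q h2).trans (Nat.ordProj_dvd _ q)).trans hN720)
      have hle : Q ≤ N ⊓ centralizer {x} := fun a ha =>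
        ⟨hQN ha, mem_centralizer_singleton_iff.mpr (hc a ha).symm⟩
      exact (hq.pow_dvd_iff_le_factorization Nat.card_pos.ne').mp
        (hQ ▸ Subgroup.card_dvd_of_le hle)
    · rw [Nat.factorization_eq_zero_of_not_prime _ hq]
      exact Nat.zero_le _
  have := Subgroup.eq_of_le_of_card_ge (inf_le_left : N ⊓ centralizer {x} ≤ N)
    (Nat.le_of_dvd Nat.card_pos hall)
  exact fun a ha => (this.symm ▸ ha : a ∈ N ⊓ centralizer {x}).2

/-- The main theorem. -/
theorem main (hord : Nat.card G = 7920)
    (A : Set ℕ) (hA : ∃ a ∈ A, a.Prime ∧ a ∣ Nat.card G) (hB : ∃ b ∉ A, b.Prime ∧ b ∣ Nat.card G)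
    (hAB : ∀ a ∈ A, ∀ b ∉ A, a.Prime → b.Prime → a ∣ Nat.card G → b ∣ Nat.card G →
      ¬ ∃ g : G, orderOf g = a * b) : IsSimpleGroup G := by
  classical
  haveI : Fact (Nat.Prime 11) := ⟨by norm_num⟩
  haveI : Fact (Nat.Prime 2) := ⟨Nat.prime_two⟩
  have h11p : Nat.Prime 11 := by norm_num
  -- the graph
  have conn : ∀ {K L : Subgroup G}, (∀ k ∈ K, ∀ l ∈ L, Commute k l) → ∀ {a b : ℕ}, a.Prime → b.Prime →
      a ≠ b → a ∣ Nat.card K → b ∣ Nat.card L → (a ∈ A ↔ b ∈ A) := by
    intro K L h a b ha hb hab haK hbL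
    have haG := haK.trans (Subgroup.card_subgroup_dvd_card K)
    have hbG := hbL.trans (Subgroup.card_subgroup_dvd_card L)
    obtain ⟨g, hg⟩ := exists_commuting_orders h ha hb hab haK hbL
    constructor
    · intro haA; by_contra hbA
      exact hAB a haA b hbA ha hb haG hbG ⟨g, hg⟩
    · intro hbA; by_contra haA
      exact hAB b hbA a haA hb ha hbG haG ⟨g, by rw [hg, mul_comm]⟩
  have whole : (2 ∈ A ↔ 3 ∈ A) → (2 ∈ A ↔ 5 ∈ A) → (2 ∈ A ↔ 11 ∈ A) → False := by
    intro h23 h25 h211
    have hp : ∀ a : ℕ, a.Prime → a ∣ Nat.card G → (a ∈ A ↔ 2 ∈ A) := by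
      intro a ha hd
      rw [hord, show (7920 : ℕ) = 2 ^ 4 * 3 ^ 2 * 5 * 11 by norm_num] at hd
      rcases ha.dvd_mul.mp hd with hd | hd
      · rcases ha.dvd_mul.mp hd with hd | hd
        · rcases ha.dvd_mul.mp hd with hd | hd
          · rw [(Nat.prime_dvd_prime_iff_eq ha Nat.prime_two).mp (ha.dvd_of_dvd_pow hd)]
          · rw [(Nat.prime_dvd_prime_iff_eq ha Nat.prime_three).mp (ha.dvd_of_dvd_pow hd)]
            exact h23.symm
        · rw [(Nat.prime_dvd_prime_iff_eq ha Nat.prime_five).mp hd]; exact h25.symm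
      · rw [(Nat.prime_dvd_prime_iff_eq ha h11p).mp hd]; exact h211.symm
    obtain ⟨a, haA, ha, had⟩ := hA
    obtain ⟨b, hbA, hb, hbd⟩ := hB
    exact hbA ((hp b hb hbd).mpr ((hp a ha had).mp haA))
  -- the Sylow 11-subgroups
  obtain ⟨P⟩ : Nonempty (Sylow 11 G) := inferInstance
  have hc : Nat.card G = 11 ^ 1 * 720 := by rw [hord]; norm_num
  have hP : Nat.card (P : Subgroup G) = 11 :=
    (H62.card_sylow_coe hc (by norm_num) P).trans (pow_one 11)
  haveI := isCyclic_of_prime_card hP
  set M := normalizer ((P : Subgroup G) : Set G) with hMdef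
  set D := centralizer ((P : Subgroup G) : Set G) with hDdef
  have hDM : D ≤ M := centralizer_le_normalizer _
  have hPD : (P : Subgroup G) ≤ D := fun a ha => mem_centralizer_iff.mpr fun b hb =>
    congrArg Subtype.val (IsMulCommutative.is_comm.comm (⟨b, hb⟩ : (P : Subgroup G)) ⟨a, ha⟩)
  have hcommD : ∀ k ∈ D, ∀ l ∈ (P : Subgroup G), Commute k l := fun k hk l hl =>
    (mem_centralizer_iff.mp hk l hl).symm
  have hrel : D.relIndex M ∣ 10 := H62.relIndex_centralizer_dvd_prime (p := 11) (P : Subgroup G) hP
  have hDMc : Nat.card D * D.relIndex M = Nat.card M := by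
    rw [← relIndex_bot_left, ← relIndex_bot_left]
    exact relIndex_mul_relIndex _ _ _ bot_le hDM
  have hMn : Nat.card M * Nat.card (Sylow 11 G) = 7920 := by
    rw [← hord]; exact H62.card_normalizer_mul P
  have hn : Nat.card (Sylow 11 G) ∈ (Nat.divisors 720).filter (fun d => d % 11 = 1) :=
    Finset.mem_filter.mpr ⟨Nat.mem_divisors.mpr ⟨H62.card_sylow_dvd hc (by norm_num), by norm_num⟩,
      H62.card_sylow_mod⟩
  rw [show (Nat.divisors 720).filter (fun d => d % 11 = 1) = {1, 12, 45, 144} by decide +kernel] at hn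
  simp only [Finset.mem_insert, Finset.mem_singleton] at hn
  have hrel' : D.relIndex M ∈ Nat.divisors 10 := Nat.mem_divisors.mpr ⟨hrel, by norm_num⟩
  rw [show Nat.divisors 10 = {1, 2, 5, 10} by decide] at hrel'
  simp only [Finset.mem_insert, Finset.mem_singleton] at hrel'
  -- large normalisers connect the graph
  have big : 660 ∣ Nat.card M → False := by
    intro h660
    rw [← hDMc] at h660
    have h3 : 3 ∣ Nat.card D := by rcases hrel' with e | e | e | e <;> rw [e] at h660 <;> omega
    have h2 : 2 ∣ Nat.card D := by rcases hrel' with e | e | e | e <;> rw [e] at h660 <;> omega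
    have h11D : 11 ∣ Nat.card D := hP ▸ Subgroup.card_dvd_of_le hPD
    have h211 := conn hcommD Nat.prime_two h11p (by norm_num) h2 (by rw [hP])
    have h311 := conn hcommD Nat.prime_three h11p (by norm_num) h3 (by rw [hP])
    refine whole (h211.trans h311.symm) ?_ h211
    by_cases h5D : 5 ∣ Nat.card D
    · exact h211.trans (conn hcommD Nat.prime_five h11p (by norm_num) h5D (by rw [hP])).symm
    haveI hDn : (D.subgroupOf M).Normal := by
      refine ⟨fun d hd g => ?_⟩
      rw [mem_subgroupOf] at hd ⊢
      rw [hDdef, mem_centralizer_iff] at hd ⊢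
      intro q hq
      have hq' : (g : G)⁻¹ * q * g ∈ (P : Subgroup G) := (mem_normalizer_iff''.mp g.2 q).mp hq
      have h := hd _ hq'
      simp only [Subgroup.coe_mul, InvMemClass.coe_inv]
      calc q * ((g : G) * d * (g : G)⁻¹) = g * ((g : G)⁻¹ * q * g * d) * (g : G)⁻¹ := by group
        _ = g * ((d : G) * ((g : G)⁻¹ * q * g)) * (g : G)⁻¹ := by rw [h]
        _ = (g : G) * d * (g : G)⁻¹ * q := by group
    have hDc : Nat.card (D.subgroupOf M) = Nat.card D :=
      Nat.card_congr (subgroupOfEquivOfLe hDM).toEquiv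
    have hMG : Nat.card M ∣ 7920 := Dvd.intro _ hMn
    obtain ⟨g, hg⟩ := exists_fifteen (G := M) (fun h => by
        have := h.trans hMG; norm_num at this)
      (fun h => by have := h.trans hMG; norm_num at this) (D.subgroupOf M) (by rwa [hDc]) (by rwa [hDc])
      (by rw [← hDMc]; omega)
    rw [← Subgroup.orderOf_coe] at hg
    have h5G : 5 ∣ Nat.card G := by rw [hord]; norm_num
    have h3G : 3 ∣ Nat.card G := by rw [hord]; norm_num
    have h35 : 3 ∈ A ↔ 5 ∈ A := by
      constructor
      · intro h; by_contra h'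
        exact hAB 3 h 5 h' Nat.prime_three Nat.prime_five h3G h5G ⟨g, hg⟩
      · intro h; by_contra h'
        exact hAB 5 h 3 h' Nat.prime_five Nat.prime_three h5G h3G ⟨g, by rw [hg]⟩
    exact (h211.trans h311.symm).trans h35
  rcases hn with hn | hn | hn | hn
  · exact (big (by rw [hn, mul_one] at hMn; rw [hMn]; norm_num)).elim
  · exact (big (by rw [hn] at hMn; omega)).elim
  all_goals
    -- no normal subgroup of order prime to 11
    have noSmall : ∀ N : Subgroup G, N.Normal → ¬ 11 ∣ Nat.card N → N = ⊥ := by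
      intro N hN h11
      by_contra hne
      haveI := hN
      have hcentral : ∀ R : Sylow 11 G, ∀ k ∈ N, ∀ l ∈ (R : Subgroup G), Commute k l := by
        intro R k hk l hl
        by_cases h1 : l = 1
        · subst h1; exact Commute.one_right k
        have ho : orderOf l = 11 := by
          have hd := (R : Subgroup G).orderOf_dvd_natCard hl
          rw [H62.card_sylow_coe hc (by norm_num) R, pow_one] at hd
          exact (h11p.eq_one_or_self_of_dvd _ hd).resolve_left (fun h => h1 (orderOf_eq_one_iff.mp h))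
        exact mem_centralizer_singleton_iff.mp (le_centralizer_eleven hord N h11 ho hk)
      have hND : N ≤ D := fun k hk => mem_centralizer_iff.mpr fun l hl => (hcentral P k hk l hl).symm
      set C := centralizer (N : Set G)
      have hPC : (P : Subgroup G) ≤ C := fun l hl => mem_centralizer_iff.mpr fun k hk => hcentral P k hk l hl
      have hCN : ∀ k ∈ C, ∀ l ∈ N, Commute k l := fun k hk l hl => (mem_centralizer_iff.mp hk l hl).symm
      have hcount := count P C hPC
      rw [← hMdef, hn] at hcount
      have h11CM : 11 ∣ Nat.card ↥(C ⊓ M) := hP ▸ Subgroup.card_dvd_of_le (le_inf hPC le_normalizer)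
      have hCd := mul_dvd_mul_left (Nat.card (Sylow 11 G)) h11CM
      rw [hn, ← hcount] at hCd
      have hNM : Nat.card N ∣ Nat.card M := Subgroup.card_dvd_of_le (hND.trans hDM)
      obtain ⟨q, hq, hqN⟩ := Nat.exists_prime_and_dvd (n := Nat.card N)
        (fun h => hne (Subgroup.card_eq_one.mp h))
      have hM : Nat.card M = 7920 / Nat.card (Sylow 11 G) := by rw [← hMn, hn]; omega
      rw [hn] at hM
      norm_num at hM
      have hqM : q ∣ Nat.card M := hqN.trans hNM
      rw [hM] at hqM
      have hq' : q = 2 ∨ q = 5 := by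
        have hmem : q ∈ (Nat.divisors 176).filter Nat.Prime ∨ q ∈ (Nat.divisors 55).filter Nat.Prime := by
          first
          | exact Or.inl (Finset.mem_filter.mpr ⟨Nat.mem_divisors.mpr ⟨hqM, by norm_num⟩, hq⟩)
          | exact Or.inr (Finset.mem_filter.mpr ⟨Nat.mem_divisors.mpr ⟨hqM, by norm_num⟩, hq⟩)
        rw [show (Nat.divisors 176).filter Nat.Prime = {2, 11} by decide +kernel,
          show (Nat.divisors 55).filter Nat.Prime = {5, 11} by decide +kernel] at hmem
        simp only [Finset.mem_insert, Finset.mem_singleton] at hmem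
        have : q ≠ 11 := fun h => h11 (h ▸ hqN)
        omega
      have e11 : q ≠ 11 := fun h => h11 (h ▸ hqN)
      have k11 := conn hCN h11p hq e11.symm ((dvd_mul_left 11 _).trans hCd) hqN
      have k3 := conn hCN Nat.prime_three hq (by omega) ((dvd_mul_of_dvd_left (by norm_num) 11).trans hCd) hqN
      rcases hq' with rfl | rfl
      · first
        | (exfalso; norm_num at hqM; done)
        | exact whole k3.symm (conn hCN Nat.prime_five hq (by norm_num)
            ((dvd_mul_of_dvd_left (by norm_num) 11).trans hCd) hqN).symm k11.symm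
      · first
        | (exfalso; norm_num at hqM; done)
        | (have k2 := conn hCN Nat.prime_two hq (by norm_num)
            ((dvd_mul_of_dvd_left (by norm_num) 11).trans hCd) hqN
           exact whole (k2.trans k3.symm) k2 (k2.trans k11.symm))
  · -- forty-five Sylow subgroups
    exfalso
    have hM : Nat.card M = 176 := by rw [hn] at hMn; omega
    haveI : Fintype (Sylow 11 G) := Fintype.ofFinite _
    let φ : G →* Equiv.Perm (Sylow 11 G) := MulAction.toPermHom G (Sylow 11 G)
    let s : G →* ℤˣ := Equiv.Perm.sign.comp φ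
    set W := D ⊓ s.ker with hW
    have hWM : W ≤ M := inf_le_left.trans hDM
    have hDc : 88 ∣ Nat.card D := by
      rw [hM] at hDMc
      rcases hrel' with e | e | e | e <;> rw [e] at hDMc <;> omega
    have hWc : 44 ∣ Nat.card W := by
      have h1 : Nat.card W * s.ker.relIndex D = Nat.card D := by
        rw [hW, inf_comm, ← inf_relIndex_right s.ker D, ← relIndex_bot_left, ← relIndex_bot_left]
        exact relIndex_mul_relIndex _ _ _ bot_le inf_le_right
      have h2 : s.ker.relIndex D ∣ 2 := by
        refine (Subgroup.relIndex_dvd_index_of_normal s.ker D).trans ?_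
        rw [Subgroup.index_ker]
        exact (Subgroup.card_subgroup_dvd_card _).trans (by
          rw [Nat.card_eq_fintype_card, Fintype.card_units_int])
      rcases (Nat.dvd_prime Nat.prime_two).mp h2 with e | e <;> rw [e] at h1 <;> omega
    obtain ⟨S⟩ : Nonempty (Sylow 2 M) := inferInstance
    have hS : Nat.card (S : Subgroup M) = 16 :=
      (H62.card_sylow_coe (a := 4) (m := 11) (by rw [hM]; norm_num) (by norm_num) S).trans (by norm_num)
    haveI hWn : (W.subgroupOf M).Normal := by
      refine ⟨fun d hd g => ?_⟩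
      rw [mem_subgroupOf] at hd ⊢
      refine ⟨?_, (inferInstance : s.ker.Normal).conj_mem _ hd.2 _⟩
      show ((g * d * g⁻¹ : M) : G) ∈ D
      rw [hDdef, mem_centralizer_iff]
      intro q hq
      have hq' : (g : G)⁻¹ * q * g ∈ (P : Subgroup G) := (mem_normalizer_iff''.mp g.2 q).mp hq
      have h := mem_centralizer_iff.mp hd.1 _ hq'
      simp only [Subgroup.coe_mul, InvMemClass.coe_inv]
      calc q * ((g : G) * d * (g : G)⁻¹) = g * ((g : G)⁻¹ * q * g * d) * (g : G)⁻¹ := by group
        _ = g * ((d : G) * ((g : G)⁻¹ * q * g)) * (g : G)⁻¹ := by rw [h]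
        _ = (g : G) * d * (g : G)⁻¹ * q := by group
    set WS := (W.subgroupOf M).subgroupOf (S : Subgroup M)
    have hWS : WS ≠ ⊥ := by
      intro h
      have h1 : (W.subgroupOf M).relIndex (S : Subgroup M) = 16 := by
        show WS.index = 16
        rw [h, index_bot, hS]
      have h2 := Subgroup.relIndex_dvd_index_of_normal (W.subgroupOf M) (S : Subgroup M)
      have h3 := (W.subgroupOf M).card_mul_index
      rw [Nat.card_congr (subgroupOfEquivOfLe hWM).toEquiv, hM] at h3
      rw [h1] at h2
      have h4 := Nat.mul_dvd_mul hWc h2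
      rw [h3] at h4
      norm_num at h4
    have hz := H30.inf_center_ne_bot S.isPGroup' (C := WS) inferInstance hWS
    have h2z : 2 ∣ Nat.card ↥(WS ⊓ center ↥(S : Subgroup M)) := by
      obtain ⟨k, hk⟩ := IsPGroup.iff_card.mp (S.isPGroup'.to_subgroup (WS ⊓ center ↥(S : Subgroup M)))
      rcases k with - | k
      · exact absurd (Subgroup.card_eq_one.mp hk) hz
      · rw [hk]; exact dvd_pow_self 2 (by omega)
    obtain ⟨y0, hy0⟩ := exists_prime_orderOf_dvd_card' 2 h2z
    set y : G := (((y0 : ↥(S : Subgroup M)) : M) : G) with hydef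
    have hy2 : orderOf y = 2 := by
      rw [hydef, Subgroup.orderOf_coe, Subgroup.orderOf_coe, Subgroup.orderOf_coe, hy0]
    have hyW : y ∈ W := y0.2.1
    have hyM : y ∈ M := hWM hyW
    -- central in the normaliser
    have hcent : ∀ g ∈ M, Commute g y := by
      have hle : (S : Subgroup M).map M.subtype ⊔ (P : Subgroup G) ≤ centralizer {y} := by
        refine sup_le ?_ ?_
        · rintro _ ⟨a, ha, rfl⟩
          rw [mem_centralizer_singleton_iff]
          have := mem_center_iff.mp y0.2.2 ⟨a, ha⟩
          exact congrArg (fun u : ↥(S : Subgroup M) => ((u : M) : G)) this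
        · intro a ha
          rw [mem_centralizer_singleton_iff]
          exact mem_centralizer_iff.mp hyW.1 a ha
      have h16 : 16 ∣ Nat.card ↥(M ⊓ centralizer {y}) := by
        rw [← hS, ← card_map_of_injective M.subtype_injective]
        exact Subgroup.card_dvd_of_le (le_inf (map_subtype_le _) (le_sup_left.trans hle))
      have h11 : 11 ∣ Nat.card ↥(M ⊓ centralizer {y}) :=
        hP ▸ Subgroup.card_dvd_of_le (le_inf le_normalizer (le_sup_right.trans hle))
      have h176 := Nat.Coprime.mul_dvd_of_dvd_of_dvd (by norm_num) h16 h11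
      have := Subgroup.eq_of_le_of_card_ge (inf_le_left : M ⊓ centralizer {y} ≤ M)
        (by rw [hM]; exact Nat.le_of_dvd Nat.card_pos h176)
      exact fun g hg => mem_centralizer_singleton_iff.mp (this.symm ▸ hg : g ∈ M ⊓ centralizer {y}).2
    -- fixed points
    set F := {R : Sylow 11 G | y • R = R}
    have fixM : ∀ g : G, g • P = P ↔ g ∈ M := fun g => Sylow.smul_eq_iff_mem_normalizer
    have hPF : P ∈ F := (fixM y).mpr hyM
    let σ : Equiv.Perm (Sylow 11 G) := φ y
    have hσ2 : σ ^ 2 = 1 := by show φ y ^ 2 = 1; rw [← map_pow, ← hy2, pow_orderOf_eq_one, map_one]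
    have hsign : Equiv.Perm.sign σ = 1 := (MonoidHom.mem_ker (f := s)).mp hyW.2
    rw [Equiv.Perm.sign_of_pow_two_eq_one hσ2] at hsign
    have hfix : Fintype.card (Function.fixedPoints σ) = Nat.card F := by
      rw [← Nat.card_eq_fintype_card]; rfl
    have h45 : Fintype.card (Sylow 11 G) = 45 := by rw [← Nat.card_eq_fintype_card, hn]
    rw [hfix, h45] at hsign
    have hodd : Nat.card F % 2 = 1 := by
      have h2 : σ.supportᶜ.card ≡ Fintype.card (Sylow 11 G) [MOD 2] :=
        Equiv.Perm.card_compl_support_modEq (p := 2) (n := 1) (by simpa using hσ2)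
      have hs : σ.supportᶜ.card = Fintype.card (Function.fixedPoints σ) := by
        rw [Fintype.card_ofFinset]
        congr 1
        ext r
        simp [Function.IsFixedPt]
      rw [hs, hfix, h45] at h2
      exact h2
    have hev : (45 - Nat.card F) / 2 % 2 = 0 := by
      by_contra hh
      rw [(Nat.odd_iff.mpr (by omega : (45 - Nat.card F) / 2 % 2 = 1)).neg_one_pow] at hsign
      exact absurd hsign (by decide)
    have hmod : Nat.card F % 11 = 1 := by
      letI actF : MulAction (P : Subgroup G) F :=
        { smul := fun p R => ⟨(p : G) • R.1, by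
            show y • (p : G) • R.1 = (p : G) • R.1
            rw [← mul_smul, ← (hcent p (le_normalizer p.2)).eq, mul_smul, R.2]⟩
          one_smul := fun R => Subtype.ext (one_smul G R.1)
          mul_smul := fun a b R => Subtype.ext (mul_smul (a : G) (b : G) R.1) }
      have hfixed : MulAction.fixedPoints (P : Subgroup G) F = {(⟨P, hPF⟩ : F)} := by
        ext R
        constructor
        · intro hR
          refine Subtype.ext (Sylow.ext ?_)
          have hmem : R.1 ∈ MulAction.fixedPoints (P : Subgroup G) (Sylow 11 G) := fun p =>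
            congrArg Subtype.val (hR p)
          refine (Subgroup.eq_of_le_of_card_ge (P.isPGroup'.sylow_mem_fixedPoints_iff.mp hmem) ?_).symm
          rw [hP, H62.card_sylow_coe hc (by norm_num) R.1, pow_one]
        · rintro rfl p
          exact Subtype.ext ((fixM p).mpr (le_normalizer p.2))
      have h := P.isPGroup'.card_modEq_card_fixedPoints F
      rw [hfixed, Nat.card_coe_set_eq {(⟨P, hPF⟩ : F)}, Set.ncard_singleton] at h
      exact h
    have hF45 : Nat.card F ≤ 45 := by
      rw [← hn]; exact Nat.card_le_card_of_injective _ Subtype.val_injective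
    have hFcases : Nat.card F = 1 ∨ Nat.card F = 45 := by omega
    rcases hFcases with hF1 | hF45'
    · have hFP : ∀ R : Sylow 11 G, y • R = R → R = P := fun R hR =>
        congrArg Subtype.val ((Nat.card_eq_one_iff_unique.mp hF1).1.elim (⟨R, hR⟩ : F) ⟨P, hPF⟩)
      have hcyM : ∀ g : G, Commute g y → g ∈ M := fun g hg => (fixM g).mp (hFP _ (by
        rw [← mul_smul, ← hg.eq, mul_smul, hPF]))
      have hiso : Cfsg.IsIsolatedInvolution y := by
        refine ⟨hy2, fun g hg => ?_⟩
        have hzM : g * y * g⁻¹ ∈ M := hcyM _ hg.symm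
        have h1 : y ∈ M := hyM
        have hfixP : (g * y * g⁻¹) • P = P := (fixM _).mpr hzM
        have h2 : y • (g⁻¹ • P) = g⁻¹ • P := by
          rw [← mul_smul]
          rw [mul_smul, mul_smul] at hfixP
          have := congrArg (g⁻¹ • ·) hfixP
          simp only [inv_smul_smul] at this
          rw [mul_smul]
          exact this
        have hgP : g⁻¹ • P = P := hFP _ h2
        have hgM : g⁻¹ ∈ M := (fixM _).mp hgP
        rw [(hcent g (by simpa using inv_mem hgM)).eq, mul_inv_cancel_right]
      have hz' := H85.zStar hiso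
      set O := Cfsg.pPrimeCore 2 G
      haveI hOn : O.Normal := H10.pPrimeCore_normal
      have h11O : O = ⊥ := by
        by_contra hO
        have h11 : 11 ∣ Nat.card O := by_contra fun h => hO (noSmall O hOn h)
        have hodd : ¬ 2 ∣ Nat.card O := Cfsg.Comp.not_dvd_card_pPrimeCore 2
        obtain ⟨o, ho⟩ := exists_prime_orderOf_dvd_card' (G := O) 11 h11
        rw [← Subgroup.orderOf_coe] at ho
        obtain ⟨R, hR⟩ := IsPGroup.exists_le_sylow (P := zpowers (o : G))
          (IsPGroup.of_card (n := 1) (p := 11) (by rw [Nat.card_zpowers, ho, pow_one]))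
        have hRO : (R : Subgroup G) ≤ O := by
          rw [← Subgroup.eq_of_le_of_card_ge hR (by
            rw [Nat.card_zpowers, ho, H62.card_sylow_coe hc (by norm_num) R, pow_one])]
          exact zpowers_le.mpr o.2
        obtain ⟨g, hg⟩ := MulAction.exists_smul_eq G R P
        have hPO : (P : Subgroup G) ≤ O := by
          rw [← hg]
          rintro _ ⟨a, ha, rfl⟩
          exact hOn.conj_mem a (hRO ha) g
        have hcount := count P O hPO
        have hOM : Nat.card ↥(O ⊓ M) = 11 := by
          have h1 : Nat.card ↥(O ⊓ M) ∣ 176 := hM ▸ Subgroup.card_dvd_of_le inf_le_right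
          have h2 : ¬ 2 ∣ Nat.card ↥(O ⊓ M) := fun h => hodd (h.trans (Subgroup.card_dvd_of_le inf_le_left))
          have h3 : 11 ∣ Nat.card ↥(O ⊓ M) := hP ▸ Subgroup.card_dvd_of_le (le_inf hPO le_normalizer)
          have hmem : Nat.card ↥(O ⊓ M) ∈ (Nat.divisors 176).filter (fun d => d % 2 = 1 ∧ d % 11 = 0) :=
            Finset.mem_filter.mpr ⟨Nat.mem_divisors.mpr ⟨h1, by norm_num⟩, by omega, by omega⟩
          rw [show (Nat.divisors 176).filter (fun d => d % 2 = 1 ∧ d % 11 = 0) = {11} by decide +kernel,
            Finset.mem_singleton] at hmem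
          exact hmem
        rw [hOM, hn] at hcount
        have hle : O ⊓ M ≤ (P : Subgroup G) := le_of_eq (Subgroup.eq_of_le_of_card_ge
          (le_inf hPO le_normalizer) (by rw [hOM, hP])).symm
        obtain ⟨K, hKn, -, hK, hK11⟩ := exists_normal_complement P hP O hPO hle
        have := noSmall K hKn hK11
        rw [this, hcount] at hK
        simp at hK
      have hyc : ∀ g : G, Commute y g := fun g => by
        have : y * g * y⁻¹ * g⁻¹ ∈ O := hz' g
        rw [h11O, mem_bot] at this
        exact mul_inv_eq_iff_eq_mul.mp (mul_inv_eq_one.mp this)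
      haveI hzn : (zpowers y).Normal := ⟨fun a ha g => by
        obtain ⟨k, rfl⟩ := mem_zpowers_iff.mp ha
        rw [((hyc g).zpow_left k).symm.eq, mul_inv_cancel_right]
        exact ha⟩
      have := noSmall (zpowers y) hzn (by rw [Nat.card_zpowers, hy2]; norm_num)
      rw [zpowers_eq_bot] at this
      rw [this, orderOf_one] at hy2
      omega
    · -- in the kernel of the action
      have hall : ∀ R : Sylow 11 G, y • R = R := by
        intro R
        have hinj : Function.Injective (Subtype.val : F → Sylow 11 G) := Subtype.val_injective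
        obtain ⟨R', hR'⟩ := ((Nat.bijective_iff_injective_and_card _).mpr
          ⟨hinj, by rw [hF45', hn]⟩).2 R
        exact hR' ▸ R'.2
      have hker : φ.ker = ⊥ := by
        refine noSmall _ inferInstance fun h => ?_
        obtain ⟨o, ho⟩ := exists_prime_orderOf_dvd_card' (G := φ.ker) 11 h
        rw [← Subgroup.orderOf_coe] at ho
        obtain ⟨R, hR⟩ := IsPGroup.exists_le_sylow (P := zpowers (o : G))
          (IsPGroup.of_card (n := 1) (p := 11) (by rw [Nat.card_zpowers, ho, pow_one]))
        have hsub : Subsingleton (Sylow 11 G) := by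
          refine ⟨fun R1 R2 => ?_⟩
          have hall' : ∀ R3 : Sylow 11 G, R3 = R := by
            intro R3
            apply Sylow.ext
            have hoR : (o : G) ∈ normalizer ((R3 : Subgroup G) : Set G) :=
              Sylow.smul_eq_iff_mem_normalizer.mp (Equiv.congr_fun (MonoidHom.mem_ker.mp o.2) R3)
            have hz : zpowers (o : G) ≤ normalizer ((R3 : Subgroup G) : Set G) := zpowers_le.mpr hoR
            have hpg : IsPGroup 11 (zpowers (o : G)) :=
              IsPGroup.of_card (n := 1) (p := 11) (by rw [Nat.card_zpowers, ho, pow_one])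
            have hle3 : zpowers (o : G) ≤ (R3 : Subgroup G) := by
              refine hpg.sylow_mem_fixedPoints_iff.mp fun z => ?_
              exact Sylow.smul_eq_iff_mem_normalizer.mpr (hz z.2)
            rw [← Subgroup.eq_of_le_of_card_ge hle3 (by
              rw [Nat.card_zpowers, ho, H62.card_sylow_coe hc (by norm_num) R3, pow_one]),
              ← Subgroup.eq_of_le_of_card_ge hR (by
              rw [Nat.card_zpowers, ho, H62.card_sylow_coe hc (by norm_num) R, pow_one])]
          rw [hall' R1, hall' R2]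
        have h1 : Nat.card (Sylow 11 G) ≤ 1 := Finite.card_le_one_iff_subsingleton.mpr hsub
        omega
      have : y ∈ φ.ker := MonoidHom.mem_ker.mpr (Equiv.ext hall)
      rw [hker, mem_bot] at this
      rw [this, orderOf_one] at hy2
      omega
  · -- one hundred and forty-four Sylow subgroups
    haveI : Nontrivial G := Finite.one_lt_card_iff_nontrivial.mp (by rw [hord]; norm_num)
    have hM : Nat.card M = 55 := by rw [hn] at hMn; omega
    refine ⟨fun N hN => ?_⟩
    by_cases h11 : 11 ∣ Nat.card N
    swap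
    · exact Or.inl (noSmall N hN h11)
    haveI := hN
    right
    obtain ⟨o, ho⟩ := exists_prime_orderOf_dvd_card' (G := N) 11 h11
    rw [← Subgroup.orderOf_coe] at ho
    obtain ⟨R, hR⟩ := IsPGroup.exists_le_sylow (P := zpowers (o : G))
      (IsPGroup.of_card (n := 1) (p := 11) (by rw [Nat.card_zpowers, ho, pow_one]))
    have hRN : (R : Subgroup G) ≤ N := by
      rw [← Subgroup.eq_of_le_of_card_ge hR (by
        rw [Nat.card_zpowers, ho, H62.card_sylow_coe hc (by norm_num) R, pow_one])]
      exact zpowers_le.mpr o.2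
    obtain ⟨g, hg⟩ := MulAction.exists_smul_eq G R P
    have hPN : (P : Subgroup G) ≤ N := by
      rw [← hg]
      rintro _ ⟨a, ha, rfl⟩
      exact hN.conj_mem a (hRN ha) g
    have hcount := count P N hPN
    rw [← hMdef, hn] at hcount
    have h1 : Nat.card ↥(N ⊓ M) ∈ Nat.divisors 55 :=
      Nat.mem_divisors.mpr ⟨hM ▸ Subgroup.card_dvd_of_le inf_le_right, by norm_num⟩
    rw [show Nat.divisors 55 = {1, 5, 11, 55} by decide +kernel] at h1
    simp only [Finset.mem_insert, Finset.mem_singleton] at h1
    have h2 : 11 ∣ Nat.card ↥(N ⊓ M) := hP ▸ Subgroup.card_dvd_of_le (le_inf hPN le_normalizer)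
    have h3 : Nat.card ↥(N ⊓ M) = 11 ∨ Nat.card ↥(N ⊓ M) = 55 := by omega
    rcases h3 with h3 | h3
    · exfalso
      have hle : N ⊓ M ≤ (P : Subgroup G) := le_of_eq (Subgroup.eq_of_le_of_card_ge
        (le_inf hPN le_normalizer) (by rw [h3, hP])).symm
      obtain ⟨K, hKn, -, hK, hK11⟩ := exists_normal_complement P hP N hPN hle
      have := noSmall K hKn hK11
      rw [this, hcount, h3] at hK
      simp at hK
    · exact Subgroup.eq_top_of_card_eq _ (by rw [hcount, h3, hord])

end H63.Ord7920
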