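/-
Element counts of simple groups of order 7920 and two recognition consequences.
-/
import Cfsg.Agent.H36.M11Local
import Cfsg.Agent.H36.M11Centralizer
import Cfsg.Agent.H36.M11Unique
import Cfsg.Agent.H62.Intersect
import Cfsg.Agent.H63.Order7920

set_option autoImplicit false
set_option linter.style.haveILetI false

namespace H63.M11

open Subgroup

universe u v

variable {G : Type u} [Group G] [Finite G]

/-- If an element of order `11` is self-centralising, the group of order `7920` is simple. -/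
theorem simple_of_eleven (hG : Nat.card G = 7920) (P : Sylow 11 G)
    (hP : ∀ g : G, g ∈ (P : Subgroup G) → g ≠ 1 → Nat.card (centralizer ({g} : Set G)) = 11) :
    IsSimpleGroup G := by
  haveI : Fact (Nat.Prime 11) := ⟨by norm_num⟩
  refine H63.Ord7920.main hG {11} ⟨11, rfl, by norm_num, by rw [hG]; norm_num⟩
    ⟨2, by simp, Nat.prime_two, by rw [hG]; norm_num⟩ ?_
  rintro a rfl b hb - hbp - hbd ⟨g, hg⟩
  have hb1 : b ≠ 11 := hb
  set x := g ^ b with hx
  have hxo : orderOf x = 11 := by
    rw [hx, orderOf_pow, hg, Nat.gcd_eq_right (dvd_mul_left b 11), Nat.mul_div_cancel _ hbp.pos]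
  have h11 : IsPGroup 11 (zpowers x) := IsPGroup.of_card (n := 1) (by rw [Nat.card_zpowers, hxo, pow_one])
  obtain ⟨Q, hQ⟩ := h11.exists_le_sylow
  obtain ⟨c, hc⟩ := MulAction.exists_smul_eq G P Q
  have hxQ : x ∈ (Q : Subgroup G) := hQ (mem_zpowers x)
  have hxP : c⁻¹ * x * c ∈ (P : Subgroup G) := by
    rw [← hc, Sylow.coe_subgroup_smul, Subgroup.mem_pointwise_smul_iff_inv_smul_mem] at hxQ
    simpa [MulAut.smul_def] using hxQ
  have hx1 : c⁻¹ * x * c ≠ 1 := by
    intro e
    have : x = 1 := by
      calc x = c * (c⁻¹ * x * c) * c⁻¹ := by group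
        _ = 1 := by rw [e]; group
    rw [this, orderOf_one] at hxo
    norm_num at hxo
  have hc11 := hP _ hxP hx1
  have hgC : c⁻¹ * g * c ∈ centralizer ({c⁻¹ * x * c} : Set G) := by
    rw [mem_centralizer_singleton_iff]
    have hgx : g * x = x * g := (Commute.refl g).pow_right b
    calc c⁻¹ * g * c * (c⁻¹ * x * c) = c⁻¹ * (g * x) * c := by group
      _ = c⁻¹ * (x * g) * c := by rw [hgx]
      _ = _ := by group
  have hd := orderOf_dvd_natCard (⟨_, hgC⟩ : centralizer ({c⁻¹ * x * c} : Set G))
  rw [hc11, Subgroup.orderOf_mk, show c⁻¹ * g * c = MulAut.conj c⁻¹ g by simp,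
    MulEquiv.orderOf_eq, hg] at hd
  have h1 := Nat.le_of_dvd (by norm_num) hd
  have h2 := hbp.two_le
  omega

theorem card_ne_one_add_one (X : Type v) [Group X] [Finite X] :
    Nat.card {x : X // x ≠ 1} + 1 = Nat.card X := by
  classical
  rw [← Finite.card_option]
  exact Nat.card_congr (Equiv.optionSubtypeNe (1 : X))

/-- A centraliser counted among the non-identity elements. -/
theorem card_commuting_add_one {X : Type v} [Group X] [Finite X] (a : X) :
    Nat.card {z : {z : X // z ≠ 1} // a * z.1 = z.1 * a} + 1 =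
      Nat.card (centralizer ({a} : Set X)) := by
  classical
  rw [← Finite.card_option,
    ← Nat.card_congr (Equiv.optionSubtypeNe (1 : centralizer ({a} : Set X)))]
  refine Nat.card_congr (Equiv.optionCongr ?_)
  exact
    { toFun := fun z => ⟨⟨z.1.1, mem_centralizer_singleton_iff.2 z.2.symm⟩,
        fun e => z.1.2 (congrArg Subtype.val e)⟩
      invFun := fun z => ⟨⟨z.1.1, fun e => z.2 (Subtype.ext e)⟩,
        (mem_centralizer_singleton_iff.1 z.1.2).symm⟩
      left_inv := fun _ => rfl
      right_inv := fun _ => rfl }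

variable [IsSimpleGroup G]

theorem cent_eleven (hG : Nat.card G = 7920) {g : G} (hg : orderOf g = 11) :
    Nat.card (centralizer ({g} : Set G)) = 11 := by
  haveI : Fact (Nat.Prime 11) := ⟨by norm_num⟩
  obtain ⟨P, hP⟩ := (IsPGroup.of_card (p := 11) (n := 1)
    (by rw [Nat.card_zpowers, hg, pow_one]) : IsPGroup 11 (zpowers g)).exists_le_sylow
  have hPc := H36.M11.card_sylow_eleven hG P
  have heq : zpowers g = (P : Subgroup G) :=
    eq_of_le_of_card_ge hP (by rw [hPc, Nat.card_zpowers, hg])
  rw [show centralizer ({g} : Set G) = centralizer ((P : Subgroup G) : Set G) by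
    rw [← heq, zpowers_eq_closure, centralizer_closure], (H36.M11.sylow_eleven hG P).1, hPc]

theorem cent_two (hG : Nat.card G = 7920) {g : G} (hg : orderOf g = 2) :
    Nat.card (centralizer ({g} : Set G)) = 48 := by
  haveI := Fintype.ofFinite G
  exact H36.M11.card_centralizer_involution hG hg

theorem cent_three (hG : Nat.card G = 7920) {g : G} (hg : orderOf g = 3) :
    Nat.card (centralizer ({g} : Set G)) = 18 := by
  haveI : Fact (Nat.Prime 3) := ⟨Nat.prime_three⟩
  haveI := Fintype.ofFinite G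
  obtain ⟨P, hP⟩ := (IsPGroup.of_card (p := 3) (n := 1)
    (by rw [Nat.card_zpowers, hg, pow_one]) : IsPGroup 3 (zpowers g)).exists_le_sylow
  refine (H36.M11.centralizer_three hG P (hP (mem_zpowers g)) ?_).1
  intro e
  rw [e, orderOf_one] at hg
  norm_num at hg

theorem cent_five (hG : Nat.card G = 7920) {g : G} (hg : orderOf g = 5) :
    Nat.card (centralizer ({g} : Set G)) = 5 := by
  set C := centralizer ({g} : Set G) with hC
  have hgC : g ∈ C := mem_centralizer_singleton_iff.2 rfl
  have h5 : 5 ∣ Nat.card C := by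
    have := orderOf_dvd_natCard (⟨g, hgC⟩ : C)
    rwa [Subgroup.orderOf_mk, hg] at this
  have key : ∀ q m : ℕ, q.Prime → ¬ 5 ∣ m →
      (∀ y : G, orderOf y = q → Nat.card (centralizer ({y} : Set G)) = m) → ¬ q ∣ Nat.card C := by
    intro q m hq hm hy hqd
    haveI := Fact.mk hq
    obtain ⟨⟨y, hyC⟩, hyo⟩ := exists_prime_orderOf_dvd_card' q hqd
    rw [Subgroup.orderOf_mk] at hyo
    have hgy : g ∈ centralizer ({y} : Set G) :=
      mem_centralizer_singleton_iff.2 (mem_centralizer_singleton_iff.1 hyC).symm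
    have := orderOf_dvd_natCard (⟨g, hgy⟩ : centralizer ({y} : Set G))
    rw [Subgroup.orderOf_mk, hg, hy y hyo] at this
    exact hm this
  have h2 := key 2 48 Nat.prime_two (by norm_num) fun y hy => cent_two hG hy
  have h3 := key 3 18 Nat.prime_three (by norm_num) fun y hy => cent_three hG hy
  have h11 := key 11 11 (by norm_num) (by norm_num) fun y hy => cent_eleven hG hy
  have hd : Nat.card C ∈ Nat.divisors 7920 :=
    Nat.mem_divisors.2 ⟨hG ▸ C.card_subgroup_dvd_card, by norm_num⟩
  have hall : ∀ n ∈ Nat.divisors 7920, 5 ∣ n → ¬ 2 ∣ n → ¬ 3 ∣ n → ¬ 11 ∣ n → n = 5 := by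
    decide +kernel
  exact hall _ hd h5 h2 h3 h11

/-- The elements of order eleven. -/
theorem count_eleven (hG : Nat.card G = 7920) : Nat.card {g : G // orderOf g = 11} = 1440 := by
  haveI : Fact (Nat.Prime 11) := ⟨by norm_num⟩
  obtain ⟨P⟩ : Nonempty (Sylow 11 G) := inferInstance
  rw [H62.card_orderOf_eq_prime P (H36.M11.card_sylow_eleven hG P)]
  have h1 := H62.card_normalizer_mul P
  rw [(H36.M11.sylow_eleven hG P).2, hG] at h1
  omega

/-- Element counts are multiples of class lengths of elements of prime order. -/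
theorem count_dvd (hG : Nat.card G = 7920) {n : ℕ} (hn : n ≠ 1) :
    (165 ∣ Nat.card {g : G // orderOf g = n}) ∨ (440 ∣ Nat.card {g : G // orderOf g = n}) ∨
      (1584 ∣ Nat.card {g : G // orderOf g = n}) ∨
      Nat.card {g : G // orderOf g = n} = 1440 := by
  classical
  set S := {g : G // orderOf g = n}
  letI : MulAction G S :=
    { smul := fun a x => ⟨a * x.1 * a⁻¹, by
        rw [show a * x.1 * a⁻¹ = MulAut.conj a x.1 from rfl, MulEquiv.orderOf_eq, x.2]⟩
      one_smul := fun x => Subtype.ext (show (1 : G) * x.1 * 1⁻¹ = x.1 by group)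
      mul_smul := fun a b x => Subtype.ext
        (show a * b * x.1 * (a * b)⁻¹ = a * (b * x.1 * b⁻¹) * a⁻¹ by group) }
  rcases isEmpty_or_nonempty S with hS | ⟨⟨g₀, hg₀⟩⟩
  · exact Or.inl (by rw [Nat.card_of_isEmpty]; exact dvd_zero _)
  obtain ⟨p, hp, hpn⟩ := Nat.exists_prime_and_dvd hn
  have hn0 : 0 < n := hg₀ ▸ orderOf_pos g₀
  have hp4 : p = 2 ∨ p = 3 ∨ p = 5 ∨ p = 11 := by
    have hpG : p ∣ 7920 := hpn.trans (hG ▸ hg₀ ▸ orderOf_dvd_natCard g₀)
    have : p ∈ Nat.primeFactorsList 7920 := (Nat.mem_primeFactorsList (by norm_num)).2 ⟨hp, hpG⟩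
    simp only [Nat.primeFactorsList_ofNat, List.mem_cons, List.not_mem_nil, or_false] at this
    omega
  have key : ∀ m k : ℕ, m * k = 7920 →
      (∀ y : G, orderOf y = p → Nat.card (centralizer ({y} : Set G)) = m) → k ∣ Nat.card S := by
    intro m k hmk hy
    rw [Nat.card_congr (MulAction.selfEquivSigmaOrbits G S)]
    haveI : Fintype (MulAction.orbitRel.Quotient G S) := Fintype.ofFinite _
    rw [Nat.card_sigma]
    refine Finset.dvd_sum fun q _ => ?_
    rw [Nat.card_congr (MulAction.orbitEquivQuotientStabilizer G q.out), ← Subgroup.index_eq_card]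
    set x := q.out
    set y := x.1 ^ (n / p) with hydef
    have hyo : orderOf y = p := by
      rw [hydef, orderOf_pow, x.2, Nat.gcd_eq_right (Nat.div_dvd_of_dvd hpn),
        Nat.div_div_self hpn hn0.ne']
    have hle : MulAction.stabilizer G x ≤ centralizer ({y} : Set G) := by
      intro a ha
      have h1 : a * x.1 * a⁻¹ = x.1 := congrArg Subtype.val ha
      have hax : Commute a x.1 := mul_inv_eq_iff_eq_mul.1 h1
      exact mem_centralizer_singleton_iff.2 (hax.pow_right _)
    have hd := Subgroup.card_dvd_of_le hle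
    rw [hy y hyo] at hd
    have hprod := (MulAction.stabilizer G x).card_mul_index
    rw [hG, ← hmk] at hprod
    obtain ⟨c, hc⟩ := hd
    have hpos : 0 < Nat.card (MulAction.stabilizer G x) := Nat.card_pos
    refine ⟨c, Nat.eq_of_mul_eq_mul_left hpos ?_⟩
    rw [hprod, hc]
    ring
  rcases hp4 with rfl | rfl | rfl | rfl
  · exact Or.inl (key 48 165 (by norm_num) fun y hy => cent_two hG hy)
  · exact Or.inr (Or.inl (key 18 440 (by norm_num) fun y hy => cent_three hG hy))
  · exact Or.inr (Or.inr (Or.inl (key 5 1584 (by norm_num) fun y hy => cent_five hG hy)))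
  · refine Or.inr (Or.inr (Or.inr ?_))
    have hy : orderOf (g₀ ^ (n / 11)) = 11 := by
      rw [orderOf_pow, hg₀, Nat.gcd_eq_right (Nat.div_dvd_of_dvd hpn),
        Nat.div_div_self hpn hn0.ne']
    have hmem : g₀ ∈ centralizer ({g₀ ^ (n / 11)} : Set G) :=
      mem_centralizer_singleton_iff.2 ((Commute.refl g₀).pow_right _)
    have hd := orderOf_dvd_natCard (⟨g₀, hmem⟩ : centralizer ({g₀ ^ (n / 11)} : Set G))
    rw [cent_eleven hG hy, Subgroup.orderOf_mk, hg₀] at hd
    have h11 : n = 11 := ((Nat.dvd_prime (by norm_num)).1 hd).resolve_left hn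
    subst h11
    exact count_eleven hG

end H63.M11
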