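import Mathlib

/-!
Numerical lemmas for the largest nilpotent subgroups of symmetric and alternating groups.
-/

set_option autoImplicit false
set_option linter.style.haveILetI false

namespace H63

/-- The exponent of two in `n!`. -/
def vFact (n : ℕ) : ℕ := padicValNat 2 n.factorial

/-- The largest order of a nilpotent subgroup of `S_n`. -/
def nilpSym (n : ℕ) : ℕ := if n % 4 = 3 then 3 * 2 ^ vFact (n - 3) else 2 ^ vFact n

/-- The degrees in which `A_n` is exceptional. -/
def nilpExc : List ℕ := [0, 1, 3, 5, 6, 9]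

/-- An upper bound, sharp for `n ≥ 2`, for nilpotent subgroups of `A_n`. -/
def nilpAlt (n : ℕ) : ℕ :=
  if n = 0 then 1 else if n = 1 then 1 else if n = 3 then 3 else if n = 5 then 5 else
    if n = 6 then 9 else if n = 9 then 81 else nilpSym n / 2

/-- The order bound for a transitive nilpotent group of degree `n`. -/
def transBound (n : ℕ) : ℕ :=
  ∏ p ∈ n.primeFactors, p ^ padicValNat p (p ^ n.factorization p).factorial

theorem vFact_mul_four (x i : ℕ) (hi : i < 4) : vFact (4 * x + i) = 3 * x + vFact x + i / 2 := by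
  haveI := Fact.mk Nat.prime_two
  have h1 : ∀ y j, j < 2 → vFact (2 * y + j) = vFact y + y := fun y j hj => by
    unfold vFact
    rw [padicValNat_factorial_mul_add _ hj, padicValNat_factorial_mul]
  obtain ⟨a, b, hb, rfl⟩ : ∃ a b, b < 2 ∧ i = 2 * a + b := ⟨i / 2, i % 2, Nat.mod_lt _ two_pos, by omega⟩
  rw [show 4 * x + (2 * a + b) = 2 * (2 * x + a) + b by ring, h1 _ b hb, h1 x a (by omega)]
  omega

theorem vFact_add (a b : ℕ) : vFact a + vFact b ≤ vFact (a + b) := by
  haveI := Fact.mk Nat.prime_two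
  unfold vFact
  obtain ⟨c, hc⟩ := Nat.factorial_mul_factorial_dvd_factorial_add a b
  have hc0 : c ≠ 0 := by rintro rfl; simp [Nat.factorial_ne_zero] at hc
  rw [hc, padicValNat.mul (Nat.mul_ne_zero (Nat.factorial_ne_zero a) (Nat.factorial_ne_zero b)) hc0,
    padicValNat.mul (Nat.factorial_ne_zero a) (Nat.factorial_ne_zero b)]
  omega

theorem vFact_mono {a b : ℕ} (h : a ≤ b) : vFact a ≤ vFact b := by
  obtain ⟨c, rfl⟩ := Nat.exists_eq_add_of_le h
  exact le_trans (Nat.le_add_right _ _) (vFact_add a c)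

theorem vFact_small : vFact 0 = 0 ∧ vFact 1 = 0 ∧ vFact 2 = 1 ∧ vFact 3 = 1 := by
  haveI := Fact.mk Nat.prime_two
  have h0 : vFact 0 = 0 := by simp [vFact]
  have h1 := vFact_mul_four 0 1 (by norm_num)
  have h2 := vFact_mul_four 0 2 (by norm_num)
  have h3 := vFact_mul_four 0 3 (by norm_num)
  simp only [Nat.mul_zero, Nat.zero_add, h0] at h1 h2 h3
  exact ⟨h0, h1, h2, h3⟩

theorem nilpSym_four (x i : ℕ) (hi : i < 4) :
    nilpSym (4 * x + i) =
      2 ^ (3 * x + vFact x) * (if i = 2 then 2 else if i = 3 then 3 else 1) := by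
  unfold nilpSym
  rw [show (4 * x + i) % 4 = i by omega]
  interval_cases i
  · have := vFact_mul_four x 0 (by norm_num)
    simp at this ⊢
    rw [this]
  · simp [vFact_mul_four x 1 (by norm_num)]
  · simp [vFact_mul_four x 2 (by norm_num), pow_succ]
  · rw [if_pos rfl, show 4 * x + 3 - 3 = 4 * x + 0 by omega, vFact_mul_four x 0 (by norm_num)]
    simp [mul_comm]

theorem nilpSym_mul (a b : ℕ) : nilpSym a * nilpSym b ≤ nilpSym (a + b) := by
  obtain ⟨x, i, hi, rfl⟩ : ∃ x i, i < 4 ∧ a = 4 * x + i := ⟨a / 4, a % 4, Nat.mod_lt _ (by norm_num), by omega⟩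
  obtain ⟨y, j, hj, rfl⟩ : ∃ y j, j < 4 ∧ b = 4 * y + j := ⟨b / 4, b % 4, Nat.mod_lt _ (by norm_num), by omega⟩
  rw [nilpSym_four x i hi, nilpSym_four y j hj]
  by_cases hc : i + j < 4
  · rw [show 4 * x + i + (4 * y + j) = 4 * (x + y) + (i + j) by ring, nilpSym_four _ _ hc]
    have hAB : 2 ^ (3 * x + vFact x) * 2 ^ (3 * y + vFact y) ≤ 2 ^ (3 * (x + y) + vFact (x + y)) := by
      rw [← pow_add]; exact Nat.pow_le_pow_right two_pos (by have := vFact_add x y; omega)
    generalize 2 ^ (3 * x + vFact x) = A at hAB ⊢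
    generalize 2 ^ (3 * y + vFact y) = B at hAB ⊢
    generalize 2 ^ (3 * (x + y) + vFact (x + y)) = C at hAB ⊢
    interval_cases i <;> interval_cases j <;> (try omega) <;> simp <;> nlinarith
  · rw [show 4 * x + i + (4 * y + j) = 4 * (x + y + 1) + (i + j - 4) by omega,
      nilpSym_four _ _ (by omega)]
    have hAB : 8 * (2 ^ (3 * x + vFact x) * 2 ^ (3 * y + vFact y)) ≤
        2 ^ (3 * (x + y + 1) + vFact (x + y + 1)) := by
      rw [← pow_add, show (8 : ℕ) = 2 ^ 3 from rfl, ← pow_add]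
      exact Nat.pow_le_pow_right two_pos (by
        have := vFact_add x y; have := vFact_mono (show x + y ≤ x + y + 1 by omega); omega)
    generalize 2 ^ (3 * x + vFact x) = A at hAB ⊢
    generalize 2 ^ (3 * y + vFact y) = B at hAB ⊢
    generalize 2 ^ (3 * (x + y + 1) + vFact (x + y + 1)) = C at hAB ⊢
    interval_cases i <;> interval_cases j <;> (try omega) <;> simp <;> nlinarith

theorem nilpSym_pos (n : ℕ) : 0 < nilpSym n := by
  unfold nilpSym; split_ifs <;> positivity

theorem nilpSym_mul_eq (a b : ℕ) (hn : (a + b) % 4 = 3) (h : nilpSym (a + b) ≤ nilpSym a * nilpSym b) :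
    a % 4 = 3 ∨ b % 4 = 3 := by
  obtain ⟨x, i, hi, rfl⟩ : ∃ x i, i < 4 ∧ a = 4 * x + i := ⟨a / 4, a % 4, Nat.mod_lt _ (by norm_num), by omega⟩
  obtain ⟨y, j, hj, rfl⟩ : ∃ y j, j < 4 ∧ b = 4 * y + j := ⟨b / 4, b % 4, Nat.mod_lt _ (by norm_num), by omega⟩
  by_contra hne
  push Not at hne
  have hij : i + j = 3 ∧ (i = 1 ∨ i = 2) := by omega
  rw [show 4 * x + i + (4 * y + j) = 4 * (x + y) + 3 by omega, nilpSym_four _ 3 (by norm_num),
    nilpSym_four x i hi, nilpSym_four y j hj] at h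
  have hAB : 2 ^ (3 * x + vFact x) * 2 ^ (3 * y + vFact y) ≤ 2 ^ (3 * (x + y) + vFact (x + y)) := by
    rw [← pow_add]; exact Nat.pow_le_pow_right two_pos (by have := vFact_add x y; omega)
  have hC : 0 < 2 ^ (3 * (x + y) + vFact (x + y)) := by positivity
  generalize 2 ^ (3 * x + vFact x) = A at hAB h
  generalize 2 ^ (3 * y + vFact y) = B at hAB h
  generalize 2 ^ (3 * (x + y) + vFact (x + y)) = C at hAB h hC
  obtain ⟨hij, rfl | rfl⟩ := hij
  · obtain rfl : j = 2 := by omega
    simp at h; nlinarith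
  · obtain rfl : j = 1 := by omega
    simp at h; nlinarith

theorem vFact_values : vFact 4 = 3 ∧ vFact 5 = 3 ∧ vFact 6 = 4 ∧ vFact 7 = 4 ∧ vFact 8 = 7 ∧ vFact 9 = 7 ∧
    vFact 10 = 8 ∧ vFact 11 = 8 ∧ vFact 12 = 10 ∧ vFact 13 = 10 ∧ vFact 14 = 11 ∧ vFact 15 = 11 ∧
    vFact 18 = 16 := by
  obtain ⟨h0, h1, h2, h3⟩ := vFact_small
  have h4 := vFact_mul_four 1 0 (by norm_num)
  have h5 := vFact_mul_four 1 1 (by norm_num)
  have h6 := vFact_mul_four 1 2 (by norm_num)
  have h7 := vFact_mul_four 1 3 (by norm_num)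
  have h8 := vFact_mul_four 2 0 (by norm_num)
  have h9 := vFact_mul_four 2 1 (by norm_num)
  have h10 := vFact_mul_four 2 2 (by norm_num)
  have h11 := vFact_mul_four 2 3 (by norm_num)
  have h12 := vFact_mul_four 3 0 (by norm_num)
  have h13 := vFact_mul_four 3 1 (by norm_num)
  have h14 := vFact_mul_four 3 2 (by norm_num)
  have h15 := vFact_mul_four 3 3 (by norm_num)
  have h18 := vFact_mul_four 4 2 (by norm_num)
  simp only [h1, h2, h3] at *
  norm_num at *
  omega

theorem nilpAlt_exc_mul : ∀ a ∈ [1, 3, 5, 6, 9], ∀ b ∈ [1, 3, 5, 6, 9],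
    nilpAlt a * nilpAlt b ≤ nilpAlt (a + b) ∧
    ((a + b) % 4 = 3 → nilpAlt (a + b) ≤ nilpAlt a * nilpAlt b → a = 3 ∨ b = 3) := by
  obtain ⟨h0, h1, h2, h3⟩ := vFact_small
  obtain ⟨h4, h5, h6, h7, h8, h9, h10, h11, h12, h13, h14, h15, h18⟩ := vFact_values
  intro a ha b hb
  fin_cases ha <;> fin_cases hb <;>
    simp [nilpAlt, nilpSym, h1, h2, h3, h4, h6, h8, h10, h12, h14, h18]

theorem nilpAlt_le_nilpSym (n : ℕ) : nilpAlt n ≤ nilpSym n := by
  obtain ⟨h0, h1, -, -⟩ := vFact_small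
  obtain ⟨-, h5, h6, -, -, h9, -⟩ := vFact_values
  unfold nilpAlt
  split_ifs <;> first
    | exact Nat.div_le_self _ _
    | (subst_vars; simp [nilpSym, h0, h1, h5, h6, h9])

theorem nilpAlt_eq_half {n : ℕ} (hn : n ∉ nilpExc) : nilpAlt n = nilpSym n / 2 := by
  simp only [nilpExc, List.mem_cons, List.not_mem_nil, or_false, not_or] at hn
  simp [nilpAlt, hn.1, hn.2.1, hn.2.2.1, hn.2.2.2.1, hn.2.2.2.2.1, hn.2.2.2.2.2]

theorem two_dvd_nilpSym {n : ℕ} (hn : 2 ≤ n) (h3 : n ≠ 3) : 2 ∣ nilpSym n := by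
  obtain ⟨x, i, hi, rfl⟩ : ∃ x i, i < 4 ∧ n = 4 * x + i := ⟨n / 4, n % 4, Nat.mod_lt _ (by norm_num), by omega⟩
  rw [nilpSym_four x i hi]
  rcases Nat.eq_zero_or_pos x with rfl | hx
  · have : i = 2 := by omega
    simp [this, vFact]
  · exact dvd_mul_of_dvd_left (dvd_pow_self 2 (by omega)) _

/-- One even component and one arbitrary component. -/
theorem half_mul_le {a b : ℕ} (A B : ℕ) (hA : A ≤ nilpSym a) (hB : B ≤ nilpSym b) (N : ℕ) (hN : 2 * N ≤ A * B)
    (hab : 2 ≤ a + b) : N ≤ nilpAlt (a + b) ∧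
      ((a + b) % 4 = 3 → 7 ≤ a + b → nilpAlt (a + b) ≤ N →
        (a % 4 = 3 ∧ A = nilpSym a) ∨ (b % 4 = 3 ∧ B = nilpSym b)) := by
  have hmul := nilpSym_mul a b
  have hAB : A * B ≤ nilpSym a * nilpSym b := Nat.mul_le_mul hA hB
  by_cases hex : a + b ∈ nilpExc
  · refine ⟨?_, fun h4 h7 _ => ?_⟩
    · obtain ⟨h0, h1, h2, h3⟩ := vFact_small
      obtain ⟨-, h5, h6, -, -, h9, -⟩ := vFact_values
      have e3 : nilpSym 3 = 3 ∧ nilpAlt 3 = 3 := by simp [nilpSym, nilpAlt, h0]
      have e5 : nilpSym 5 = 8 ∧ nilpAlt 5 = 5 := by simp [nilpSym, nilpAlt, h5]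
      have e6 : nilpSym 6 = 16 ∧ nilpAlt 6 = 9 := by simp [nilpSym, nilpAlt, h6]
      have e9 : nilpSym 9 = 128 ∧ nilpAlt 9 = 81 := by simp [nilpSym, nilpAlt, h9]
      simp only [nilpExc, List.mem_cons, List.not_mem_nil, or_false] at hex
      rcases hex with h | h | h | h | h | h
      · omega
      · omega
      all_goals
        rw [h] at hmul ⊢
        omega
    · simp only [nilpExc, List.mem_cons, List.not_mem_nil, or_false] at hex
      omega
  · rw [nilpAlt_eq_half hex]
    refine ⟨by omega, fun h4 h7 hge => ?_⟩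
    obtain ⟨c, hc⟩ := two_dvd_nilpSym hab (by omega)
    rw [hc] at hge hmul
    have heq : A * B = nilpSym a * nilpSym b := by omega
    have hA' : A = nilpSym a ∧ B = nilpSym b := by
      have := nilpSym_pos a; have := nilpSym_pos b
      constructor <;> nlinarith
    rcases nilpSym_mul_eq a b h4 (by omega) with h | h
    · exact Or.inl ⟨h, hA'.1⟩
    · exact Or.inr ⟨h, hA'.2⟩

theorem exc_not_mem_iff {n : ℕ} : n ∉ nilpExc ↔ n ≠ 0 ∧ n ≠ 1 ∧ n ≠ 3 ∧ n ≠ 5 ∧ n ≠ 6 ∧ n ≠ 9 := by
  simp [nilpExc]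

/-- Two even components. -/
theorem nilpAlt_mul (a b : ℕ) (ha : 0 < a) (hb : 0 < b) :
    nilpAlt a * nilpAlt b ≤ nilpAlt (a + b) ∧
      ((a + b) % 4 = 3 → 7 ≤ a + b → nilpAlt (a + b) ≤ nilpAlt a * nilpAlt b → a = 3 ∨ b = 3) := by
  by_cases hae : a ∈ nilpExc <;> by_cases hbe : b ∈ nilpExc
  · have mem : ∀ {c : ℕ}, c ∈ nilpExc → 0 < c → c ∈ [1, 3, 5, 6, 9] := fun hc hpos => by
      simp only [nilpExc, List.mem_cons, List.not_mem_nil, or_false] at hc ⊢
      omega
    obtain ⟨h1, h2⟩ := nilpAlt_exc_mul a (mem hae ha) b (mem hbe hb)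
    exact ⟨h1, fun h4 _ h => h2 h4 h⟩
  all_goals
    have h2 : 2 ∣ nilpSym a ∨ 2 ∣ nilpSym b := by
      first
        | (obtain ⟨_, _, _, _⟩ := exc_not_mem_iff.mp hae; exact Or.inl (two_dvd_nilpSym (by omega) (by omega)))
        | (obtain ⟨_, _, _, _⟩ := exc_not_mem_iff.mp hbe; exact Or.inr (two_dvd_nilpSym (by omega) (by omega)))
  · have hev := two_dvd_nilpSym (n := b) (by have := exc_not_mem_iff.mp hbe; omega) (by have := exc_not_mem_iff.mp hbe; omega)
    rw [nilpAlt_eq_half hbe]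
    obtain ⟨c, hc⟩ := hev
    have hle := nilpAlt_le_nilpSym a
    obtain ⟨h1, h3⟩ := half_mul_le (nilpAlt a) (nilpSym b) hle le_rfl (nilpAlt a * (nilpSym b / 2))
      (by rw [hc]; simp; ring_nf; rfl) (by omega)
    refine ⟨h1, fun h4 h7 h => ?_⟩
    rcases h3 h4 h7 h with ⟨ha4, hA⟩ | ⟨hb4, -⟩
    · left
      obtain ⟨g0, g1, g2, g3⟩ := vFact_small
      obtain ⟨-, g5, g6, -, -, g9, -⟩ := vFact_values
      simp only [nilpExc, List.mem_cons, List.not_mem_nil, or_false] at hae
      omega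
    · have := exc_not_mem_iff.mp hbe
      exfalso
      have ha4 : a % 4 = 0 := by omega
      simp only [nilpExc, List.mem_cons, List.not_mem_nil, or_false] at hae
      omega
  · have hev := two_dvd_nilpSym (n := a) (by have := exc_not_mem_iff.mp hae; omega) (by have := exc_not_mem_iff.mp hae; omega)
    rw [nilpAlt_eq_half hae]
    obtain ⟨c, hc⟩ := hev
    have hle := nilpAlt_le_nilpSym b
    obtain ⟨h1, h3⟩ := half_mul_le (nilpSym a) (nilpAlt b) le_rfl hle (nilpSym a / 2 * nilpAlt b)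
      (by rw [hc]; simp; ring_nf; rfl) (by omega)
    refine ⟨h1, fun h4 h7 h => ?_⟩
    rcases h3 h4 h7 h with ⟨ha4, -⟩ | ⟨hb4, -⟩
    · exfalso
      have hb4 : b % 4 = 0 := by omega
      simp only [nilpExc, List.mem_cons, List.not_mem_nil, or_false] at hbe
      omega
    · right
      simp only [nilpExc, List.mem_cons, List.not_mem_nil, or_false] at hbe
      omega
  · rw [nilpAlt_eq_half hae, nilpAlt_eq_half hbe]
    have hA := exc_not_mem_iff.mp hae
    have hB := exc_not_mem_iff.mp hbe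
    obtain ⟨c, hc⟩ := two_dvd_nilpSym (n := a) (by omega) (by omega)
    obtain ⟨d, hd⟩ := two_dvd_nilpSym (n := b) (by omega) (by omega)
    have hmul := nilpSym_mul a b
    have hpos : 0 < c * d := by
      have := nilpSym_pos a; have := nilpSym_pos b
      exact Nat.mul_pos (by omega) (by omega)
    have e : nilpSym a / 2 * (nilpSym b / 2) = c * d := by rw [hc, hd]; simp
    have e2 : nilpSym a * nilpSym b = 4 * (c * d) := by rw [hc, hd]; ring
    have hn : nilpSym (a + b) / 2 ≤ nilpAlt (a + b) := by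
      by_cases h : a + b ∈ nilpExc
      · simp only [nilpExc, List.mem_cons, List.not_mem_nil, or_false] at h
        obtain ⟨g0, g1, g2, g3⟩ := vFact_small
        obtain ⟨-, g5, g6, -, -, g9, -⟩ := vFact_values
        rcases h with h | h | h | h | h | h <;> simp [h, nilpSym, nilpAlt, g0, g1, g5, g6, g9]
      · rw [nilpAlt_eq_half h]
    rw [e]
    refine ⟨by omega, fun h4 h7 h => ?_⟩
    exfalso
    omega

section transitive

theorem exp_prime_pow {p : ℕ} (hp : p.Prime) (k : ℕ) :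
    (p - 1) * padicValNat p (p ^ k).factorial = p ^ k - 1 := by
  haveI := Fact.mk hp
  rw [sub_one_mul_padicValNat_factorial]
  congr 1
  have := Nat.digits_base_pow_mul hp.one_lt (k := k) (m := 1) one_pos
  rw [mul_one] at this
  rw [this, Nat.digits_of_lt _ 1 one_ne_zero hp.one_lt]
  simp

theorem sq_le_three_pow : ∀ p : ℕ, 3 ≤ p → p ^ 2 ≤ 3 ^ (p - 1) := by
  intro p hp
  induction p, hp using Nat.le_induction with
  | base => norm_num
  | succ p hp ih =>
    calc (p + 1) ^ 2 ≤ 3 * p ^ 2 := by nlinarith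
      _ ≤ 3 * 3 ^ (p - 1) := Nat.mul_le_mul_left 3 ih
      _ = 3 ^ (p + 1 - 1) := by rw [← pow_succ']; congr 1; omega

theorem term_sq_le {p : ℕ} (hp : p.Prime) (hp2 : p ≠ 2) (k : ℕ) :
    (p ^ padicValNat p (p ^ k).factorial) ^ 2 ≤ 3 ^ (p ^ k - 1) := by
  have h3 : 3 ≤ p := by have := hp.two_le; omega
  rw [← exp_prime_pow hp k, ← pow_mul, mul_comm _ 2, pow_mul, pow_mul]
  exact Nat.pow_le_pow_left (sq_le_three_pow p h3) _

theorem prod_term_sq_le (f : ℕ → ℕ) : ∀ S : Finset ℕ, (∀ p ∈ S, p.Prime ∧ p ≠ 2) →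
    (∏ p ∈ S, p ^ padicValNat p (p ^ f p).factorial) ^ 2 ≤ 3 ^ ((∏ p ∈ S, p ^ f p) - 1) := by
  intro S
  induction S using Finset.induction_on with
  | empty => simp
  | insert q S hq ih =>
    intro h
    rw [Finset.prod_insert hq, Finset.prod_insert hq, mul_pow]
    obtain ⟨hqp, hq2⟩ := h q (Finset.mem_insert_self _ _)
    refine le_trans (Nat.mul_le_mul (term_sq_le hqp hq2 _) (ih fun p hp => h p (Finset.mem_insert_of_mem hp))) ?_
    rw [← pow_add]
    refine Nat.pow_le_pow_right (by norm_num) ?_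
    have h1 : 0 < q ^ f q := pow_pos hqp.pos _
    have h2 : 0 < ∏ p ∈ S, p ^ f p :=
      Finset.prod_pos fun p hp => pow_pos (h p (Finset.mem_insert_of_mem hp)).1.pos _
    generalize q ^ f q = u at h1 ⊢
    generalize ∏ p ∈ S, p ^ f p = v at h2 ⊢
    obtain ⟨u, rfl⟩ := Nat.exists_eq_add_of_le' h1
    obtain ⟨v, rfl⟩ := Nat.exists_eq_add_of_le' h2
    simp [add_mul, mul_add]
    omega

theorem prod_prime_pow_eq {n : ℕ} (hn : n ≠ 0) : ∏ p ∈ n.primeFactors, p ^ n.factorization p = n :=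
  Nat.prod_factorization_pow_eq_self hn

theorem transBound_odd_sq {m : ℕ} (hm : Odd m) : transBound m ^ 2 ≤ 3 ^ (m - 1) := by
  have h := prod_term_sq_le m.factorization m.primeFactors (fun p hp => ⟨Nat.prime_of_mem_primeFactors hp, by
    rintro rfl
    exact (Nat.not_even_iff_odd.mpr hm) (even_iff_two_dvd.mpr (Nat.dvd_of_mem_primeFactors hp))⟩)
  rwa [prod_prime_pow_eq (Nat.ne_of_odd_add (m := m) (n := 0) (by simpa using hm))] at h

theorem transBound_even {k m : ℕ} (hk : 0 < k) (hm : Odd m) :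
    transBound (2 ^ k * m) = 2 ^ vFact (2 ^ k) * transBound m := by
  have hm0 : m ≠ 0 := by rintro rfl; simp at hm
  have hcop : Nat.Coprime (2 ^ k) m := by
    apply Nat.Coprime.pow_left
    exact (Nat.prime_two.coprime_iff_not_dvd).mpr (fun h => Nat.not_even_iff_odd.mpr hm (even_iff_two_dvd.mpr h))
  unfold transBound
  rw [Nat.Coprime.primeFactors_mul hcop, Finset.prod_union hcop.disjoint_primeFactors,
    Nat.primeFactors_prime_pow hk.ne' Nat.prime_two, Finset.prod_singleton]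
  have h2m : m.factorization 2 = 0 := Nat.factorization_eq_zero_of_not_dvd
    (fun h => Nat.not_even_iff_odd.mpr hm (even_iff_two_dvd.mpr h))
  congr 1
  · rw [Nat.factorization_mul (by positivity) hm0, Finsupp.add_apply,
      Nat.prime_two.factorization_pow, Finsupp.single_eq_same, h2m, add_zero]
    rfl
  · refine Finset.prod_congr rfl fun p hp => ?_
    have hp2 : p ≠ 2 := by
      rintro rfl
      exact Nat.not_even_iff_odd.mpr hm (even_iff_two_dvd.mpr (Nat.dvd_of_mem_primeFactors hp))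
    rw [Nat.factorization_mul (by positivity) hm0, Finsupp.add_apply,
      Nat.prime_two.factorization_pow, Finsupp.single_eq_of_ne hp2, zero_add]

theorem transBound_two_pow (k : ℕ) : transBound (2 ^ k) = 2 ^ vFact (2 ^ k) := by
  rcases Nat.eq_zero_or_pos k with rfl | hk
  · simp [transBound, vFact_small.2.1]
  · have := transBound_even hk (m := 1) odd_one
    rw [mul_one] at this
    simpa [transBound] using this

theorem three_pow_lt_aux : ∀ h, 8 ≤ h → 2 * 3 ^ h ≤ 2 ^ (h + vFact h) := by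
  intro h
  induction h using Nat.strong_induction_on with
  | _ h ih =>
    intro h8
    rcases Nat.lt_or_ge h 16 with hlt | hge
    · obtain ⟨-, -, -, -, e8, e9, e10, e11, e12, e13, e14, e15, -⟩ := vFact_values
      interval_cases h <;> simp [e8, e9, e10, e11, e12, e13, e14, e15]
    · obtain ⟨k, rfl⟩ := Nat.exists_eq_add_of_le' (show 8 ≤ h by omega)
      have h1 := vFact_add k 8
      rw [(vFact_values).2.2.2.2.1] at h1
      calc 2 * 3 ^ (k + 8) = 3 ^ 8 * (2 * 3 ^ k) := by ring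
        _ ≤ 2 ^ 15 * 2 ^ (k + vFact k) := Nat.mul_le_mul (by norm_num) (ih k (by omega) (by omega))
        _ = 2 ^ (15 + (k + vFact k)) := by rw [← pow_add]
        _ ≤ 2 ^ (k + 8 + vFact (k + 8)) := Nat.pow_le_pow_right two_pos (by omega)

theorem transBound_prime {p : ℕ} (hp : p.Prime) : transBound p = p := by
  haveI := Fact.mk hp
  have h1 : padicValNat p p.factorial = 1 := by
    have h := exp_prime_pow hp 1
    rw [pow_one] at h
    have := hp.two_le
    exact Nat.eq_of_mul_eq_mul_left (show 0 < p - 1 by omega) (h.trans (mul_one _).symm)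
  simp [transBound, hp.primeFactors, hp.factorization, h1]

theorem transBound_small :
    transBound 5 = 5 ∧ transBound 6 = 6 ∧ transBound 9 = 81 ∧ transBound 3 = 3 ∧ transBound 7 = 7 ∧
      transBound 11 = 11 ∧ transBound 13 = 13 ∧ transBound 15 = 15 ∧ transBound 0 = 1 ∧ transBound 1 = 1 := by
  have hv : ∀ {p : ℕ}, p.Prime → padicValNat p (p ^ 1).factorial = 1 := fun {p} hp => by
    have h := exp_prime_pow hp 1
    have := hp.two_le
    rw [pow_one] at h ⊢
    exact Nat.eq_of_mul_eq_mul_left (show 0 < p - 1 by omega) (h.trans (mul_one _).symm)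
  refine ⟨transBound_prime Nat.prime_five, ?_, ?_, transBound_prime Nat.prime_three,
    transBound_prime (by norm_num), transBound_prime (by norm_num), transBound_prime (by norm_num), ?_,
    by simp [transBound], by simp [transBound]⟩
  · rw [show (6 : ℕ) = 2 ^ 1 * 3 from rfl, transBound_even one_pos (by decide),
      transBound_prime Nat.prime_three, pow_one, vFact_small.2.2.1]
    rfl
  · rw [show (9 : ℕ) = 3 ^ 2 from rfl]
    have h := exp_prime_pow Nat.prime_three 2
    have h4 : padicValNat 3 ((3 : ℕ) ^ 2).factorial = 4 := by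
      revert h
      generalize padicValNat 3 ((3 : ℕ) ^ 2).factorial = v
      intro h
      norm_num at h
      omega
    rw [transBound, Nat.primeFactors_prime_pow two_ne_zero Nat.prime_three, Finset.prod_singleton,
      Nat.prime_three.factorization_pow, Finsupp.single_eq_same, h4]
    norm_num
  · have hf : Nat.primeFactors 15 = {3, 5} := by
      rw [show (15 : ℕ) = 3 * 5 from rfl, Nat.primeFactors_mul (by norm_num) (by norm_num),
        Nat.prime_three.primeFactors, Nat.prime_five.primeFactors]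
      rfl
    have h3 : (15 : ℕ).factorization 3 = 1 ∧ (15 : ℕ).factorization 5 = 1 := by
      rw [show (15 : ℕ) = 3 * 5 from rfl, Nat.factorization_mul (by norm_num) (by norm_num),
        Nat.prime_three.factorization, Nat.prime_five.factorization]
      simp
    rw [transBound, hf, Finset.prod_pair (by norm_num), h3.1, h3.2, hv Nat.prime_three, hv Nat.prime_five]
    rfl

/-- Away from the exceptions and from powers of two, a transitive nilpotent group has at most half
the order of a Sylow 2-subgroup. -/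
theorem two_mul_transBound_le {n : ℕ} (hn : n ∉ nilpExc) (h2 : ¬ ∃ k, n = 2 ^ k) :
    2 * transBound n ≤ 2 ^ vFact n := by
  obtain ⟨hn0, hn1, hn3, hn5, hn6, hn9⟩ := exc_not_mem_iff.mp hn
  obtain ⟨k, m, hm, rfl⟩ := Nat.exists_eq_two_pow_mul_odd hn0
  have hm1 : 3 ≤ m := by
    rcases Nat.lt_or_ge m 3 with h | h
    · obtain rfl : m = 1 := by rcases hm with ⟨c, hc⟩; omega
      exact absurd ⟨k, mul_one _⟩ h2
    · exact h
  rcases Nat.eq_zero_or_pos k with rfl | hk
  · simp only [pow_zero, one_mul] at *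
    obtain ⟨-, -, -, e7, -, -, -, e11, -, e13, -, e15, -⟩ := vFact_values
    obtain ⟨-, -, -, -, b7, b11, b13, b15, -, -⟩ := transBound_small
    rcases Nat.lt_or_ge m 17 with hlt | hge
    · rcases hm with ⟨c, hc⟩
      have : m = 7 ∨ m = 11 ∨ m = 13 ∨ m = 15 := by omega
      rcases this with h | h | h | h <;> rw [h] <;> simp [e7, e11, e13, e15, b7, b11, b13, b15]
    · obtain ⟨h, rfl⟩ := hm
      haveI := Fact.mk Nat.prime_two
      have hsq := transBound_odd_sq (m := 2 * h + 1) ⟨h, rfl⟩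
      rw [Nat.add_sub_cancel, mul_comm 2 h, pow_mul] at hsq
      have hle : transBound (h * 2 + 1) ≤ 3 ^ h := (Nat.pow_le_pow_iff_left two_ne_zero).mp hsq
      rw [mul_comm 2 h]
      refine le_trans (Nat.mul_le_mul_left 2 hle) ((three_pow_lt_aux h (by omega)).trans ?_)
      refine Nat.pow_le_pow_right two_pos (le_of_eq ?_)
      unfold vFact
      rw [mul_comm h 2, padicValNat_factorial_mul_add _ (by norm_num), padicValNat_factorial_mul, add_comm]
  · rw [transBound_even hk hm]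
    have hsq := transBound_odd_sq hm
    have hTm : transBound m ≤ 2 ^ (m - 1) := by
      refine (Nat.pow_le_pow_iff_left two_ne_zero).mp (hsq.trans ?_)
      rw [← pow_mul, mul_comm, pow_mul]
      exact Nat.pow_le_pow_left (by norm_num) _
    have hA : vFact (2 ^ k) = 2 ^ k - 1 := by
      simpa [vFact] using exp_prime_pow Nat.prime_two k
    have hk2 : 2 ≤ 2 ^ k := Nat.le_self_pow hk.ne' 2
    obtain ⟨x, i, hi, hx⟩ : ∃ x i, i < 4 ∧ 2 ^ k * m = 4 * x + i :=
      ⟨2 ^ k * m / 4, 2 ^ k * m % 4, Nat.mod_lt _ (by norm_num), by omega⟩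
    have hieven : i = 0 ∨ i = 2 := by
      have : 2 ∣ 2 ^ k * m := dvd_mul_of_dvd_left (dvd_pow_self 2 hk.ne') m
      omega
    have hkey : 2 * (2 ^ k + m) ≤ 2 ^ k * m + 4 := by
      obtain ⟨u, hu⟩ := Nat.exists_eq_add_of_le' hk2
      obtain ⟨w, hw⟩ := Nat.exists_eq_add_of_le' (show 2 ≤ m by omega)
      rw [hu, hw]; ring_nf; omega
    refine le_trans (Nat.mul_le_mul_left 2 (Nat.mul_le_mul_left _ hTm)) ?_
    rw [← pow_add, ← pow_succ', hA]
    refine Nat.pow_le_pow_right two_pos ?_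
    rw [hx, vFact_mul_four x i hi]
    omega

theorem transBound_le_nilpSym (n : ℕ) : transBound n ≤ nilpSym n ∧
    (n % 4 = 3 → n ≠ 3 → transBound n < nilpSym n) := by
  have hW : 2 ^ vFact n ≤ nilpSym n := by
    obtain ⟨x, i, hi, rfl⟩ : ∃ x i, i < 4 ∧ n = 4 * x + i := ⟨n / 4, n % 4, Nat.mod_lt _ (by norm_num), by omega⟩
    rw [nilpSym_four x i hi, vFact_mul_four x i hi, pow_add]
    refine Nat.mul_le_mul_left _ ?_
    interval_cases i <;> simp
  by_cases hn : n ∈ nilpExc
  · refine ⟨?_, fun h4 h3 => ?_⟩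
    · obtain ⟨t5, t6, t9, t3, -, -, -, -, t0, t1⟩ := transBound_small
      obtain ⟨g0, g1, g2, g3⟩ := vFact_small
      obtain ⟨-, g5, g6, -, -, g9, -⟩ := vFact_values
      simp only [nilpExc, List.mem_cons, List.not_mem_nil, or_false] at hn
      rcases hn with h | h | h | h | h | h <;> simp [h, t0, t1, t3, t5, t6, t9, nilpSym, g0, g1, g5, g6, g9]
    · simp only [nilpExc, List.mem_cons, List.not_mem_nil, or_false] at hn
      omega
  by_cases h2 : ∃ k, n = 2 ^ k
  · obtain ⟨k, rfl⟩ := h2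
    refine ⟨(transBound_two_pow k).trans_le hW, fun h4 _ => ?_⟩
    exfalso
    rcases Nat.lt_or_ge k 2 with hk | hk
    · interval_cases k <;> simp at h4
    · obtain ⟨c, hc⟩ : 4 ∣ 2 ^ k := pow_dvd_pow 2 hk
      omega
  · have h := two_mul_transBound_le hn h2
    refine ⟨by omega, fun _ _ => ?_⟩
    have : 0 < 2 ^ vFact n := by positivity
    omega

theorem transBound_le_nilpAlt {n : ℕ} (h2 : ¬ ∃ k, n = 2 ^ k) :
    transBound n ≤ nilpAlt n ∧ (n % 4 = 3 → 7 ≤ n → transBound n < nilpAlt n) := by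
  by_cases hn : n ∈ nilpExc
  · refine ⟨?_, fun h4 h7 => ?_⟩
    · obtain ⟨t5, t6, t9, t3, -, -, -, -, t0, t1⟩ := transBound_small
      simp only [nilpExc, List.mem_cons, List.not_mem_nil, or_false] at hn
      rcases hn with h | h | h | h | h | h <;> simp [h, t0, t1, t3, t5, t6, t9, nilpAlt]
    · simp only [nilpExc, List.mem_cons, List.not_mem_nil, or_false] at hn
      omega
  rw [nilpAlt_eq_half hn]
  have h := two_mul_transBound_le hn h2
  obtain ⟨x, i, hi, rfl⟩ : ∃ x i, i < 4 ∧ n = 4 * x + i := ⟨n / 4, n % 4, Nat.mod_lt _ (by norm_num), by omega⟩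
  rw [nilpSym_four x i hi]
  rw [vFact_mul_four x i hi, pow_add] at h
  have hpos : 1 ≤ x → 2 ≤ 2 ^ (3 * x + vFact x) := fun hx => Nat.le_self_pow (by omega) 2
  refine ⟨?_, fun h4 h7 => ?_⟩
  · interval_cases i <;> simp at h ⊢ <;> omega
  · obtain rfl : i = 3 := by omega
    obtain ⟨c, hc⟩ : 2 ∣ 2 ^ (3 * x + vFact x) := dvd_pow_self 2 (by omega)
    have := hpos (by omega)
    simp at h ⊢
    omega

end transitive

end H63
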