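import Mathlib
import Cfsg.Agent.H63.NilpotentArith

/-!
Orders of nilpotent permutation groups.
-/

set_option autoImplicit false
set_option linter.style.haveILetI false
set_option linter.unusedSectionVars false

namespace H63

open Equiv Equiv.Perm

universe u

variable {α : Type u}

/-- An invariant predicate. -/
def Inv (N : Subgroup (Perm α)) (p : α → Prop) : Prop := ∀ g ∈ N, ∀ x, p (g x) ↔ p x

theorem Inv.not {N : Subgroup (Perm α)} {p : α → Prop} (h : Inv N p) : Inv N (fun x => ¬ p x) :=
  fun g hg x => not_congr (h g hg x)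

/-- Restriction to an invariant set, as a homomorphism. -/
def restrHom (N : Subgroup (Perm α)) (p : α → Prop) (h : Inv N p) : N →* Perm {x // p x} where
  toFun g := (g : Perm α).subtypePerm (h g g.2)
  map_one' := Equiv.ext fun _ => rfl
  map_mul' _ _ := Equiv.ext fun _ => rfl

/-- The restriction of a permutation group to an invariant set. -/
def restr (N : Subgroup (Perm α)) (p : α → Prop) (h : Inv N p) : Subgroup (Perm {x // p x}) :=
  (restrHom N p h).range

theorem restr_isNilpotent {N : Subgroup (Perm α)} (hN : Group.IsNilpotent N) (p : α → Prop) (h : Inv N p) :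
    Group.IsNilpotent (restr N p h) :=
  Group.nilpotent_of_surjective (restrHom N p h).rangeRestrict (restrHom N p h).rangeRestrict_surjective

theorem subtypeCongr_restr {N : Subgroup (Perm α)} (p : α → Prop) [DecidablePred p] (h : Inv N p) (g : N) :
    subtypeCongrHom p (restrHom N p h g, restrHom N (fun x => ¬ p x) h.not g) = (g : Perm α) := by
  ext x
  by_cases hx : p x <;>
    simp [subtypeCongrHom, Perm.subtypeCongr.apply, hx, restrHom, subtypePerm_apply]

theorem le_prod_restr {N : Subgroup (Perm α)} (p : α → Prop) [DecidablePred p] (h : Inv N p) :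
    N ≤ ((restr N p h).prod (restr N _ h.not)).map (subtypeCongrHom p) := fun g hg =>
  ⟨(restrHom N p h ⟨g, hg⟩, restrHom N _ h.not ⟨g, hg⟩), ⟨⟨_, rfl⟩, ⟨_, rfl⟩⟩, subtypeCongr_restr p h ⟨g, hg⟩⟩

variable [Fintype α] [DecidableEq α]

theorem card_prod_restr {N : Subgroup (Perm α)} (p : α → Prop) [DecidablePred p] (h : Inv N p) :
    Nat.card (((restr N p h).prod (restr N _ h.not)).map (subtypeCongrHom p)) =
      Nat.card (restr N p h) * Nat.card (restr N _ h.not) := by
  rw [Subgroup.card_map_of_injective (subtypeCongrHom_injective p),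
    Nat.card_congr ((restr N p h).prodEquiv _).toEquiv, Nat.card_prod]

theorem card_le_mul {N : Subgroup (Perm α)} (p : α → Prop) [DecidablePred p] (h : Inv N p) :
    Nat.card N ≤ Nat.card (restr N p h) * Nat.card (restr N _ h.not) :=
  (Subgroup.card_le_of_le (le_prod_restr p h)).trans (card_prod_restr p h).le

theorem sign_restr_mul {N : Subgroup (Perm α)} (p : α → Prop) [DecidablePred p] (h : Inv N p) (g : N) :
    sign (restrHom N p h g) * sign (restrHom N _ h.not g) = sign (g : Perm α) := by
  conv_rhs => rw [← subtypeCongr_restr p h g]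
  exact (sign_subtypeCongr _ _).symm

theorem two_mul_card_le {N : Subgroup (Perm α)} (hev : N ≤ alternatingGroup α) (p : α → Prop) [DecidablePred p]
    (h : Inv N p) (hodd : ¬ restr N p h ≤ alternatingGroup _) :
    2 * Nat.card N ≤ Nat.card (restr N p h) * Nat.card (restr N _ h.not) := by
  rw [← card_prod_restr p h]
  have hle := le_prod_restr p h
  obtain ⟨c, hc⟩ := Subgroup.card_dvd_of_le hle
  have hlt : Nat.card N < Nat.card (((restr N p h).prod (restr N _ h.not)).map (subtypeCongrHom p)) := by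
    refine lt_of_le_of_ne (Subgroup.card_le_of_le hle) fun he => ?_
    obtain ⟨a, ha, hao⟩ := SetLike.not_le_iff_exists.mp hodd
    have hmem : subtypeCongrHom p (a, 1) ∈ N := by
      rw [Subgroup.eq_of_le_of_card_ge hle he.ge]
      exact ⟨(a, 1), ⟨ha, one_mem _⟩, rfl⟩
    have h1 : sign (subtypeCongrHom p (a, 1)) = 1 := hev hmem
    rw [show subtypeCongrHom p (a, 1) = a.subtypeCongr 1 from rfl, sign_subtypeCongr, map_one, mul_one] at h1
    exact hao h1
  rcases c with _ | _ | c
  · rw [Nat.mul_zero] at hc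
    omega
  · rw [Nat.zero_add, Nat.mul_one] at hc
    omega
  · rw [hc]; nlinarith

theorem card_subtype_not (p : α → Prop) [DecidablePred p] :
    Fintype.card {x // ¬ p x} + Fintype.card {x // p x} = Fintype.card α := by
  have := Fintype.card_subtype_compl p
  have := Fintype.card_subtype_le p
  omega

omit [Fintype α] [DecidableEq α] in
/-- An invariant set of the restriction gives one of the whole group. -/
theorem lift_invariant {N : Subgroup (Perm α)} (p : α → Prop) (h : Inv N p) (q : {x // p x} → Prop)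
    (hq : Inv (restr N p h) q) :
    ∃ q' : α → Prop, Inv N q' ∧ Nat.card {x // q' x} = Nat.card {x // q x} := by
  refine ⟨fun x => ∃ hx : p x, q ⟨x, hx⟩, ?_, ?_⟩
  · intro g hg x
    constructor
    · rintro ⟨hgx, hq'⟩
      have hx := (h g hg x).mp hgx
      exact ⟨hx, (hq _ ⟨⟨g, hg⟩, rfl⟩ ⟨x, hx⟩).mp hq'⟩
    · rintro ⟨hx, hq'⟩
      exact ⟨(h g hg x).mpr hx, (hq _ ⟨⟨g, hg⟩, rfl⟩ ⟨x, hx⟩).mpr hq'⟩
  · refine Nat.card_congr
      { toFun := fun x => ⟨⟨x.1, x.2.1⟩, x.2.2⟩
        invFun := fun y => ⟨y.1.1, y.1.2, y.2⟩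
        left_inv := fun _ => rfl
        right_inv := fun _ => rfl }

theorem exists_invariant_of_not_transitive {N : Subgroup (Perm α)}
    (h : ¬ ∀ a b : α, ∃ g ∈ N, g a = b) :
    ∃ p : α → Prop, Inv N p ∧ (∃ x, p x) ∧ ∃ x, ¬ p x := by
  push Not at h
  obtain ⟨a, b, hab⟩ := h
  refine ⟨fun x => ∃ g ∈ N, g a = x, fun g hg x => ?_, ⟨a, 1, N.one_mem, rfl⟩,
    ⟨b, fun ⟨g, hg, hgb⟩ => hab g hg hgb⟩⟩
  constructor
  · rintro ⟨k, hk, hkx⟩
    exact ⟨g⁻¹ * k, N.mul_mem (N.inv_mem hg) hk, by simp [Perm.mul_apply, hkx]⟩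
  · rintro ⟨k, hk, hkx⟩
    exact ⟨g * k, N.mul_mem hg hk, by simp [Perm.mul_apply, hkx]⟩

/-- Elements of a nilpotent finite group split as (centralizer of the Sylow `p`) times (Sylow `p`). -/
theorem exists_centralizer_mul {G : Type*} [Group G] [Finite G] (hG : Group.IsNilpotent G) {p : ℕ}
    [Fact p.Prime] (P : Sylow p G) (h : G) :
    ∃ c ∈ Subgroup.centralizer ((P : Subgroup G) : Set G), ∃ x ∈ (P : Subgroup G), h = c * x := by
  haveI := hG
  haveI hPn : (P : Subgroup G).Normal := inferInstance
  set C := Subgroup.centralizer ((P : Subgroup G) : Set G)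
  have hidx : (C ⊔ (P : Subgroup G)).index = 1 := by
    by_contra hne
    obtain ⟨q, hq, hdvd⟩ := Nat.exists_prime_and_dvd hne
    haveI := Fact.mk hq
    rcases eq_or_ne q p with rfl | hqp
    · exact P.not_dvd_index (hdvd.trans (Subgroup.index_dvd_of_le le_sup_right))
    · obtain ⟨Q⟩ : Nonempty (Sylow q G) := inferInstance
      haveI hQn : (Q : Subgroup G).Normal := inferInstance
      have hdisj : Disjoint (Q : Subgroup G) (P : Subgroup G) :=
        IsPGroup.disjoint_of_ne q p hqp _ _ Q.isPGroup' P.isPGroup'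
      have hQC : (Q : Subgroup G) ≤ C := fun x hx => Subgroup.mem_centralizer_iff.mpr fun y hy =>
        (Subgroup.commute_of_normal_of_disjoint _ _ hQn hPn hdisj x y hx hy).eq.symm
      exact Q.not_dvd_index (hdvd.trans (Subgroup.index_dvd_of_le (le_sup_of_le_left hQC)))
  have hmem : h ∈ C ⊔ (P : Subgroup G) := Subgroup.index_eq_one.mp hidx ▸ Subgroup.mem_top h
  obtain ⟨c, hc, x, hx, hcx⟩ := Subgroup.mem_sup_of_normal_right.mp hmem
  exact ⟨c, hc, x, hx, hcx.symm⟩

/-- A transitive nilpotent group of degree `n` has order at most `transBound n`. -/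
theorem card_le_transBound {N : Subgroup (Perm α)} (hN : Group.IsNilpotent N)
    (htr : ∀ a b : α, ∃ g ∈ N, g a = b) : Nat.card N ≤ transBound (Fintype.card α) := by
  classical
  set n := Fintype.card α with hn
  rcases Nat.eq_zero_or_pos n with h0 | hpos
  · haveI : IsEmpty α := Fintype.card_eq_zero_iff.mp h0
    have : Nat.card N = 1 := Nat.card_eq_one_iff_unique.mpr ⟨inferInstance, inferInstance⟩
    rw [this, h0]
    simp [transBound]
  haveI : MulAction.IsPretransitive N α := ⟨fun a b => by
    obtain ⟨g, hg, hgb⟩ := htr a b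
    exact ⟨⟨g, hg⟩, hgb⟩⟩
  obtain ⟨a⟩ : Nonempty α := Fintype.card_pos_iff.mp hpos
  have hexp : ∀ p : ℕ, p.Prime →
      (Nat.card N).factorization p ≤ padicValNat p (p ^ n.factorization p).factorial := by
    intro p hp
    haveI := Fact.mk hp
    obtain ⟨P⟩ : Nonempty (Sylow p N) := inferInstance
    haveI hPn : (P : Subgroup N).Normal := by haveI := hN; infer_instance
    -- the Sylow subgroup is faithful on its orbit through `a`
    let ρ : (P : Subgroup N) →* Perm (MulAction.orbit (P : Subgroup N) a) := MulAction.toPermHom _ _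
    have hρ : Function.Injective ρ := by
      rw [injective_iff_map_eq_one]
      intro g hg
      have hfix : ∀ x ∈ MulAction.orbit (P : Subgroup N) a, g • x = x := fun x hx =>
        congrArg Subtype.val (Equiv.ext_iff.mp hg ⟨x, hx⟩)
      apply Subtype.ext
      apply Subtype.ext
      ext b : 1
      obtain ⟨h, hh⟩ := MulAction.exists_smul_eq N a b
      obtain ⟨c, hc, x, hx, rfl⟩ := exists_centralizer_mul hN P h
      have hcg := Subgroup.mem_centralizer_iff.mp hc g g.2
      change g • b = b
      rw [← hh, mul_smul, Subgroup.smul_def, ← mul_smul, hcg, mul_smul, ← Subgroup.smul_def g]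
      exact congrArg (fun z => c • z) (hfix _ ⟨⟨x, hx⟩, rfl⟩)
    have horb : Nat.card (MulAction.orbit (P : Subgroup N) a) ∣ n := by
      rw [Nat.card_coe_set_eq, hn, ← Nat.card_eq_fintype_card]
      exact (MulAction.IsBlock.orbit_of_normal a).ncard_dvd_card (MulAction.nonempty_orbit a)
    obtain ⟨c, hc⟩ := P.isPGroup'.card_orbit a
    rw [hc] at horb
    have hcn : c ≤ n.factorization p := (hp.pow_dvd_iff_le_factorization hpos.ne').mp horb
    have hdiv : Nat.card (P : Subgroup N) ∣ (p ^ n.factorization p).factorial := by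
      refine (Subgroup.card_dvd_of_injective ρ hρ).trans ?_
      rw [Nat.card_perm, hc]
      exact Nat.factorial_dvd_factorial (Nat.pow_le_pow_right hp.pos hcn)
    rw [P.card_eq_multiplicity] at hdiv
    rw [← Nat.factorization_def _ hp]
    exact (hp.pow_dvd_iff_le_factorization (Nat.factorial_ne_zero _)).mp hdiv
  have hsub : (Nat.card N).primeFactors ⊆ n.primeFactors := by
    intro p hp
    have hpp := Nat.prime_of_mem_primeFactors hp
    rw [Nat.mem_primeFactors]
    refine ⟨hpp, ?_, hpos.ne'⟩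
    by_contra hndvd
    have h1 := hexp p hpp
    rw [Nat.factorization_eq_zero_of_not_dvd hndvd, pow_zero, Nat.factorial_one, padicValNat_one_right] at h1
    have h2 := hpp.factorization_pos_of_dvd Nat.card_pos.ne' (Nat.dvd_of_mem_primeFactors hp)
    omega
  calc Nat.card N = ∏ p ∈ (Nat.card N).primeFactors, p ^ (Nat.card N).factorization p :=
        (Nat.prod_factorization_pow_eq_self Nat.card_pos.ne').symm
    _ ≤ ∏ p ∈ (Nat.card N).primeFactors, p ^ padicValNat p (p ^ n.factorization p).factorial :=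
        Finset.prod_le_prod' fun p hp => Nat.pow_le_pow_right (Nat.prime_of_mem_primeFactors hp).pos
          (hexp p (Nat.prime_of_mem_primeFactors hp))
    _ ≤ transBound n := by
        refine Finset.prod_le_prod_of_subset_of_one_le' hsub fun p hp _ => ?_
        exact Nat.one_le_pow _ _ (Nat.prime_of_mem_primeFactors hp).pos

theorem isPGroup_of_two_pow {N : Subgroup (Perm α)} (hN : Group.IsNilpotent N)
    (htr : ∀ a b : α, ∃ g ∈ N, g a = b) {k : ℕ} (hk : Fintype.card α = 2 ^ k) :
    ∃ e : ℕ, Nat.card N = 2 ^ e := by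
  haveI : MulAction.IsPretransitive N α := ⟨fun a b => by
    obtain ⟨g, hg, hgb⟩ := htr a b
    exact ⟨⟨g, hg⟩, hgb⟩⟩
  refine ⟨_, Nat.eq_prime_pow_of_unique_prime_dvd Nat.card_pos.ne' fun {q} hq hqd => ?_⟩
  by_contra hne
  haveI := Fact.mk hq
  obtain ⟨P⟩ : Nonempty (Sylow q N) := inferInstance
  haveI hPn : (P : Subgroup N).Normal := by haveI := hN; infer_instance
  obtain ⟨a⟩ : Nonempty α := Fintype.card_pos_iff.mp (by rw [hk]; positivity)
  -- a fixed point of the normal `q`-subgroup is fixed by all of it, everywhere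
  obtain ⟨b, hb⟩ := P.isPGroup'.nonempty_fixed_point_of_prime_not_dvd_card α (by
    rw [Nat.card_eq_fintype_card, hk]
    exact fun h => hne ((Nat.prime_dvd_prime_iff_eq hq Nat.prime_two).mp (hq.dvd_of_dvd_pow h)))
  have hbot : (P : Subgroup N) = ⊥ := by
    rw [Subgroup.eq_bot_iff_forall]
    intro x hx
    apply Subtype.ext
    ext c : 1
    obtain ⟨h, rfl⟩ := MulAction.exists_smul_eq N b c
    have h1 := hb ⟨h⁻¹ * x * h, hPn.conj_mem' x hx h⟩
    change x • h • b = h • b
    rw [Subgroup.mk_smul, mul_smul, mul_smul, inv_smul_eq_iff] at h1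
    exact h1
  exact P.ne_bot_of_dvd_card hqd hbot

theorem card_le_nilpAlt_two_pow {N : Subgroup (Perm α)} (hev : N ≤ alternatingGroup α) {k : ℕ}
    (hk : Fintype.card α = 2 ^ k) (hN : Nat.card N ≤ 2 ^ vFact (2 ^ k)) (h2 : IsPGroup 2 N) :
    Nat.card N ≤ nilpAlt (2 ^ k) := by
  haveI := Fact.mk Nat.prime_two
  rcases Nat.eq_zero_or_pos k with rfl | hk0
  · rw [pow_zero, vFact_small.2.1] at hN
    simpa [nilpAlt] using hN
  have hk2 : 2 ≤ 2 ^ k := Nat.le_self_pow hk0.ne' 2
  haveI : Nontrivial α := Fintype.one_lt_card_iff_nontrivial.mp (by omega)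
  have hex : 2 ^ k ∉ nilpExc := by
    intro h
    simp only [nilpExc, List.mem_cons, List.not_mem_nil, or_false] at h
    have h2 : 2 ∣ 2 ^ k := dvd_pow_self 2 hk0.ne'
    rcases h with h | h | h | h | h | h <;> first
      | omega
      | (rw [h] at h2; omega)
      | (rcases k with _ | _ | _ | k <;> simp [pow_succ] at h <;> omega)
  obtain ⟨j, hj⟩ := IsPGroup.iff_card.mp h2
  have hdvd : 2 * Nat.card N ∣ (2 ^ k).factorial := by
    rw [← hk, ← Fintype.card_perm, ← Nat.card_eq_fintype_card, ← two_mul_nat_card_alternatingGroup (α := α)]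
    exact Nat.mul_dvd_mul_left 2 (Subgroup.card_dvd_of_le hev)
  rw [hj, ← pow_succ'] at hdvd
  have hjv : j + 1 ≤ vFact (2 ^ k) := (padicValNat_dvd_iff_le (Nat.factorial_ne_zero _)).mp hdvd
  rw [nilpAlt_eq_half hex]
  have hsym : nilpSym (2 ^ k) = 2 ^ vFact (2 ^ k) := by
    unfold nilpSym
    rw [if_neg]
    obtain ⟨c, hc⟩ : 2 ∣ 2 ^ k := dvd_pow_self 2 hk0.ne'
    omega
  rw [hsym, hj, Nat.le_div_iff_mul_le two_pos, ← pow_succ]
  exact Nat.pow_le_pow_right two_pos hjv

/-- The main bound. -/
theorem nilpotent_main : ∀ (k : ℕ) (α : Type u) [Fintype α] [DecidableEq α] (N : Subgroup (Perm α)),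
    Group.IsNilpotent N → Fintype.card α = k →
      (Nat.card N ≤ nilpSym k ∧
        (k % 4 = 3 → nilpSym k ≤ Nat.card N → ∃ q : α → Prop, Inv N q ∧ Nat.card {x // q x} = 3)) ∧
      (N ≤ alternatingGroup α → Nat.card N ≤ nilpAlt k ∧
        (k % 4 = 3 → 7 ≤ k → nilpAlt k ≤ Nat.card N → ∃ q : α → Prop, Inv N q ∧ Nat.card {x // q x} = 3)) := by
  intro k
  induction k using Nat.strong_induction_on with
  | _ k ih =>
    intro α _ _ N hN hk
    classical
    by_cases htr : ∀ a b : α, ∃ g ∈ N, g a = b
    · have hT := card_le_transBound hN htr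
      rw [hk] at hT
      obtain ⟨hS, hSlt⟩ := transBound_le_nilpSym k
      have hthree : k = 3 → ∃ q : α → Prop, Inv N q ∧ Nat.card {x // q x} = 3 := fun h3 =>
        ⟨fun _ => True, fun _ _ _ => Iff.rfl, by
          rw [Nat.card_congr (Equiv.subtypeUnivEquiv fun _ => trivial), Nat.card_eq_fintype_card, hk, h3]⟩
      refine ⟨⟨hT.trans hS, fun h4 hge => ?_⟩, fun hev => ?_⟩
      · rcases eq_or_ne k 3 with h3 | h3
        · exact hthree h3
        · exact absurd (hSlt h4 h3) (by omega)
      · by_cases h2 : ∃ j, k = 2 ^ j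
        · obtain ⟨j, rfl⟩ := h2
          refine ⟨card_le_nilpAlt_two_pow hev hk (transBound_two_pow j ▸ hT) ?_, fun h4 h7 _ => ?_⟩
          · -- a transitive nilpotent group of two-power degree is a two-group
            intro g
            obtain ⟨e, he⟩ := isPGroup_of_two_pow hN htr hk
            exact IsPGroup.of_card he g
          · exfalso
            rcases Nat.lt_or_ge j 2 with hj | hj
            · interval_cases j <;> simp at h7
            · obtain ⟨c, hc⟩ : 4 ∣ 2 ^ j := pow_dvd_pow 2 hj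
              omega
        · obtain ⟨hA, hAlt⟩ := transBound_le_nilpAlt h2
          exact ⟨hT.trans hA, fun h4 h7 hge => absurd (hAlt h4 h7) (by omega)⟩
    · obtain ⟨p, hp, ⟨x, hx⟩, y, hy⟩ := exists_invariant_of_not_transitive htr
      haveI : DecidablePred p := fun x => Classical.propDecidable _
      set a := Fintype.card {x // p x} with ha
      set b := Fintype.card {x // ¬ p x} with hb
      have hapos : 0 < a := Fintype.card_pos_iff.mpr ⟨⟨x, hx⟩⟩
      have hbpos : 0 < b := Fintype.card_pos_iff.mpr ⟨⟨y, hy⟩⟩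
      have hab : a + b = k := by
        have := card_subtype_not p; omega
      obtain ⟨⟨hA, hA3⟩, hAe⟩ := ih a (by omega) _ (restr N p hp) (restr_isNilpotent hN p hp) rfl
      obtain ⟨⟨hB, hB3⟩, hBe⟩ := ih b (by omega) _ (restr N _ hp.not) (restr_isNilpotent hN _ hp.not) rfl
      have hle := card_le_mul p hp
      refine ⟨⟨hle.trans ((Nat.mul_le_mul hA hB).trans (hab ▸ nilpSym_mul a b)), fun h4 hge => ?_⟩, fun hev => ?_⟩
      · have hprod : nilpSym (a + b) ≤ nilpSym a * nilpSym b := by
          rw [hab]; exact hge.trans (hle.trans (Nat.mul_le_mul hA hB))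
        have hAB : nilpSym a * nilpSym b ≤ Nat.card (restr N p hp) * Nat.card (restr N _ hp.not) :=
          ((nilpSym_mul a b).trans (hab ▸ hge)).trans hle
        have := nilpSym_pos a
        have := nilpSym_pos b
        rcases nilpSym_mul_eq a b (by omega) hprod with h | h
        · obtain ⟨q, hq, hqc⟩ := hA3 h (by nlinarith)
          obtain ⟨q', hq', hqc'⟩ := lift_invariant p hp q hq
          exact ⟨q', hq', hqc'.trans hqc⟩
        · obtain ⟨q, hq, hqc⟩ := hB3 h (by nlinarith)
          obtain ⟨q', hq', hqc'⟩ := lift_invariant _ hp.not q hq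
          exact ⟨q', hq', hqc'.trans hqc⟩
      · by_cases hodd : restr N p hp ≤ alternatingGroup _
        · have hoddB : restr N _ hp.not ≤ alternatingGroup _ := by
            rintro _ ⟨g, rfl⟩
            have h1 := sign_restr_mul p hp g
            rw [mem_alternatingGroup.mp (hodd ⟨g, rfl⟩), one_mul] at h1
            exact h1.trans (hev g.2)
          obtain ⟨hA', hA3'⟩ := hAe hodd
          obtain ⟨hB', hB3'⟩ := hBe hoddB
          obtain ⟨hmul, hmul3⟩ := nilpAlt_mul a b hapos hbpos
          refine ⟨hle.trans ((Nat.mul_le_mul hA' hB').trans (hab ▸ hmul)), fun h4 h7 hge => ?_⟩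
          rcases hmul3 (by omega) (by omega) (by rw [hab]; exact hge.trans (hle.trans (Nat.mul_le_mul hA' hB'))) with h | h
          · exact ⟨p, hp, by rw [Nat.card_eq_fintype_card]; exact h⟩
          · exact ⟨fun x => ¬ p x, hp.not, by rw [Nat.card_eq_fintype_card]; exact h⟩
        · obtain ⟨hhalf, hhalf3⟩ := half_mul_le _ _ hA hB _ (two_mul_card_le hev p hp hodd) (by omega)
          rw [hab] at hhalf hhalf3
          refine ⟨hhalf, fun h4 h7 hge => ?_⟩
          rcases hhalf3 h4 h7 hge with ⟨h, he⟩ | ⟨h, he⟩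
          · obtain ⟨q, hq, hqc⟩ := hA3 h he.ge
            obtain ⟨q', hq', hqc'⟩ := lift_invariant p hp q hq
            exact ⟨q', hq', hqc'.trans hqc⟩
          · obtain ⟨q, hq, hqc⟩ := hB3 h he.ge
            obtain ⟨q', hq', hqc'⟩ := lift_invariant _ hp.not q hq
            exact ⟨q', hq', hqc'.trans hqc⟩

theorem card_nilpotent_le {N : Subgroup (Perm α)} (hN : Group.IsNilpotent N) :
    Nat.card N ≤ nilpSym (Fintype.card α) :=
  (nilpotent_main _ α N hN rfl).1.1

theorem card_nilpotent_even_le {N : Subgroup (Perm α)} (hN : Group.IsNilpotent N)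
    (hev : N ≤ alternatingGroup α) : Nat.card N ≤ nilpAlt (Fintype.card α) :=
  ((nilpotent_main _ α N hN rfl).2 hev).1

end H63
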