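import Mathlib
import Cfsg.Agent.H63.AbelianMax
import Cfsg.Agent.H63.NilpotentPerm

/-!
Largest nilpotent subgroups in degree congruent to three modulo four.
-/

set_option autoImplicit false
set_option linter.style.haveILetI false
set_option linter.unusedSectionVars false

namespace H63

open Equiv Equiv.Perm

universe u

theorem card_sylow_two_perm {r : ℕ} (P : Sylow 2 (Perm (Fin r))) :
    Nat.card P = 2 ^ vFact r := by
  haveI := Fact.mk Nat.prime_two
  rw [P.card_eq_multiplicity, Nat.card_perm, Nat.card_fin, Nat.factorization_def _ Nat.prime_two]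
  rfl

theorem card_sylow_two_alt {r : ℕ} (hr : 2 ≤ r) (P : Sylow 2 (alternatingGroup (Fin r))) :
    2 * Nat.card P = 2 ^ vFact r := by
  haveI := Fact.mk Nat.prime_two
  haveI : Nontrivial (Fin r) := Fin.nontrivial_iff_two_le.mpr hr
  have h2 : 2 ∣ r.factorial := Nat.dvd_factorial two_pos hr
  rw [P.card_eq_multiplicity, nat_card_alternatingGroup, Nat.card_fin, Nat.factorization_div h2,
    Finsupp.tsub_apply, Nat.prime_two.factorization, Finsupp.single_eq_same, ← pow_succ']
  congr 1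
  have h1 := Nat.prime_two.factorization_pos_of_dvd (Nat.factorial_ne_zero r) h2
  rw [Nat.factorization_def _ Nat.prime_two] at h1 ⊢
  unfold vFact
  omega

theorem nilpSym_eq_pow {n : ℕ} (hn : n % 4 ≠ 3) : nilpSym n = 2 ^ vFact n := by
  simp [nilpSym, hn]

theorem nilpSym_three_mod {n : ℕ} (hn : n % 4 = 3) : nilpSym n = 3 * 2 ^ vFact (n - 3) := by
  simp [nilpSym, hn]

theorem card_alt_three_type {β : Type*} [Fintype β] [DecidableEq β] (hβ : Fintype.card β = 3)
    (R : Subgroup (Perm β)) (hR : Nat.card R = 3) : R = alternatingGroup β := by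
  haveI : Nontrivial β := Fintype.one_lt_card_iff_nontrivial.mp (by omega)
  have hle : R ≤ alternatingGroup β := by
    intro g hg
    have h1 : orderOf g ∣ 3 := hR ▸ (Subgroup.orderOf_mk g hg ▸ orderOf_dvd_natCard (⟨g, hg⟩ : R))
    have h3 : sign g ^ 3 = 1 := by rw [← map_pow, orderOf_dvd_iff_pow_eq_one.mp h1, map_one]
    rw [show (3 : ℕ) = 2 + 1 from rfl, pow_succ, Int.units_sq, one_mul] at h3
    exact h3
  refine Subgroup.eq_of_le_of_card_ge hle ?_
  rw [hR, nat_card_alternatingGroup, Nat.card_eq_fintype_card, hβ]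
  rfl

variable {α : Type u} [Fintype α] [DecidableEq α]

/-- The structure of an extremal group in degree `r + 3`. -/
theorem extremal_sym {r : ℕ} (hr : r % 4 = 0) (hα : Fintype.card α = r + 3) {N : Subgroup (Perm α)}
    (hN : Group.IsNilpotent N) (hcard : Nat.card N = 3 * 2 ^ vFact r) :
    ∃ (p : α → Prop) (h : Inv N p), Nat.card {x // p x} = 3 ∧ Nat.card {x // ¬ p x} = r ∧
      Nat.card (restr N p h) = 3 ∧ Nat.card (restr N _ h.not) = 2 ^ vFact r ∧
      ∀ g : Perm α, (hg : ∀ x, p (g x) ↔ p x) → g.subtypePerm hg ∈ restr N p h →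
        g.subtypePerm (fun x => not_congr (hg x)) ∈ restr N _ h.not → g ∈ N := by
  classical
  have hn : nilpSym (r + 3) = 3 * 2 ^ vFact r := by
    rw [nilpSym_three_mod (by omega), Nat.add_sub_cancel]
  obtain ⟨p, hp, hpc⟩ := (nilpotent_main _ α N hN hα).1.2 (by omega) (by rw [hcard, hn])
  have hc' : Fintype.card {x // ¬ p x} = r := by
    have := card_subtype_not p
    rw [Nat.card_eq_fintype_card] at hpc
    omega
  have hA := card_nilpotent_le (restr_isNilpotent hN p hp)
  have hB := card_nilpotent_le (restr_isNilpotent hN _ hp.not)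
  rw [Nat.card_eq_fintype_card] at hpc
  have h3 : nilpSym 3 = 3 := by rw [nilpSym_three_mod rfl, Nat.sub_self, vFact_small.1]; rfl
  rw [hpc, h3] at hA
  rw [hc', nilpSym_eq_pow (by omega)] at hB
  have hle := card_le_mul p hp
  rw [hcard] at hle
  have hpos : 0 < 2 ^ vFact r := by positivity
  have hAB : Nat.card (restr N p hp) = 3 ∧ Nat.card (restr N _ hp.not) = 2 ^ vFact r := by
    constructor <;> nlinarith
  refine ⟨p, hp, by rw [Nat.card_eq_fintype_card]; exact hpc, by rw [Nat.card_eq_fintype_card]; exact hc',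
    hAB.1, hAB.2, fun g hg h1 h2 => ?_⟩
  rw [Subgroup.eq_of_le_of_card_ge (le_prod_restr p hp) (by rw [card_prod_restr p hp, hcard, hAB.1, hAB.2])]
  refine ⟨(g.subtypePerm hg, g.subtypePerm (fun x => not_congr (hg x))), ⟨h1, h2⟩, ?_⟩
  ext x
  by_cases hx : p x <;>
    simp [subtypeCongrHom, Perm.subtypeCongr.apply, hx, subtypePerm_apply]

open Classical in
/-- The structure of an extremal even group in degree `r + 3`. -/
theorem extremal_alt {r : ℕ} (hr : r % 4 = 0) (hr4 : 4 ≤ r) (hα : Fintype.card α = r + 3) {N : Subgroup (Perm α)}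
    (hN : Group.IsNilpotent N) (hev : N ≤ alternatingGroup α) (hcard : 2 * Nat.card N = 3 * 2 ^ vFact r) :
    ∃ (p : α → Prop) (h : Inv N p), Nat.card {x // p x} = 3 ∧ Nat.card {x // ¬ p x} = r ∧
      Nat.card (restr N p h) = 3 ∧ 2 * Nat.card (restr N _ h.not) = 2 ^ vFact r ∧
      (∀ g ∈ restr N _ h.not, sign g = 1) ∧
      ∀ g : Perm α, (hg : ∀ x, p (g x) ↔ p x) → g.subtypePerm hg ∈ restr N p h →
        g.subtypePerm (fun x => not_congr (hg x)) ∈ restr N _ h.not → g ∈ N := by
  classical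
  have hex : r + 3 ∉ nilpExc := by
    rw [exc_not_mem_iff]; omega
  have hn : nilpAlt (r + 3) = 3 * 2 ^ vFact r / 2 := by
    rw [nilpAlt_eq_half hex, nilpSym_three_mod (by omega), Nat.add_sub_cancel]
  obtain ⟨p, hp, hpc⟩ := ((nilpotent_main _ α N hN hα).2 hev).2 (by omega) (by omega) (by rw [hn]; omega)
  have hc' : Fintype.card {x // ¬ p x} = r := by
    have := card_subtype_not p
    rw [Nat.card_eq_fintype_card] at hpc
    omega
  have hA := card_nilpotent_le (restr_isNilpotent hN p hp)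
  have hB := card_nilpotent_le (restr_isNilpotent hN _ hp.not)
  rw [Nat.card_eq_fintype_card] at hpc
  have h3 : nilpSym 3 = 3 := by rw [nilpSym_three_mod rfl, Nat.sub_self, vFact_small.1]; rfl
  rw [hpc, h3] at hA
  rw [hc', nilpSym_eq_pow (by omega)] at hB
  have hle := card_le_mul p hp
  have hpos : 0 < 2 ^ vFact r := by positivity
  -- the small restriction is even
  have hAev : restr N p hp ≤ alternatingGroup _ := by
    by_contra hodd
    have h2 := two_mul_card_le hev p hp hodd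
    have h3' : Nat.card (restr N p hp) ≤ 2 := by
      by_contra hlt
      exact hodd (card_alt_three_type hpc _ (by omega)).le
    nlinarith
  have hBev : restr N _ hp.not ≤ alternatingGroup _ := by
    rintro _ ⟨g, rfl⟩
    have h1 := sign_restr_mul p hp g
    rw [mem_alternatingGroup.mp (hAev ⟨g, rfl⟩), one_mul] at h1
    exact h1.trans (hev g.2)
  have hB' := card_nilpotent_even_le (restr_isNilpotent hN _ hp.not) hBev
  rw [hc', nilpAlt_eq_half (exc_not_mem_iff.mpr (by omega)), nilpSym_eq_pow (by omega)] at hB'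
  have hB'' : 2 * Nat.card (restr N _ hp.not) ≤ 2 ^ vFact r :=
    le_trans (Nat.mul_le_mul_left 2 hB') (Nat.mul_div_le _ _)
  have hAB : Nat.card (restr N p hp) = 3 ∧ 2 * Nat.card (restr N _ hp.not) = 2 ^ vFact r := by
    constructor <;> nlinarith
  refine ⟨p, hp, by rw [Nat.card_eq_fintype_card]; exact hpc, by rw [Nat.card_eq_fintype_card]; exact hc',
    hAB.1, hAB.2, fun g hg => hBev hg, fun g hg h1 h2 => ?_⟩
  rw [Subgroup.eq_of_le_of_card_ge (le_prod_restr p hp) (by rw [card_prod_restr p hp, hAB.1]; nlinarith [hAB.2])]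
  refine ⟨(g.subtypePerm hg, g.subtypePerm (fun x => not_congr (hg x))), ⟨h1, h2⟩, ?_⟩
  ext x
  by_cases hx : p x <;>
    simp [subtypeCongrHom, Perm.subtypeCongr.apply, hx, subtypePerm_apply]

/-- Gluing bijections of the two parts of two partitions. -/
def glue {p q : α → Prop} [DecidablePred p] [DecidablePred q] (e : {x // p x} ≃ {x // q x})
    (f : {x // ¬ p x} ≃ {x // ¬ q x}) : Perm α :=
  Equiv.subtypeCongr e f

theorem glue_left {p q : α → Prop} [DecidablePred p] [DecidablePred q] (e : {x // p x} ≃ {x // q x})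
    (f : {x // ¬ p x} ≃ {x // ¬ q x}) {x : α} (hx : p x) : glue e f x = e ⟨x, hx⟩ := by
  simp [glue, Equiv.subtypeCongr, hx]

theorem glue_right {p q : α → Prop} [DecidablePred p] [DecidablePred q] (e : {x // p x} ≃ {x // q x})
    (f : {x // ¬ p x} ≃ {x // ¬ q x}) {x : α} (hx : ¬ p x) : glue e f x = f ⟨x, hx⟩ := by
  simp [glue, Equiv.subtypeCongr, hx]

theorem glue_mem_iff {p q : α → Prop} [DecidablePred p] [DecidablePred q] (e : {x // p x} ≃ {x // q x})
    (f : {x // ¬ p x} ≃ {x // ¬ q x}) (x : α) : q (glue e f x) ↔ p x := by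
  by_cases hx : p x
  · rw [glue_left e f hx]; exact iff_of_true (e _).2 hx
  · rw [glue_right e f hx]; exact iff_of_false (f _).2 hx

/-- Conjugating by a glued bijection maps one extremal group into the other. -/
theorem map_conj_glue_le {N₁ N₂ : Subgroup (Perm α)} {p q : α → Prop} [DecidablePred p] [DecidablePred q]
    (hp : Inv N₁ p) (hq : Inv N₂ q) (hp3 : Fintype.card {x // p x} = 3) (hq3 : Fintype.card {x // q x} = 3)
    (h1 : Nat.card (restr N₁ p hp) = 3) (h2 : Nat.card (restr N₂ q hq) = 3)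
    (hmem : ∀ g : Perm α, (hg : ∀ x, q (g x) ↔ q x) → g.subtypePerm hg ∈ restr N₂ q hq →
        g.subtypePerm (fun x => not_congr (hg x)) ∈ restr N₂ _ hq.not → g ∈ N₂)
    (e : {x // p x} ≃ {x // q x}) (f : {x // ¬ p x} ≃ {x // ¬ q x})
    (hf : (restr N₁ _ hp.not).map f.permCongrHom.toMonoidHom ≤ restr N₂ _ hq.not) :
    N₁.map (MulAut.conj (glue e f)).toMonoidHom ≤ N₂ := by
  rintro _ ⟨g, hg, rfl⟩
  set σ := glue e f
  set g' := (MulAut.conj σ).toMonoidHom g
  have hg'x : ∀ x, g' (σ x) = σ (g x) := fun x => by simp [g', MulAut.conj_apply]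
  have hpres : ∀ y, q (g' y) ↔ q y := by
    intro y
    obtain ⟨x, rfl⟩ := σ.surjective y
    rw [hg'x, glue_mem_iff e f, glue_mem_iff e f]
    exact hp g hg x
  refine hmem g' hpres ?_ ?_
  · have hL : g'.subtypePerm hpres = e.permCongr (restrHom N₁ p hp ⟨g, hg⟩) := by
      ext ⟨y, hy⟩
      obtain ⟨x, rfl⟩ := σ.surjective y
      have hx : p x := (glue_mem_iff e f x).mp hy
      have : (⟨σ x, hy⟩ : {y // q y}) = e ⟨x, hx⟩ := Subtype.ext (glue_left e f hx)
      rw [subtypePerm_apply, Equiv.permCongr_apply, this, e.symm_apply_apply]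
      exact (congrArg g' (glue_left e f hx).symm).trans ((hg'x x).trans (glue_left e f ((hp g hg x).mpr hx)))
    rw [hL, card_alt_three_type hq3 _ h2, mem_alternatingGroup, sign_permCongr]
    have := card_alt_three_type hp3 _ h1
    exact mem_alternatingGroup.mp (this ▸ ⟨⟨g, hg⟩, rfl⟩)
  · refine hf ⟨restrHom N₁ _ hp.not ⟨g, hg⟩, ⟨⟨g, hg⟩, rfl⟩, ?_⟩
    ext ⟨y, hy⟩
    obtain ⟨x, rfl⟩ := σ.surjective y
    have hx : ¬ p x := fun h => hy ((glue_mem_iff e f x).mpr h)
    have : (⟨σ x, hy⟩ : {y // ¬ q y}) = f ⟨x, hx⟩ := Subtype.ext (glue_right e f hx)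
    change (f.permCongr _ ⟨σ x, hy⟩ : α) = g' (σ x)
    rw [Equiv.permCongr_apply, this, f.symm_apply_apply, hg'x, glue_right e f ((hp.not g hg x).mpr hx)]
    rfl

theorem conj_extremal_sym {r : ℕ} (hr : r % 4 = 0) (hα : Fintype.card α = r + 3) {N₁ N₂ : Subgroup (Perm α)}
    (hN₁ : Group.IsNilpotent N₁) (hN₂ : Group.IsNilpotent N₂) (hc₁ : Nat.card N₁ = 3 * 2 ^ vFact r)
    (hc₂ : Nat.card N₂ = 3 * 2 ^ vFact r) :
    ∃ g : Perm α, N₂ = N₁.map (MulAut.conj g).toMonoidHom := by
  classical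
  haveI := Fact.mk Nat.prime_two
  obtain ⟨p, hp, hp3, hpr, hA₁, hB₁, -⟩ := extremal_sym hr hα hN₁ hc₁
  obtain ⟨q, hq, hq3, hqr, hA₂, hB₂, hmem⟩ := extremal_sym hr hα hN₂ hc₂
  rw [Nat.card_eq_fintype_card] at hp3 hpr hq3 hqr
  let e := Fintype.equivOfCardEq (hp3.trans hq3.symm)
  let f₀ := Fintype.equivOfCardEq (hpr.trans hqr.symm)
  have hfac : (Nat.card (Perm {x // ¬ q x})).factorization 2 = vFact r := by
    rw [Nat.card_perm, Nat.card_eq_fintype_card, hqr, Nat.factorization_def _ Nat.prime_two]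
    rfl
  let R₁ := (restr N₁ _ hp.not).map f₀.permCongrHom.toMonoidHom
  have hR₁ : Nat.card R₁ = 2 ^ (Nat.card (Perm {x // ¬ q x})).factorization 2 := by
    rw [hfac, Subgroup.card_map_of_injective]
    · exact hB₁
    · exact f₀.permCongrHom.injective
  let S₁ := Sylow.ofCard R₁ hR₁
  let S₂ := Sylow.ofCard (restr N₂ _ hq.not) (by rw [hfac]; exact hB₂)
  obtain ⟨c, hc⟩ := MulAction.exists_smul_eq (Perm {x // ¬ q x}) S₁ S₂
  have hc' : R₁.map (MulAut.conj c).toMonoidHom = restr N₂ _ hq.not := congrArg Sylow.toSubgroup hc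
  refine ⟨glue e (f₀.trans c), (Subgroup.eq_of_le_of_card_ge
    (map_conj_glue_le hp hq hp3 hq3 hA₁ hA₂ hmem e (f₀.trans c) ?_) ?_).symm⟩
  · rw [← hc', Subgroup.map_map]
    refine le_of_eq ?_
    congr 1
  · rw [Subgroup.card_map_of_injective, hc₁, hc₂]
    exact (MulAut.conj _).injective

theorem conj_extremal_alt {r : ℕ} (hr : r % 4 = 0) (hr4 : 4 ≤ r) (hα : Fintype.card α = r + 3)
    {N₁ N₂ : Subgroup (Perm α)} (hN₁ : Group.IsNilpotent N₁) (hN₂ : Group.IsNilpotent N₂)
    (hev₁ : N₁ ≤ alternatingGroup α) (hev₂ : N₂ ≤ alternatingGroup α)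
    (hc₁ : 2 * Nat.card N₁ = 3 * 2 ^ vFact r) (hc₂ : 2 * Nat.card N₂ = 3 * 2 ^ vFact r) :
    ∃ g ∈ alternatingGroup α, N₂ = N₁.map (MulAut.conj g).toMonoidHom := by
  classical
  haveI := Fact.mk Nat.prime_two
  obtain ⟨p, hp, hp3, hpr, hA₁, hB₁, hE₁, -⟩ := extremal_alt hr hr4 hα hN₁ hev₁ hc₁
  obtain ⟨q, hq, hq3, hqr, hA₂, hB₂, hE₂, hmem⟩ := extremal_alt hr hr4 hα hN₂ hev₂ hc₂
  rw [Nat.card_eq_fintype_card] at hp3 hpr hq3 hqr
  let e := Fintype.equivOfCardEq (hp3.trans hq3.symm)
  let f₀ := Fintype.equivOfCardEq (hpr.trans hqr.symm)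
  haveI : Nontrivial {x // ¬ q x} := Fintype.one_lt_card_iff_nontrivial.mp (by omega)
  have hfac : 2 * 2 ^ (Nat.card (alternatingGroup {x // ¬ q x})).factorization 2 = 2 ^ vFact r := by
    have h2 : 2 ∣ r.factorial := Nat.dvd_factorial two_pos (by omega)
    have h1 := Nat.prime_two.factorization_pos_of_dvd (Nat.factorial_ne_zero r) h2
    rw [nat_card_alternatingGroup, Nat.card_eq_fintype_card, hqr, Nat.factorization_div h2,
      Finsupp.tsub_apply, Nat.prime_two.factorization, Finsupp.single_eq_same, ← pow_succ',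
      show vFact r = r.factorial.factorization 2 from (Nat.factorization_def _ Nat.prime_two).symm]
    congr 1
    omega
  let R₁ := (restr N₁ _ hp.not).map f₀.permCongrHom.toMonoidHom
  have hR₁e : R₁ ≤ alternatingGroup _ := by
    rintro _ ⟨g, hg, rfl⟩
    change sign (f₀.permCongr g) = 1
    rw [sign_permCongr]
    exact hE₁ g hg
  have hR₁ : Nat.card (R₁.subgroupOf (alternatingGroup _)) =
      2 ^ (Nat.card (alternatingGroup {x // ¬ q x})).factorization 2 := by
    rw [Nat.card_congr (Subgroup.subgroupOfEquivOfLe hR₁e).toEquiv, Subgroup.card_map_of_injective]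
    · omega
    · exact f₀.permCongrHom.injective
  have hR₂e : restr N₂ _ hq.not ≤ alternatingGroup _ := fun g hg => hE₂ g hg
  let S₁ := Sylow.ofCard (R₁.subgroupOf (alternatingGroup _)) hR₁
  let S₂ := Sylow.ofCard ((restr N₂ _ hq.not).subgroupOf (alternatingGroup _))
    (show Nat.card _ = 2 ^ (Nat.card (alternatingGroup {x // ¬ q x})).factorization 2 by
      rw [Nat.card_congr (Subgroup.subgroupOfEquivOfLe hR₂e).toEquiv]; omega)
  obtain ⟨c, hc⟩ := MulAction.exists_smul_eq (alternatingGroup {x // ¬ q x}) S₁ S₂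
  have hc' : R₁.map (MulAut.conj (c : Perm {x // ¬ q x})).toMonoidHom ≤ restr N₂ _ hq.not := by
    rintro _ ⟨g, hg, rfl⟩
    have hg' : (⟨g, hR₁e hg⟩ : alternatingGroup _) ∈ R₁.subgroupOf _ := hg
    have hmem' : c * ⟨g, hR₁e hg⟩ * c⁻¹ ∈ (S₂ : Subgroup (alternatingGroup {x // ¬ q x})) := by
      rw [← hc]
      exact ⟨_, hg', rfl⟩
    exact hmem'
  -- fix the parity on the orbit of size three
  let σ₀ := glue e (f₀.trans (c : Perm {x // ¬ q x}))
  obtain ⟨u, v, huv⟩ := Fintype.exists_pair_of_one_lt_card (α := {x // q x}) (by omega)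
  let e' : {x // p x} ≃ {x // q x} := if sign σ₀ = 1 then e else e.trans (swap u v)
  have hsign : sign (glue e' (f₀.trans (c : Perm {x // ¬ q x}))) = 1 := by
    simp only [e']
    split_ifs with h
    · exact h
    · have : glue (e.trans (swap u v)) (f₀.trans (c : Perm {x // ¬ q x})) = swap (u : α) v * σ₀ := by
        ext x
        by_cases hx : p x
        · rw [glue_left _ _ hx, Perm.mul_apply, glue_left _ _ hx, Equiv.trans_apply]
          exact (Function.Injective.swap_apply Subtype.val_injective u v _).symm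
        · rw [glue_right _ _ hx, Perm.mul_apply, glue_right _ _ hx, swap_apply_of_ne_of_ne]
          · intro hcon; exact ((f₀.trans (c : Perm {x // ¬ q x})) ⟨x, hx⟩).2 (hcon ▸ u.2)
          · intro hcon; exact ((f₀.trans (c : Perm {x // ¬ q x})) ⟨x, hx⟩).2 (hcon ▸ v.2)
      rw [this, map_mul, sign_swap (fun h => huv (Subtype.ext h)), (Int.units_eq_one_or _).resolve_left h]
      rfl
  refine ⟨_, hsign, (Subgroup.eq_of_le_of_card_ge
    (map_conj_glue_le hp hq hp3 hq3 hA₁ hA₂ hmem e' (f₀.trans (c : Perm {x // ¬ q x})) ?_) ?_).symm⟩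
  · refine le_trans ?_ hc'
    rw [Subgroup.map_map]
    refine le_of_eq ?_
    congr 1
  · rw [Subgroup.card_map_of_injective]
    · omega
    · exact (MulAut.conj _).injective

/-- The product of a Sylow 2-subgroup and `A_3`, acting on `r + 3` points. -/
theorem exists_extremal {r : ℕ} (R : Subgroup (Perm (Fin r))) (hR : IsPGroup 2 R) :
    ∃ M : Subgroup (Perm (Fin (r + 3))), Group.IsNilpotent M ∧ Nat.card M = 3 * Nat.card R ∧
      (R ≤ alternatingGroup (Fin r) → M ≤ alternatingGroup (Fin (r + 3))) ∧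
      Nonempty (M ≃* (R × Multiplicative (ZMod 3))) := by
  haveI := Fact.mk Nat.prime_three
  haveI := Fact.mk Nat.prime_two
  have h3 : Nat.card (alternatingGroup (Fin 3)) = 3 := by
    rw [nat_card_alternatingGroup, Nat.card_fin]; rfl
  have hz : Nat.card (Multiplicative (ZMod 3)) = 3 := by simp
  let e3 : alternatingGroup (Fin 3) ≃* Multiplicative (ZMod 3) := mulEquivOfPrimeCardEq h3 hz
  have hinj : Function.Injective
      ((finSumFinEquiv (m := r) (n := 3)).permCongrHom.toMonoidHom.comp (sumCongrHom (Fin r) (Fin 3))) :=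
    finSumFinEquiv.permCongrHom.injective.comp sumCongrHom_injective
  let em : blockSum R (alternatingGroup (Fin 3)) ≃* (R × Multiplicative (ZMod 3)) :=
    ((MulEquiv.subgroupCongr (Subgroup.map_map _ _ _)).trans
      (((R.prod (alternatingGroup (Fin 3))).equivMapOfInjective _ hinj).symm)).trans
      ((R.prodEquiv _).trans ((MulEquiv.refl _).prodCongr e3))
  refine ⟨blockSum R (alternatingGroup (Fin 3)), ?_, ?_, fun h => blockSum_le_alternating h le_rfl, ⟨em⟩⟩
  · haveI : Group.IsNilpotent R := hR.isNilpotent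
    exact Group.nilpotent_of_mulEquiv em.symm
  · rw [card_blockSum, h3, mul_comm]

end H63
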