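import Cfsg.Agent.H63.PPowerSmall
import Mathlib

/-!
Two elements of odd prime power order in an alternating group of degree at least five have
conjugates with product not of prime power order generating a non-solvable group.
-/

set_option autoImplicit false

namespace H63

open List Equiv Equiv.Perm

universe u

section good

variable {G H : Type*} [Group G] [Group H]

theorem GoodPair.symm {p : ℕ} {a b : G} (h : GoodPair p a b) : GoodPair p b a := by
  refine ⟨fun k hk => h.1 k ?_, by rw [Set.pair_comm]; exact h.2⟩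
  have e : a * b = a * (b * a) * a⁻¹ := by group
  rw [e, conj_pow, hk, mul_one, mul_inv_cancel]

theorem GoodPair.conj {p : ℕ} {a b : G} (h : GoodPair p a b) (c : G) :
    GoodPair p (c * a * c⁻¹) (c * b * c⁻¹) := by
  refine ⟨fun k hk => h.1 k ?_, fun hs => h.2 ?_⟩
  · rw [show c * a * c⁻¹ * (c * b * c⁻¹) = c * (a * b) * c⁻¹ by group, conj_pow] at hk
    exact conj_eq_one_iff.mp hk
  · have hle : (Subgroup.closure ({a, b} : Set G)).map (MulAut.conj c).toMonoidHom ≤
        Subgroup.closure ({c * a * c⁻¹, c * b * c⁻¹} : Set G) := by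
      rw [MonoidHom.map_closure, Set.image_pair]
      exact le_rfl
    have := hs
    exact Group.isSolvable_of_isSolvable_injective
      (f := ((Subgroup.inclusion hle).comp ((MulAut.conj c).toMonoidHom.subgroupMap _)))
      ((Subgroup.inclusion_injective hle).comp fun x y hxy =>
        Subtype.ext ((MulAut.conj c).injective (congrArg Subtype.val hxy)))

end good

variable {α : Type u} [Fintype α] [DecidableEq α]

/-- A good pair on an invariant set gives a good pair. -/
theorem goodPair_of_embedding {p m : ℕ} {u w : Perm α} {a b : Perm (Fin m)} (e : Fin m ↪ α)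
    (hu : ∀ i, u (e i) = e (a i)) (hw : ∀ i, w (e i) = e (b i)) (h : GoodPair p a b) :
    GoodPair p u w := by
  refine ⟨fun k hk => h.1 k (Equiv.ext fun i => e.injective ?_), fun hs => h.2 ?_⟩
  · have hiter : ∀ j : ℕ, ∀ i, ((u * w) ^ j) (e i) = e (((a * b) ^ j) i) := by
      intro j
      induction j with
      | zero => intro i; rfl
      | succ j ih => intro i; rw [pow_succ', pow_succ', Perm.mul_apply, ih, Perm.mul_apply, hw, hu]; rfl
    rw [← hiter, hk]
    rfl
  let S : Subgroup (Perm α × Perm (Fin m)) :=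
    { carrier := {x | ∀ i, x.1 (e i) = e (x.2 i)}
      one_mem' := fun i => rfl
      mul_mem' := fun {x y} hx hy i => by
        simp only [Prod.fst_mul, Prod.snd_mul, Perm.mul_apply, hy i, hx (y.2 i)]
      inv_mem' := fun {x} hx i => by
        rw [Prod.fst_inv, Prod.snd_inv, Perm.inv_eq_iff_eq, hx]
        simp }
  set K := Subgroup.closure ({(u, a), (w, b)} : Set (Perm α × Perm (Fin m)))
  have hKS : K ≤ S := (Subgroup.closure_le _).mpr (by rintro x (rfl | rfl) <;> assumption)
  have h1 : K.map (MonoidHom.fst _ _) = Subgroup.closure ({u, w} : Set (Perm α)) := by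
    rw [MonoidHom.map_closure, Set.image_pair]; rfl
  have h2 : K.map (MonoidHom.snd _ _) = Subgroup.closure ({a, b} : Set (Perm (Fin m))) := by
    rw [MonoidHom.map_closure, Set.image_pair]; rfl
  have hK : Group.IsSolvable K := by
    have := hs
    rw [← h1] at this
    refine Group.isSolvable_of_isSolvable_injective (f := (MonoidHom.fst _ _).subgroupMap K) ?_
    intro x y hxy
    have h' : (x : Perm α × Perm (Fin m)).1 = (y : Perm α × Perm (Fin m)).1 := congrArg Subtype.val hxy
    refine Subtype.ext (Prod.ext h' (Equiv.ext fun i => e.injective ?_))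
    rw [← hKS x.2 i, ← hKS y.2 i, h']
  rw [← h2]
  exact Group.isSolvable_of_surjective ((MonoidHom.snd _ _).subgroupMap_surjective K)

/-- Any permutation containing the cycles of `a` looks like `a` on a suitable set. -/
theorem exists_model {m : ℕ} (ι : Fin m ↪ α) (a : Perm (Fin m)) (u : Perm α)
    (hle : a.cycleType ≤ u.cycleType)
    (hrest : (u.cycleType - a.cycleType).sum + m ≤ Fintype.card α) :
    ∃ h : Perm α, ∀ i, u (h (ι i)) = h (ι (a i)) := by
  classical
  have hcard : Fintype.card {x // x ∉ Set.range ι} = Fintype.card α - m := by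
    rw [Fintype.card_subtype_compl, show Fintype.card {x // x ∈ Set.range ι} = m from ?_]
    exact (Set.card_range_of_injective ι.injective).trans (Fintype.card_fin m)
  obtain ⟨r, hr⟩ := (exists_with_cycleType_iff {x // x ∉ Set.range ι}
    (m := u.cycleType - a.cycleType)).mpr
    ⟨by omega, fun k hk => two_le_of_mem_cycleType (Multiset.mem_of_le tsub_le_self hk)⟩
  set u' := embHom ι a * ofSubtype r
  have hdisj : Perm.Disjoint (embHom ι a) (ofSubtype r : Perm α) := by
    intro x
    by_cases hx : x ∈ Set.range ι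
    · exact Or.inr (ofSubtype_apply_of_not_mem r (not_not_intro hx))
    · exact Or.inl (embHom_apply_of_notMem ι a hx)
  have hct : u'.cycleType = u.cycleType := by
    rw [hdisj.cycleType_mul, cycleType_ofSubtype, hr]
    change (a.viaFintypeEmbedding ι).cycleType + _ = _
    rw [Equiv.Perm.viaFintypeEmbedding, cycleType_extendDomain, add_tsub_cancel_of_le hle]
  obtain ⟨c, hc⟩ := isConj_iff.mp ((isConj_iff_cycleType_eq).mpr hct)
  refine ⟨c, fun i => ?_⟩
  rw [← hc, Perm.mul_apply, Perm.mul_apply, Perm.inv_eq_iff_eq.mpr rfl]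
  congr 1
  rw [Perm.mul_apply, ofSubtype_apply_of_not_mem r (not_not_intro ⟨i, rfl⟩), embHom_apply]

/-- Realise a good pair inside `u` and a conjugate of `w`. -/
theorem exists_goodPair_of_model {p m : ℕ} {u w : Perm α} {a b : Perm (Fin m)} (hm : m ≤ Fintype.card α)
    (h : GoodPair p a b) (hau : a.cycleType ≤ u.cycleType) (hbw : b.cycleType ≤ w.cycleType)
    (hru : (u.cycleType - a.cycleType).sum + m ≤ Fintype.card α)
    (hrw : (w.cycleType - b.cycleType).sum + m ≤ Fintype.card α) :
    ∃ g : Perm α, GoodPair p u (g * w * g⁻¹) := by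
  obtain ⟨ι⟩ : Nonempty (Fin m ↪ α) := Function.Embedding.nonempty_of_card_le (by simpa using hm)
  obtain ⟨H, hH⟩ := exists_model ι a u hau hru
  obtain ⟨k, hk⟩ := exists_model ι b w hbw hrw
  refine ⟨H * k⁻¹, goodPair_of_embedding (ι.trans H.toEmbedding) hH (fun i => ?_) h⟩
  change (H * k⁻¹ * w * (H * k⁻¹)⁻¹) (H (ι i)) = H (ι (b i))
  simp [hk]

theorem exists_even_of_two_classes {p m : ℕ} {u w : Perm α} {a b h₀ : Perm (Fin m)}
    (hm : m ≤ Fintype.card α) (h : GoodPair p a b) (h' : GoodPair p a (h₀ * b * h₀⁻¹))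
    (hh₀ : sign h₀ = -1) (hau : a.cycleType ≤ u.cycleType) (hbw : b.cycleType ≤ w.cycleType)
    (hru : (u.cycleType - a.cycleType).sum + m ≤ Fintype.card α)
    (hrw : (w.cycleType - b.cycleType).sum + m ≤ Fintype.card α) :
    ∃ g ∈ alternatingGroup α, GoodPair p u (g * w * g⁻¹) := by
  obtain ⟨ι⟩ : Nonempty (Fin m ↪ α) := Function.Embedding.nonempty_of_card_le (by simpa using hm)
  obtain ⟨H, hH⟩ := exists_model ι a u hau hru
  obtain ⟨k, hk⟩ := exists_model ι b w hbw hrw
  rcases Int.units_eq_one_or (sign (H * k⁻¹)) with hs | hs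
  · refine ⟨H * k⁻¹, hs, goodPair_of_embedding (ι.trans H.toEmbedding) hH (fun i => ?_) h⟩
    change (H * k⁻¹ * w * (H * k⁻¹)⁻¹) (H (ι i)) = H (ι (b i))
    simp [hk]
  · set E := embHom ι h₀
    have hE : sign E = -1 := by
      change sign (h₀.viaFintypeEmbedding ι) = _
      rw [Equiv.Perm.viaFintypeEmbedding_sign, hh₀]
    refine ⟨H * E * k⁻¹, ?_, goodPair_of_embedding (ι.trans H.toEmbedding) hH (fun i => ?_) h'⟩
    · rw [mem_alternatingGroup]
      simp only [map_mul, hE] at hs ⊢
      rw [mul_right_comm, hs, Int.units_mul_self]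
    · change (H * E * k⁻¹ * w * (H * E * k⁻¹)⁻¹) (H (ι i)) = H (ι ((h₀ * b * h₀⁻¹) i))
      have hEinv : E⁻¹ (ι i) = ι (h₀⁻¹ i) := by
        rw [← map_inv, embHom_apply]
      simp only [mul_inv_rev, inv_inv, Perm.mul_apply]
      rw [Perm.inv_def H, Equiv.symm_apply_apply, hEinv, hk, Perm.inv_def k, Equiv.symm_apply_apply,
        embHom_apply]

theorem exists_even_of_centralizer {p : ℕ} {u w : Perm α} (g : Perm α)
    (h : GoodPair p u (g * w * g⁻¹))
    (hz : ¬ Subgroup.centralizer {w} ≤ alternatingGroup α) :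
    ∃ g ∈ alternatingGroup α, GoodPair p u (g * w * g⁻¹) := by
  obtain ⟨z, hz, hzA⟩ := SetLike.not_le_iff_exists.mp hz
  rw [mem_alternatingGroup] at hzA
  have hzs : sign z = -1 := (Int.units_eq_one_or _).resolve_left hzA
  rcases Int.units_eq_one_or (sign g) with hs | hs
  · exact ⟨g, hs, h⟩
  refine ⟨g * z, by rw [mem_alternatingGroup, map_mul, hs, hzs, Int.units_mul_self], ?_⟩
  have : g * z * w * (g * z)⁻¹ = g * w * g⁻¹ := by
    calc g * z * w * (g * z)⁻¹ = g * (z * w * z⁻¹) * g⁻¹ := by group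
      _ = _ := by rw [Subgroup.mem_centralizer_singleton_iff.mp hz, mul_inv_cancel_right]
  rwa [this]

theorem exists_even_of_centralizer_left {p : ℕ} {u w : Perm α} (g : Perm α)
    (h : GoodPair p u (g * w * g⁻¹))
    (hz : ¬ Subgroup.centralizer {u} ≤ alternatingGroup α) :
    ∃ g ∈ alternatingGroup α, GoodPair p u (g * w * g⁻¹) := by
  obtain ⟨z, hz, hzA⟩ := SetLike.not_le_iff_exists.mp hz
  rw [mem_alternatingGroup] at hzA
  have hzs : sign z = -1 := (Int.units_eq_one_or _).resolve_left hzA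
  rcases Int.units_eq_one_or (sign g) with hs | hs
  · exact ⟨g, hs, h⟩
  refine ⟨z * g, by rw [mem_alternatingGroup, map_mul, hs, hzs, Int.units_mul_self], ?_⟩
  have h' := h.conj z
  rw [Subgroup.mem_centralizer_singleton_iff.mp hz, mul_inv_cancel_right] at h'
  rwa [show z * (g * w * g⁻¹) * z⁻¹ = z * g * w * (z * g)⁻¹ by group] at h'

/-- Sub-multisets of prime powers filling a larger power exactly. -/
theorem exists_fill {p : ℕ} : ∀ (a : ℕ) (S : Multiset ℕ), (∀ x ∈ S, ∃ i ≤ a, x = p ^ i) →
    p ^ a ≤ S.sum → ∃ M ≤ S, M.sum = p ^ a := by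
  intro a
  induction a with
  | zero =>
    intro S hS hsum
    obtain ⟨x, hx⟩ : ∃ x, x ∈ S := Multiset.exists_mem_of_ne_zero fun h => by simp [h] at hsum
    obtain ⟨i, hi, rfl⟩ := hS x hx
    exact ⟨{p ^ i}, Multiset.singleton_le.mpr hx, by simp [Nat.le_zero.mp hi]⟩
  | succ a ih =>
    intro S hS hsum
    by_cases hmem : p ^ (a + 1) ∈ S
    · exact ⟨{p ^ (a + 1)}, Multiset.singleton_le.mpr hmem, by simp⟩
    have hS' : ∀ x ∈ S, ∃ i ≤ a, x = p ^ i := by
      intro x hx
      obtain ⟨i, hi, rfl⟩ := hS x hx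
      rcases Nat.lt_or_ge i (a + 1) with h | h
      · exact ⟨i, by omega, rfl⟩
      · exact absurd (by rwa [show i = a + 1 by omega] at hx) hmem
    have hj : ∀ j : ℕ, j * p ^ a ≤ S.sum → ∃ M ≤ S, M.sum = j * p ^ a := by
      intro j
      induction j with
      | zero => intro _; exact ⟨0, Multiset.zero_le _, by simp⟩
      | succ j ihj =>
        intro hle
        rw [add_mul, one_mul] at hle
        obtain ⟨M, hM, hMs⟩ := ihj (by omega)
        have hsplit : (S - M).sum + M.sum = S.sum := by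
          rw [← Multiset.sum_add, tsub_add_cancel_of_le hM]
        obtain ⟨N, hN, hNs⟩ := ih (S - M) (fun x hx => hS' x (Multiset.mem_of_le tsub_le_self hx))
          (by omega)
        refine ⟨M + N, ?_, by rw [Multiset.sum_add, hMs, hNs, add_mul, one_mul]⟩
        calc M + N ≤ M + (S - M) := by gcongr
          _ = S := add_tsub_cancel_of_le hM
    obtain ⟨M, hM, hMs⟩ := hj p (by rw [← pow_succ']; exact hsum)
    exact ⟨M, hM, by rw [hMs, pow_succ']⟩

/-- Distinct positive powers of an odd prime below `p ^ a` have sum below `p ^ a / 2`. -/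
theorem two_mul_sum_le {p a : ℕ} (hp : 3 ≤ p) {S : Multiset ℕ} (hnd : S.Nodup)
    (hS : ∀ x ∈ S, ∃ i < a, x = p ^ i) : 2 * S.sum + 1 ≤ p ^ a := by
  have hle : S.sum ≤ ∑ i ∈ Finset.range a, p ^ i := by
    have hsub : S.toFinset ⊆ (Finset.range a).image (p ^ ·) := by
      intro x hx
      obtain ⟨i, hi, rfl⟩ := hS x (Multiset.mem_toFinset.mp hx)
      exact Finset.mem_image_of_mem _ (Finset.mem_range.mpr hi)
    calc S.sum = ∑ x ∈ S.toFinset, x := by
          rw [Finset.sum_eq_multiset_sum, Multiset.map_id', Multiset.toFinset_val, hnd.dedup]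
      _ ≤ ∑ x ∈ (Finset.range a).image (p ^ ·), x := Finset.sum_le_sum_of_subset hsub
      _ = _ := Finset.sum_image fun x _ y _ h => Nat.pow_right_injective (by omega) h
  have hgeo : ∀ a, 2 * (∑ i ∈ Finset.range a, p ^ i) + 1 ≤ p ^ a := by
    intro a
    induction a with
    | zero => simp
    | succ a ih =>
      rw [Finset.sum_range_succ, pow_succ']
      have : 3 * p ^ a ≤ p * p ^ a := Nat.mul_le_mul_right _ hp
      omega
  have := hgeo a
  omega

theorem length_mod_two : ∀ (L : List ℕ), (∀ k ∈ L, k % 2 = 1) → L.length % 2 = L.sum % 2 := by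
  intro L
  induction L with
  | nil => intro _; rfl
  | cons k L ih =>
    intro h
    have := ih fun j hj => h j (mem_cons_of_mem _ hj)
    have := h k mem_cons_self
    rw [length_cons, sum_cons]
    omega

theorem cycleType_nine_two :
    (cyc (5 : Fin 9) 4 3 * cyc 2 0 1).cycleType = Multiset.replicate 2 3 := by
  rw [(show Perm.Disjoint (cyc (5 : Fin 9) 4 3) (cyc 2 0 1) by unfold Perm.Disjoint; decide).cycleType_mul,
    (isThreeCycle_cyc (by decide) (by decide) (by decide)).cycleType,
    (isThreeCycle_cyc (by decide) (by decide) (by decide)).cycleType]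
  rfl

theorem cycleType_nine_three :
    (cyc (8 : Fin 9) 7 6 * cyc 5 3 4 * cyc 2 0 1).cycleType = Multiset.replicate 3 3 := by
  rw [(show Perm.Disjoint (cyc (8 : Fin 9) 7 6 * cyc 5 3 4) (cyc 2 0 1) by
      unfold Perm.Disjoint; decide).cycleType_mul,
    (show Perm.Disjoint (cyc (8 : Fin 9) 7 6) (cyc 5 3 4) by unfold Perm.Disjoint; decide).cycleType_mul,
    (isThreeCycle_cyc (by decide) (by decide) (by decide)).cycleType,
    (isThreeCycle_cyc (by decide) (by decide) (by decide)).cycleType,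
    (isThreeCycle_cyc (by decide) (by decide) (by decide)).cycleType]
  rfl

/-- A good partner of the long cycle with prescribed short cycles. -/
theorem exists_good_partner {p a : ℕ} [NeZero (p ^ a)] (hp : p.Prime) (hp3 : 3 ≤ p) (h5 : 5 ≤ p ^ a)
    (M : Multiset ℕ) (hM : M ≠ 0) (hMs : M.sum ≤ p ^ a)
    (hparts : ∀ x ∈ M, ∃ i, 1 ≤ i ∧ i < a ∧ x = p ^ i) :
    ∃ b : Perm (Fin (p ^ a)), b.cycleType = M ∧ GoodPair p (shift (p ^ a)) b := by
  have hp2 : p ≠ 2 := by omega
  set P := p ^ a with hP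
  have hPo : P % 2 = 1 := Nat.odd_iff.mp ((hp.odd_of_ne_two hp2).pow)
  have hodd : ∀ x ∈ M, x % 2 = 1 ∧ 3 ≤ x := by
    intro x hx
    obtain ⟨i, hi, -, rfl⟩ := hparts x hx
    refine ⟨Nat.odd_iff.mp ((hp.odd_of_ne_two hp2).pow), ?_⟩
    calc 3 ≤ p ^ 1 := by simpa using hp3
      _ ≤ p ^ i := Nat.pow_le_pow_right (by omega) hi
  -- a list of pieces starting with `pre`
  have main : ∀ (pre rest : List ℕ) (y : ℕ), ((pre ++ rest : List ℕ) : Multiset ℕ) = M → (y = 3 ∨ (y = 4 ∧ 10 ≤ P)) →
      7 ≤ P →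
      (∀ post : List ℕ, Inner (pre ++ post) 0 ∧ Inner (pre ++ post) 1 ∧ Inner (pre ++ post) (y - 1) ∧
        Inner (pre ++ post) y) →
      ∃ b : Perm (Fin P), b.cycleType = M ∧ GoodPair p (shift P) b := by
    intro pre rest y hML hy h7 hinner
    have hmem : ∀ k ∈ pre ++ rest, k % 2 = 1 ∧ 3 ≤ k := fun k hk => hodd k (hML ▸ Multiset.mem_coe.mpr hk)
    have hsumM : (pre ++ rest).sum = M.sum := by rw [← hML, Multiset.sum_coe]
    set L := pre ++ (rest ++ replicate (P - M.sum) 1) with hL
    have hL' : L = (pre ++ rest) ++ replicate (P - M.sum) 1 := by rw [hL, append_assoc]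
    have hLmem : ∀ k ∈ L, k % 2 = 1 := by
      intro k hk
      rw [hL', mem_append] at hk
      rcases hk with hk | hk
      · exact (hmem k hk).1
      · rw [(mem_replicate.mp hk).2]
    have hLsum : L.sum = P := by
      rw [hL', sum_append, hsumM, sum_replicate, smul_eq_mul, mul_one]; omega
    have hLlen : Odd L.length := Nat.odd_iff.mpr (by rw [length_mod_two L hLmem, hLsum, hPo])
    obtain ⟨b₀, -, hct, hgood⟩ := exists_tweak h7 hPo hp hp2 L (fun k hk => by have := hLmem k hk; omega)
      hLsum hLlen y hy (hinner _).1 (hinner _).2.1 (hinner _).2.2.1 (hinner _).2.2.2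
    refine ⟨_, ?_, hgood⟩
    nth_rw 2 [show swap (pt P 1) (pt P y) = (swap (pt P 1) (pt P y))⁻¹ from (swap_inv _ _).symm]
    rw [cycleType_conj, hct, hL', filter_append, filter_eq_self.mpr (fun k hk => by
      have := (hmem k hk).2; simp; omega), filter_eq_nil_iff.mpr (fun k hk => by
      simp [(mem_replicate.mp hk).2]), append_nil, hML]
  by_cases hbig : ∃ x ∈ M, 5 ≤ x
  · obtain ⟨x, hx, hx5⟩ := hbig
    obtain ⟨i, hi, hia, hxi⟩ := hparts x hx
    have hxP : x * 3 ≤ P := by
      rw [hxi, hP]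
      calc p ^ i * 3 ≤ p ^ i * p := Nat.mul_le_mul_left _ hp3
        _ = p ^ (i + 1) := (pow_succ p i).symm
        _ ≤ p ^ a := Nat.pow_le_pow_right (by omega) hia
    refine main [x] (M.erase x).toList 3 ?_ (Or.inl rfl) (by omega) fun post => ?_
    · rw [singleton_append, ← Multiset.cons_coe, Multiset.coe_toList, Multiset.cons_erase hx]
    · exact ⟨Or.inl (by omega), Or.inl (by omega), Or.inl (by omega), Or.inl (by omega)⟩
  -- all pieces are triples
  push Not at hbig
  have h3 : ∀ x ∈ M, x = 3 := fun x hx => by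
    have := hodd x hx; have := hbig x hx; omega
  obtain ⟨x, hx⟩ := Multiset.exists_mem_of_ne_zero hM
  obtain ⟨i, hi, hia, hxi⟩ := hparts x hx
  rw [h3 x hx] at hxi
  have hp' : p = 3 := by
    have h1 : p ∣ 3 := hxi ▸ dvd_pow_self p (by omega)
    exact (Nat.prime_dvd_prime_iff_eq hp Nat.prime_three).mp h1
  subst hp'
  have h9 : 3 ^ 2 ≤ P := Nat.pow_le_pow_right (by omega) (by omega)
  have hMrep : M = Multiset.replicate (Multiset.card M) 3 := Multiset.eq_replicate_card.mpr h3
  rcases Nat.lt_or_ge (Multiset.card M) 2 with hc | hc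
  · have hc1 : Multiset.card M = 1 := by
      have := Multiset.card_pos.mpr hM; omega
    obtain ⟨b, hb, hgood⟩ := exists_single_three (P := P) (by omega) (dvd_pow_self 3 (by omega))
    exact ⟨b, by rw [hb, hMrep, hc1]; rfl, hgood⟩
  rcases Nat.lt_or_ge 2 a with ha | ha
  · have h27 : 3 ^ 3 ≤ P := Nat.pow_le_pow_right (by omega) ha
    refine main [3, 3] (replicate (Multiset.card M - 2) 3) 4 ?_ (Or.inr ⟨rfl, by omega⟩) (by omega) fun post => ?_
    · rw [show [3, 3] = replicate 2 (3 : ℕ) from rfl, replicate_append_replicate, Multiset.coe_replicate,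
        show 2 + (Multiset.card M - 2) = Multiset.card M by omega, ← hMrep]
    · exact ⟨Or.inl (by omega), Or.inl (by omega), Or.inr ⟨by omega, Or.inl (by omega)⟩,
        Or.inr ⟨by omega, Or.inl (by omega)⟩⟩
  · obtain rfl : a = 2 := by omega
    have hcle : Multiset.card M ≤ 3 := by
      have := hMs
      rw [hMrep, Multiset.sum_replicate, smul_eq_mul, hP] at this
      omega
    change ∃ b : Perm (Fin 9), b.cycleType = M ∧ GoodPair 3 (shift 9) b
    interval_cases h : Multiset.card M
    · exact ⟨_, by rw [cycleType_nine_two, hMrep], good_nine_two⟩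
    · exact ⟨_, by rw [cycleType_nine_three, hMrep], good_nine_three⟩

/-- The main statement when the longest cycle occurs in `u`. -/
theorem exists_goodPair_of_max {p : ℕ} (hp : p.Prime) (hp3 : 3 ≤ p) (hn : 5 ≤ Fintype.card α)
    {u w : Perm α} (hw : w ≠ 1) {a : ℕ} (ha : 1 ≤ a) (hmax : p ^ a ∈ u.cycleType)
    (hu' : ∀ x ∈ u.cycleType, ∃ i, 1 ≤ i ∧ i ≤ a ∧ x = p ^ i)
    (hw' : ∀ x ∈ w.cycleType, ∃ i, 1 ≤ i ∧ i ≤ a ∧ x = p ^ i) :
    ∃ g ∈ alternatingGroup α, GoodPair p u (g * w * g⁻¹) := by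
  have hsu := u.sum_cycleType ▸ u.support.card_le_univ
  have hsw := w.sum_cycleType ▸ w.support.card_le_univ
  have hw0 : w.cycleType ≠ 0 := fun h => hw (cycleType_eq_zero.mp h)
  have hPu : p ^ a ≤ u.cycleType.sum := Multiset.le_sum_of_mem hmax
  rcases Nat.lt_or_ge (p ^ a) 5 with hsmall | h5
  · -- only three-cycles
    have hpa : p = 3 ∧ a = 1 := by
      have h1 : p ≤ p ^ a := Nat.le_self_pow (by omega) p
      have h2 : p = 3 := by
        rcases (show p = 3 ∨ p = 4 by omega) with h | h
        · exact h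
        · subst h; exact absurd hp (by norm_num)
      subst h2
      refine ⟨rfl, ?_⟩
      by_contra hne
      have : 3 ^ 2 ≤ 3 ^ a := Nat.pow_le_pow_right (by omega) (by omega)
      omega
    obtain ⟨rfl, rfl⟩ := hpa
    have hrep : ∀ v : Perm α, (∀ x ∈ v.cycleType, ∃ i, 1 ≤ i ∧ i ≤ 1 ∧ x = 3 ^ i) →
        v.cycleType = Multiset.replicate (Multiset.card v.cycleType) 3 := fun v hv =>
      Multiset.eq_replicate_card.mpr fun x hx => by
        obtain ⟨i, h1, h2, rfl⟩ := hv x hx
        rw [show i = 1 by omega, pow_one]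
    have hU := hrep u hu'
    have hW := hrep w hw'
    set k := Multiset.card u.cycleType
    set l := Multiset.card w.cycleType
    have hk : 1 ≤ k := Multiset.card_pos.mpr fun h => by rw [h] at hmax; simp at hmax
    have hl : 1 ≤ l := Multiset.card_pos.mpr hw0
    rw [hU, Multiset.sum_replicate, smul_eq_mul] at hsu
    rw [hW, Multiset.sum_replicate, smul_eq_mul] at hsw
    have hcent : ¬ Subgroup.centralizer {u} ≤ alternatingGroup α := by
      rw [centralizer_le_alternating_iff, not_and, not_and]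
      intro _ hc hcount
      rw [hU, Multiset.sum_replicate, smul_eq_mul] at hc
      have := hcount 3
      rw [hU, Multiset.count_replicate_self] at this
      omega
    have c5 : ∀ x y z : Fin 5, x ≠ y → x ≠ z → y ≠ z → (cyc x y z).cycleType = {3} :=
      fun x y z h1 h2 h3 => (isThreeCycle_cyc h1 h2 h3).cycleType
    have c6 : ∀ x y z : Fin 6, x ≠ y → x ≠ z → y ≠ z → (cyc x y z).cycleType = {3} :=
      fun x y z h1 h2 h3 => (isThreeCycle_cyc h1 h2 h3).cycleType
    have hsub : ∀ (t j : ℕ), j ≤ t → (Multiset.replicate t 3 - Multiset.replicate j 3).sum = 3 * t - 3 * j := by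
      intro t j hj
      obtain ⟨d, rfl⟩ := Nat.exists_eq_add_of_le hj
      rw [Multiset.replicate_add, add_tsub_cancel_left, Multiset.sum_replicate, smul_eq_mul]
      omega
    have hpair : Multiset.replicate 2 3 = ({3} : Multiset ℕ) + {3} := rfl
    have hone : Multiset.replicate 1 3 = ({3} : Multiset ℕ) := rfl
    have hle : ∀ j t : ℕ, j ≤ t → Multiset.replicate j 3 ≤ Multiset.replicate t 3 := fun j t h =>
      Multiset.le_replicate_iff.mpr ⟨j, h, rfl⟩
    suffices ∃ g, GoodPair 3 u (g * w * g⁻¹) by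
      obtain ⟨g, hg⟩ := this
      exact exists_even_of_centralizer_left g hg hcent
    have d12 : (cyc (5 : Fin 6) 2 4 * cyc 3 0 1).cycleType = Multiset.replicate 2 3 := by
      rw [(show Perm.Disjoint (cyc (5 : Fin 6) 2 4) (cyc 3 0 1) by unfold Perm.Disjoint; decide).cycleType_mul,
        c6 _ _ _ (by decide) (by decide) (by decide), c6 _ _ _ (by decide) (by decide) (by decide), hpair]
    rcases Nat.lt_or_ge k 2 with hk2 | hk2 <;> rcases Nat.lt_or_ge l 2 with hl2 | hl2
    · refine exists_goodPair_of_model (by omega) good_three_one_one ?_ ?_ ?_ ?_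
      all_goals rw [c5 _ _ _ (by decide) (by decide) (by decide), ← hone]
      · exact hU ▸ hle _ _ (by omega)
      · exact hW ▸ hle _ _ (by omega)
      · rw [hU, hsub _ _ (by omega)]; omega
      · rw [hW, hsub _ _ (by omega)]; omega
    · refine exists_goodPair_of_model (by omega) good_three_one_two ?_ ?_ ?_ ?_
      · rw [c6 _ _ _ (by decide) (by decide) (by decide), ← hone]; exact hU ▸ hle _ _ (by omega)
      · rw [d12]; exact hW ▸ hle _ _ (by omega)
      · rw [c6 _ _ _ (by decide) (by decide) (by decide), ← hone, hU, hsub _ _ (by omega)]; omega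
      · rw [d12, hW, hsub _ _ (by omega)]; omega
    · -- exchange the roles
      obtain ⟨g, hg⟩ : ∃ g, GoodPair 3 w (g * u * g⁻¹) := by
        refine exists_goodPair_of_model (by omega) good_three_one_two ?_ ?_ ?_ ?_
        · rw [c6 _ _ _ (by decide) (by decide) (by decide), ← hone]; exact hW ▸ hle _ _ (by omega)
        · rw [d12]; exact hU ▸ hle _ _ (by omega)
        · rw [c6 _ _ _ (by decide) (by decide) (by decide), ← hone, hW, hsub _ _ (by omega)]; omega
        · rw [d12, hU, hsub _ _ (by omega)]; omega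
      refine ⟨g⁻¹, ?_⟩
      have h' := hg.symm.conj g⁻¹
      rw [show g⁻¹ * (g * u * g⁻¹) * g⁻¹⁻¹ = u by group] at h'
      exact h'
    · refine exists_goodPair_of_model (by omega) good_three_two_two ?_ ?_ ?_ ?_
      all_goals rw [(show Perm.Disjoint _ _ by unfold Perm.Disjoint; decide).cycleType_mul,
        c6 _ _ _ (by decide) (by decide) (by decide), c6 _ _ _ (by decide) (by decide) (by decide), ← hpair]
      · exact hU ▸ hle _ _ (by omega)
      · exact hW ▸ hle _ _ (by omega)
      · rw [hU, hsub _ _ (by omega)]; omega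
      · rw [hW, hsub _ _ (by omega)]; omega
  haveI : NeZero (p ^ a) := ⟨by omega⟩
  have hct : (shift (p ^ a)).cycleType = {p ^ a} := cycleType_shift (by omega)
  have hrest : ∀ v : Perm α, p ^ a ∈ v.cycleType → v.cycleType.sum ≤ Fintype.card α →
      (v.cycleType - {p ^ a}).sum + p ^ a ≤ Fintype.card α := by
    intro v hv hle
    rw [Multiset.sub_singleton]
    have := Multiset.sum_cons (p ^ a) (v.cycleType.erase (p ^ a))
    rw [Multiset.cons_erase hv] at this
    omega
  by_cases hPw : p ^ a ∈ w.cycleType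
  · -- two long cycles
    rcases Nat.lt_or_ge (p ^ a) 7 with h7 | h7
    · have h55 : p ^ a = 5 := by
        have := Nat.odd_iff.mp ((hp.odd_of_ne_two (by omega)).pow (n := a))
        omega
      have hp5 : p = 5 := (Nat.prime_dvd_prime_iff_eq hp (by norm_num)).mp
        (h55 ▸ dvd_pow_self p (by omega))
      subst hp5
      have hb : (formPerm [(4 : Fin 5), 3, 0, 1, 2]).cycleType = {5} := by
        rw [cycleType_formPerm_list _ (by decide)]; rfl
      have ha5 : (shift 5).cycleType = {5} := cycleType_shift (by omega)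
      rw [h55] at hmax hPw hrest
      refine exists_even_of_two_classes (by omega) good_five_first good_five_second
        (sign_swap (by decide)) ?_ ?_ ?_ ?_
      · rw [ha5]; exact Multiset.singleton_le.mpr hmax
      · rw [hb]; exact Multiset.singleton_le.mpr hPw
      · rw [ha5]; exact hrest u hmax hsu
      · rw [hb]; exact hrest w hPw hsw
    · obtain ⟨b, h₀, hh₀, hb, hg, hg'⟩ := exists_second_class (P := p ^ a) h7
        (Nat.odd_iff.mp ((hp.odd_of_ne_two (by omega)).pow)) hp (by omega)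
      refine exists_even_of_two_classes (by omega) hg hg' hh₀ ?_ ?_ ?_ ?_
      · rw [hct]; exact Multiset.singleton_le.mpr hmax
      · rw [hb]; exact Multiset.singleton_le.mpr hPw
      · rw [hct]; exact hrest u hmax hsu
      · rw [hb]; exact hrest w hPw hsw
  -- shorter cycles in `w`
  have hwlt : ∀ x ∈ w.cycleType, ∃ i, 1 ≤ i ∧ i < a ∧ x = p ^ i := by
    intro x hx
    obtain ⟨i, h1, h2, rfl⟩ := hw' x hx
    refine ⟨i, h1, lt_of_le_of_ne h2 fun h => hPw (h ▸ hx), rfl⟩
  have hcent : ¬ Subgroup.centralizer {w} ≤ alternatingGroup α := by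
    rw [centralizer_le_alternating_iff, not_and, not_and]
    intro _ hc hcount
    have := two_mul_sum_le hp3 (Multiset.nodup_iff_count_le_one.mpr hcount)
      (fun x hx => (hwlt x hx).imp fun i hi => ⟨hi.2.1, hi.2.2⟩)
    omega
  obtain ⟨M, hM, hM0, hMs, hMr⟩ : ∃ M ≤ w.cycleType, M ≠ 0 ∧ M.sum ≤ p ^ a ∧
      (w.cycleType - M).sum + p ^ a ≤ Fintype.card α := by
    rcases Nat.lt_or_ge w.cycleType.sum (p ^ a) with h | h
    · refine ⟨w.cycleType, le_rfl, hw0, h.le, ?_⟩
      rw [tsub_self, Multiset.sum_zero]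
      omega
    · obtain ⟨M, hM, hMs⟩ := exists_fill a w.cycleType
        (fun x hx => (hwlt x hx).imp fun i hi => ⟨hi.2.1.le, hi.2.2⟩) h
      refine ⟨M, hM, fun h0 => by rw [h0] at hMs; simp at hMs; omega, hMs.le, ?_⟩
      have : (w.cycleType - M).sum + M.sum = w.cycleType.sum := by
        rw [← Multiset.sum_add, tsub_add_cancel_of_le hM]
      omega
  obtain ⟨b, hb, hg⟩ := exists_good_partner hp hp3 h5 M hM0 hMs (fun x hx => hwlt x (Multiset.mem_of_le hM hx))
  obtain ⟨g, hg'⟩ := exists_goodPair_of_model (u := u) (w := w) (by omega) hg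
    (hct ▸ Multiset.singleton_le.mpr hmax) (hb ▸ hM) (hct ▸ hrest u hmax hsu) (hb ▸ hMr)
  exact exists_even_of_centralizer g hg' hcent

/-- Elements of odd prime power order in the alternating group have good conjugates. -/
theorem exists_goodPair {p : ℕ} (hp : p.Prime) (hp3 : 3 ≤ p) (hn : 5 ≤ Fintype.card α)
    {u w : Perm α} (hu : u ≠ 1) (hw : w ≠ 1) (hu' : ∃ k, orderOf u = p ^ k)
    (hw' : ∃ k, orderOf w = p ^ k) : ∃ g ∈ alternatingGroup α, GoodPair p u (g * w * g⁻¹) := by
  have hparts : ∀ v : Perm α, (∃ k, orderOf v = p ^ k) → ∀ x ∈ v.cycleType, ∃ i, 1 ≤ i ∧ x = p ^ i := by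
    rintro v ⟨k, hk⟩ x hx
    obtain ⟨i, -, rfl⟩ := (Nat.dvd_prime_pow hp).mp (hk ▸ dvd_of_mem_cycleType hx)
    refine ⟨i, ?_, rfl⟩
    have := two_le_of_mem_cycleType hx
    rcases i with _ | i <;> simp_all
  have hne : u.cycleType + w.cycleType ≠ 0 := fun h => hu (cycleType_eq_zero.mp (add_eq_zero.mp h).1)
  obtain ⟨x, hxm, hxmax⟩ := Finset.exists_max_image (u.cycleType + w.cycleType).toFinset id
    (by rwa [Multiset.toFinset_nonempty])
  rw [Multiset.mem_toFinset] at hxm
  obtain ⟨a, ha, rfl⟩ : ∃ a, 1 ≤ a ∧ x = p ^ a := by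
    rcases Multiset.mem_add.mp hxm with h | h
    · exact hparts u hu' x h
    · exact hparts w hw' x h
  have hb : ∀ v : Perm α, (∃ k, orderOf v = p ^ k) → (∀ y ∈ v.cycleType, y ∈ u.cycleType + w.cycleType) →
      ∀ y ∈ v.cycleType, ∃ i, 1 ≤ i ∧ i ≤ a ∧ y = p ^ i := by
    intro v hv hsub y hy
    obtain ⟨i, hi, rfl⟩ := hparts v hv y hy
    have hle : p ^ i ≤ p ^ a := hxmax _ (Multiset.mem_toFinset.mpr (hsub _ hy))
    exact ⟨i, hi, (Nat.pow_le_pow_iff_right hp.one_lt).mp hle, rfl⟩
  have hbu := hb u hu' fun y hy => Multiset.mem_add.mpr (Or.inl hy)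
  have hbw := hb w hw' fun y hy => Multiset.mem_add.mpr (Or.inr hy)
  rcases Multiset.mem_add.mp hxm with h | h
  · exact exists_goodPair_of_max hp hp3 hn hw ha h hbu hbw
  · obtain ⟨g, hgA, hg⟩ := exists_goodPair_of_max hp hp3 hn hu ha h hbw hbu
    refine ⟨g⁻¹, inv_mem hgA, ?_⟩
    have h' := hg.symm.conj g⁻¹
    rw [show g⁻¹ * (g * u * g⁻¹) * g⁻¹⁻¹ = u by group] at h'
    exact h'

end H63
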