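import Cfsg.Agent.H63.BlockCycles
import Cfsg.Agent.H63.SylowTwoMaximal
import Mathlib

/-!
Configurations of pairs of permutations of odd prime power order: for a single `P`-cycle `a`
(and small exceptional shapes) and any cycle shape on `P` points there is a `b` of that shape
with `a * b` not of `p`-power order and `⟨a, b⟩` not solvable.
-/

set_option autoImplicit false

namespace H63

open List Equiv Equiv.Perm
open scoped commutatorElement

universe u

section criterion

variable {G : Type*} [Group G]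

/-- `a * b` has not `p`-power order and `⟨a, b⟩` is not solvable. -/
def GoodPair (p : ℕ) (a b : G) : Prop :=
  (∀ k : ℕ, (a * b) ^ p ^ k ≠ 1) ∧ ¬ Group.IsSolvable (Subgroup.closure ({a, b} : Set G))

/-- A pair of which each is a commutator in the group they generate does not lie in a solvable
subgroup. -/
theorem not_isSolvable_of_commutators {H : Subgroup G} {x y : G} (hx : x ∈ H) (hy : y ∈ H)
    (hx1 : x ≠ 1) {u v s t : G} (hu : u ∈ Subgroup.closure ({x, y} : Set G))
    (hv : v ∈ Subgroup.closure ({x, y} : Set G)) (hs : s ∈ Subgroup.closure ({x, y} : Set G))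
    (ht : t ∈ Subgroup.closure ({x, y} : Set G))
    (hxe : u * v * u⁻¹ * v⁻¹ = x) (hye : s * t * s⁻¹ * t⁻¹ = y) : ¬ Group.IsSolvable H := by
  intro hH
  set K := Subgroup.closure ({x, y} : Set G)
  have hKH : K ≤ H := (Subgroup.closure_le _).mpr (by
    rintro z (rfl | rfl) <;> assumption)
  have hK : Group.IsSolvable K :=
    Group.isSolvable_of_isSolvable_injective (f := Subgroup.inclusion hKH) (Subgroup.inclusion_injective hKH)
  have hperf : commutator K = ⊤ := by
    rw [eq_top_iff]
    intro z _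
    have key : K ≤ (commutator K).map K.subtype := by
      refine (Subgroup.closure_le _).mpr ?_
      rintro w (rfl | rfl)
      · exact ⟨⁅(⟨u, hu⟩ : K), ⟨v, hv⟩⁆,
          Subgroup.commutator_mem_commutator (Subgroup.mem_top _) (Subgroup.mem_top _), hxe⟩
      · exact ⟨⁅(⟨s, hs⟩ : K), ⟨t, ht⟩⁆,
          Subgroup.commutator_mem_commutator (Subgroup.mem_top _) (Subgroup.mem_top _), hye⟩
    obtain ⟨w, hw, hwz⟩ := key z.2
    rwa [← Subtype.ext hwz]
  obtain ⟨n, hn⟩ := (Group.isSolvable_def K).mp hK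
  have hall : ∀ m, derivedSeries K m = ⊤ := by
    intro m
    induction m with
    | zero => rfl
    | succ m ih => rw [derivedSeries_succ, ih]; exact hperf
  rw [hall n] at hn
  have : (⟨x, Subgroup.subset_closure (by simp)⟩ : K) ∈ (⊥ : Subgroup K) := hn ▸ Subgroup.mem_top _
  exact hx1 (congrArg Subtype.val (Subgroup.mem_bot.mp this))

theorem not_eq_one_pow_of_pow_coprime {c : G} (hc : c ≠ 1) {p m : ℕ} (hp : p.Prime)
    (hm : ¬ p ∣ m) (h : c ^ m = 1) (k : ℕ) : c ^ p ^ k ≠ 1 := by
  intro hk
  apply hc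
  rw [← orderOf_eq_one_iff]
  refine Nat.eq_one_of_dvd_one ?_
  have hcop : Nat.gcd m (p ^ k) = 1 := ((hp.coprime_iff_not_dvd.mpr hm).symm.pow_right k).gcd_eq_one
  rw [← hcop]
  exact Nat.dvd_gcd (orderOf_dvd_of_pow_eq_one h) (orderOf_dvd_of_pow_eq_one hk)

end criterion

section threeCycles

variable {α : Type u} [Fintype α] [DecidableEq α]

theorem cyc_inv (a b c : α) : (cyc a b c)⁻¹ = cyc c b a := by
  simp [cyc, swap_comm a b, swap_comm b c]

theorem comm_eq_cyc {x y : Perm α} {i : α} (hx : x i ≠ i) (hy : y i ≠ i)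
    (h : ∀ z, x z ≠ z → y z ≠ z → z = i) : x * y * x⁻¹ * y⁻¹ = cyc i (x i) (y i) := by
  have hxy : x i ≠ y i := by
    intro e
    have h2 : y (x i) = x i := by
      by_contra h2
      exact hx (h _ (fun e' => hx (x.injective e')) h2)
    exact hx (y.injective (h2.trans e))
  have hx_inv : ∀ z, x z = z → x⁻¹ z = z := fun z hz => by
    rw [Perm.inv_eq_iff_eq, hz]
  have hy_inv : ∀ z, y z = z → y⁻¹ z = z := fun z hz => by
    rw [Perm.inv_eq_iff_eq, hz]
  have only_y : ∀ z, z ≠ i → y z ≠ z → x z = z := fun z hz h2 => by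
    by_contra h1; exact hz (h z h1 h2)
  have only_x : ∀ z, z ≠ i → x z ≠ z → y z = z := fun z hz h1 => by
    by_contra h2; exact hz (h z h1 h2)
  ext z
  simp only [Perm.mul_apply]
  by_cases hzi : z = i
  · subst hzi
    rw [cyc_apply_first (Ne.symm hx) (Ne.symm hy)]
    have h1 : y⁻¹ z ≠ z := fun e => hy (by rw [Perm.inv_eq_iff_eq] at e; exact e.symm)
    have h2 : x (y⁻¹ z) = y⁻¹ z := only_y _ h1 (by simpa using Ne.symm h1)
    rw [hx_inv _ h2]
    simp
  by_cases hzx : z = x i
  · subst hzx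
    rw [cyc_apply_second (Ne.symm hy) hxy]
    have h1 : y (x i) = x i := only_x _ hx (fun e => hx (x.injective e))
    have h2 : x (y i) = y i := only_y _ hy (fun e => hy (y.injective e))
    rw [hy_inv _ h1]
    simp [h2]
  by_cases hzy : z = y i
  · subst hzy
    rw [cyc_apply_third]
    have h1 : x⁻¹ i ≠ i := fun e => hx (by rw [Perm.inv_eq_iff_eq] at e; exact e.symm)
    have h2 : y (x⁻¹ i) = x⁻¹ i := only_x _ h1 (by simpa using Ne.symm h1)
    rw [show y⁻¹ (y i) = i by simp, h2]
    simp
  rw [cyc_apply_of_ne hzi hzx hzy]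
  by_cases hyz : y z = z
  · rw [hy_inv _ hyz]
    have h2 : y (x⁻¹ z) = x⁻¹ z := by
      by_cases h3 : x⁻¹ z = z
      · rw [h3, hyz]
      · refine only_x _ (fun e => hzx ?_) (by simpa using Ne.symm h3)
        rw [← e]; simp
    rw [h2]
    simp
  · have h1 : y⁻¹ z ≠ i := fun e => hzy (by rw [← e]; simp)
    have h2 : x (y⁻¹ z) = y⁻¹ z := only_y _ h1 (fun e => hyz (by
      have e' : z = y⁻¹ z := by simpa using e
      calc y z = y (y⁻¹ z) := by rw [← e']
        _ = z := by simp))
    rw [hx_inv _ h2]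
    simp [only_y z hzi hyz]

theorem viaFintypeEmbedding_mul {β : Type*} [Fintype β] (f g : Perm β) (ι : β ↪ α) :
    (f * g).viaFintypeEmbedding ι = f.viaFintypeEmbedding ι * g.viaFintypeEmbedding ι :=
  (Equiv.Perm.extendDomain_mul _ f g).symm

/-- Extension of permutations along an embedding. -/
def embHom {β : Type*} [Fintype β] (ι : β ↪ α) : Perm β →* Perm α where
  toFun f := f.viaFintypeEmbedding ι
  map_one' := Equiv.Perm.extendDomain_one _
  map_mul' f g := viaFintypeEmbedding_mul f g ι

theorem embHom_apply {β : Type*} [Fintype β] (ι : β ↪ α) (f : Perm β) (b : β) :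
    embHom ι f (ι b) = ι (f b) := Equiv.Perm.viaFintypeEmbedding_apply_image _ _ _

theorem embHom_apply_of_notMem {β : Type*} [Fintype β] (ι : β ↪ α) (f : Perm β) {z : α}
    (hz : z ∉ Set.range ι) : embHom ι f z = z :=
  Equiv.Perm.viaFintypeEmbedding_apply_notMem_range _ _ hz

theorem embHom_swap {β : Type*} [Fintype β] [DecidableEq β] (ι : β ↪ α) (a b : β) :
    embHom ι (swap a b) = swap (ι a) (ι b) := by
  ext z
  by_cases hz : z ∈ Set.range ι
  · obtain ⟨j, rfl⟩ := hz
    rw [embHom_apply, Function.Embedding.swap_apply]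
  · rw [embHom_apply_of_notMem ι _ hz, swap_apply_of_ne_of_ne]
    · exact fun e => hz ⟨a, e.symm⟩
    · exact fun e => hz ⟨b, e.symm⟩

/-- Two three-cycles meeting in one point do not lie in a solvable group. -/
theorem not_isSolvable_of_three_cycles {H : Subgroup (Perm α)} {a₁ a₂ i b₁ b₂ : α}
    (hnd : [a₁, a₂, i, b₁, b₂].Nodup) (h1 : cyc a₁ a₂ i ∈ H) (h2 : cyc i b₁ b₂ ∈ H) :
    ¬ Group.IsSolvable H := by
  let ι : Fin 5 ↪ α := ⟨fun j => [a₁, a₂, i, b₁, b₂].get (j.cast rfl),
    (List.nodup_iff_injective_get.mp hnd).comp (Fin.cast_injective _)⟩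
  let φ := embHom ι
  have hφ : ∀ a b c : Fin 5, φ (cyc a b c) = cyc (ι a) (ι b) (ι c) := fun a b c => by
    simp [φ, cyc, embHom_swap]
  set x : Perm (Fin 5) := cyc 0 1 2
  set y : Perm (Fin 5) := cyc 2 3 4
  have hx : φ x = cyc a₁ a₂ i := hφ 0 1 2
  have hy : φ y = cyc i b₁ b₂ := hφ 2 3 4
  have hxm : φ x ∈ Subgroup.closure ({φ x, φ y} : Set (Perm α)) := Subgroup.subset_closure (by simp)
  have hym : φ y ∈ Subgroup.closure ({φ x, φ y} : Set (Perm α)) := Subgroup.subset_closure (by simp)
  refine not_isSolvable_of_commutators (x := φ x) (y := φ y) (hx ▸ h1) (hy ▸ h2) ?_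
    (u := φ x * φ x) (v := φ y * φ x * φ x * φ y * φ y * φ x * φ y)
    (s := φ y * φ y) (t := φ x * φ y * φ x * φ x * φ y * φ y * φ x)
    (mul_mem hxm hxm) (mul_mem (mul_mem (mul_mem (mul_mem (mul_mem (mul_mem hym hxm) hxm) hym) hym) hxm) hym)
    (mul_mem hym hym) (mul_mem (mul_mem (mul_mem (mul_mem (mul_mem (mul_mem hxm hym) hxm) hxm) hym) hym) hxm) ?_ ?_
  · intro h
    rw [hx] at h
    simp only [nodup_cons, mem_cons, not_mem_nil, or_false, not_or] at hnd
    have h' := cyc_apply_first hnd.1.1 hnd.1.2.1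
    rw [h] at h'
    exact hnd.1.1 h'
  · simp only [← map_mul, ← map_inv]
    exact congrArg φ (show x * x * (y * x * x * y * y * x * y) * (x * x)⁻¹ *
      (y * x * x * y * y * x * y)⁻¹ = x by decide +kernel)
  · simp only [← map_mul, ← map_inv]
    exact congrArg φ (show y * y * (x * y * x * x * y * y * x) * (y * y)⁻¹ *
      (x * y * x * x * y * y * x)⁻¹ = y by decide +kernel)

end threeCycles

section shift

variable {P : ℕ} [NeZero P]

/-- The `P`-cycle `i ↦ i + 1`. -/
def shift (P : ℕ) [NeZero P] : Perm (Fin P) := Equiv.addRight 1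

/-- The point with index `v`. -/
def pt (P : ℕ) [NeZero P] (v : ℕ) : Fin P := Fin.ofNat P v

theorem pt_val {v : ℕ} (h : v < P) : (pt P v).val = v := by
  simp [pt, Fin.ofNat, Nat.mod_eq_of_lt h]

theorem pt_ne {v w : ℕ} (hv : v < P) (hw : w < P) (h : v ≠ w) : pt P v ≠ pt P w := fun e =>
  h (by rw [← pt_val hv, ← pt_val hw, e])

theorem pt_add (v w : ℕ) : pt P (v + w) = pt P v + pt P w := by
  apply Fin.ext
  simp [pt, Fin.ofNat, Fin.val_add]

theorem pt_self_add (v : ℕ) : pt P (P + v) = pt P v := by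
  apply Fin.ext
  simp [pt, Fin.ofNat]

theorem eq_pt (z : Fin P) : z = pt P z.val := Fin.ext (pt_val z.2).symm

theorem shift_pow_apply (k : ℕ) (x : Fin P) : (shift P ^ k) x = x + pt P k := by
  induction k with
  | zero => simp [pt, Fin.ofNat]
  | succ k ih =>
    rw [pow_succ', Perm.mul_apply, ih, pt_add, ← add_assoc]
    simp [shift, pt]
    rfl

theorem shift_apply (x : Fin P) : shift P x = x + pt P 1 := by
  simpa using shift_pow_apply 1 x

theorem formPerm_finRange (hP : 2 ≤ P) : formPerm (finRange P) = shift P := by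
  ext x
  have hx : (finRange P)[x.val]'(by simp) = x := by simp
  have h := formPerm_apply_getElem (finRange P) (nodup_finRange P) x.val (by simp)
  rw [hx] at h
  rw [h, shift_apply]
  simp [Fin.val_add, pt_val (show 1 < P by omega)]

theorem cycleType_shift (hP : 2 ≤ P) : (shift P).cycleType = {P} := by
  rw [← formPerm_finRange hP, cycleType_formPerm_list _ (nodup_finRange P), length_finRange,
    if_pos hP]

theorem conj_shift_apply (D : Perm (Fin P)) (k : ℕ) (x : Fin P) :
    (shift P ^ k * D * (shift P ^ k)⁻¹) (x + pt P k) = D x + pt P k := by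
  have h : (shift P ^ k)⁻¹ (x + pt P k) = x := by rw [Perm.inv_eq_iff_eq, shift_pow_apply]
  rw [Perm.mul_apply, Perm.mul_apply, h, shift_pow_apply]

/-- From an element of small support: a three-cycle in any group containing it and the shift. -/
theorem cyc_mem_of_shift {H : Subgroup (Perm (Fin P))} (ha : shift P ∈ H) {D : Perm (Fin P)}
    (hD : D ∈ H) (k : ℕ) {i : Fin P} (h₁ : D i ≠ i) (h₂ : D (i - pt P k) ≠ i - pt P k)
    (h : ∀ z, D z ≠ z → D (z - pt P k) ≠ z - pt P k → z = i) :
    cyc i (D i) (D (i - pt P k) + pt P k) ∈ H := by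
  set y := shift P ^ k * D * (shift P ^ k)⁻¹ with hy
  have hyH : y ∈ H := mul_mem (mul_mem (pow_mem ha k) hD) (inv_mem (pow_mem ha k))
  have hyz : ∀ z, y z = D (z - pt P k) + pt P k := fun z => by
    have := conj_shift_apply D k (z - pt P k)
    rwa [sub_add_cancel] at this
  have hne : ∀ z, y z ≠ z ↔ D (z - pt P k) ≠ z - pt P k := fun z => by
    rw [hyz, ne_eq, ne_eq, not_iff_not, eq_sub_iff_add_eq]
  rw [← hyz, ← comm_eq_cyc h₁ ((hne i).mpr h₂) (fun z hz hz' => h z hz ((hne z).mp hz'))]
  exact mul_mem (mul_mem (mul_mem hD hyH) (inv_mem hD)) (inv_mem hyH)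

theorem not_isSolvable_of_cyc_shift {H : Subgroup (Perm (Fin P))} (ha : shift P ∈ H) {x₀ x₁ x₂ : Fin P}
    (hc : cyc x₀ x₁ x₂ ∈ H) (k : ℕ) (hk : x₀ + pt P k = x₂)
    (hnd : [x₀, x₁, x₂, x₁ + pt P k, x₂ + pt P k].Nodup) : ¬ Group.IsSolvable H := by
  refine not_isSolvable_of_three_cycles hnd hc ?_
  have h := mul_mem (mul_mem (pow_mem ha k) hc) (inv_mem (pow_mem ha k))
  rw [cyc_conj, shift_pow_apply, shift_pow_apply, shift_pow_apply, hk] at h
  exact h

end shift

section configurations

variable {P : ℕ} [NeZero P]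

/-- Basic configuration: pieces of lengths `L` and a product of order dividing the number of pieces. -/
theorem exists_pieces (hP : 2 ≤ P) (L : List ℕ) (hpos : ∀ k ∈ L, 1 ≤ k) (hsum : L.sum = P) :
    ∃ b₀ : Perm (Fin P), b₀.cycleType = ((L.filter fun k => 2 ≤ k) : Multiset ℕ) ∧
      (shift P * b₀) ^ L.length = 1 ∧
      (b₀ = (cutProd L (finRange P))⁻¹) ∧
      ∀ v, Inner L v → v + 1 < P → (shift P * b₀) (pt P (v + 1)) = pt P (v + 1) := by
  haveI : Inhabited (Fin P) := ⟨0⟩
  have hl : L.sum = (finRange P).length := by rw [hsum, length_finRange]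
  obtain ⟨h1, -, h3, h4, -⟩ := formPerm_eq_cut L (finRange P) hpos hl (nodup_finRange P)
  rw [formPerm_finRange hP] at h1
  refine ⟨(cutProd L (finRange P))⁻¹, ?_, ?_, rfl, ?_⟩
  · rw [cycleType_inv, cycleType_cutProd L _ hl (nodup_finRange P)]
  · rw [h1, conj_pow, ← h4, formPerm_pow_length_eq_one_of_nodup _ h3, mul_one, mul_inv_cancel]
  · intro v hv hvP
    have h := cutProd_apply_inner L (finRange P) (nodup_finRange P) v hv (by simp; omega)
    have e : ∀ w (hw : w < P), (finRange P)[w]'(by simpa using hw) = pt P w := fun w hw => by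
      apply Fin.ext; simp [pt_val hw]
    rw [e v (by omega), e (v + 1) hvP] at h
    rw [Perm.mul_apply, Perm.inv_eq_iff_eq.mpr h.symm, shift_apply, pt_add]

/-- Conjugate the pieces by a transposition of two inner points. -/
theorem exists_tweak (hP : 7 ≤ P) (hPo : P % 2 = 1) {p : ℕ} (hp : p.Prime) (hp2 : p ≠ 2) (L : List ℕ)
    (hpos : ∀ k ∈ L, 1 ≤ k) (hsum : L.sum = P) (hodd : Odd L.length) (y : ℕ)
    (hy : y = 3 ∨ (y = 4 ∧ 10 ≤ P))
    (h0 : Inner L 0) (h1 : Inner L 1) (h2 : Inner L (y - 1)) (h3 : Inner L y) :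
    ∃ b₀ : Perm (Fin P), b₀ = (cutProd L (finRange P))⁻¹ ∧
      b₀.cycleType = ((L.filter fun k => 2 ≤ k) : Multiset ℕ) ∧
      GoodPair p (shift P) (swap (pt P 1) (pt P y) * b₀ * swap (pt P 1) (pt P y)) := by
  obtain ⟨b₀, hb₀, hord, hb₀eq, hfix⟩ := exists_pieces (by omega) L hpos hsum
  refine ⟨b₀, hb₀eq, hb₀, ?_⟩
  set a := shift P
  set t := swap (pt P 1) (pt P y)
  set c := a * b₀
  have hy' : 3 ≤ y ∧ y + 1 < P := by omega
  have e1 : c (pt P 1) = pt P 1 := hfix 0 h0 (by omega)
  have e2 : c (pt P 2) = pt P 2 := hfix 1 h1 (by omega)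
  have e3 : c (pt P y) = pt P y := by
    have := hfix (y - 1) h2 (by omega)
    rwa [show y - 1 + 1 = y by omega] at this
  have e4 : c (pt P (y + 1)) = pt P (y + 1) := hfix y h3 (by omega)
  set t' := swap (pt P 2) (pt P (y + 1))
  have ht' : a * t * a⁻¹ = t' := by
    rw [swap_conj, shift_apply, shift_apply, ← pt_add, ← pt_add]
  have hct : Commute c t := by
    rw [Commute, SemiconjBy, Equiv.mul_swap_eq_swap_mul, e1, e3]
  have hct' : Commute c t' := by
    rw [Commute, SemiconjBy, Equiv.mul_swap_eq_swap_mul, e2, e4]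
  have hnd : [pt P 1, pt P y, pt P 2, pt P (y + 1)].Nodup := by
    simp only [nodup_cons, mem_cons, not_mem_nil, or_false, not_or, nodup_nil, and_true, not_false_eq_true]
    refine ⟨⟨?_, ?_, ?_⟩, ⟨?_, ?_⟩, ?_⟩ <;> apply pt_ne <;> omega
  have htt : Commute t t' := (disjoint_swaps hnd).commute
  set D := t' * t
  have hcD : Commute c D := hct'.mul_right hct
  have hprod : a * (t * b₀ * t) = D * c := by
    calc a * (t * b₀ * t) = (a * t * a⁻¹) * (a * b₀) * t := by group
      _ = t' * (c * t) := by rw [ht', mul_assoc]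
      _ = D * c := by rw [hct.eq, ← mul_assoc]
  have hD2 : D * D = 1 := by
    rw [show t' * t * (t' * t) = t' * (t * t') * t by group, htt.eq,
      show t' * (t' * t) * t = (t' * t') * (t * t) by group, swap_mul_self, swap_mul_self, one_mul]
  have hDne : D ≠ 1 := by
    intro h
    have h' := Equiv.ext_iff.mp h (pt P 1)
    simp only [D, Perm.mul_apply, t, t', swap_apply_left, Perm.one_apply] at h'
    rw [swap_apply_of_ne_of_ne (pt_ne (by omega) (by omega) (by omega))
      (pt_ne (by omega) (by omega) (by omega))] at h'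
    exact pt_ne (by omega) (by omega) (by omega) h'
  have hDr : ∀ m, Odd m → D ^ m = D := fun m ⟨j, hj⟩ => by
    rw [hj, pow_succ, pow_mul, pow_two, hD2, one_pow, one_mul]
  refine ⟨fun k hk => ?_, ?_⟩
  · rw [hprod] at hk
    have h : (D * c) ^ (p ^ k * L.length) = 1 := by rw [pow_mul, hk, one_pow]
    rw [hcD.symm.mul_pow, pow_mul' c, hord, one_pow, mul_one,
      hDr _ ((hp.odd_of_ne_two hp2).pow.mul hodd)] at h
    exact hDne h
  -- the double transposition lies in the group
  set H := Subgroup.closure ({a, t * b₀ * t} : Set (Perm (Fin P)))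
  have haH : a ∈ H := Subgroup.subset_closure (by simp)
  have hDH : D ∈ H := by
    have h := pow_mem (mul_mem haH (Subgroup.subset_closure (by simp) : t * b₀ * t ∈ H)) L.length
    rwa [hprod, hcD.symm.mul_pow, hord, mul_one, hDr _ hodd] at h
  have hDval : ∀ z : Fin P, D z = if z.val = 1 then pt P y else if z.val = y then pt P 1
      else if z.val = 2 then pt P (y + 1) else if z.val = y + 1 then pt P 2 else z := by
    intro z
    have q1 := pt_val (P := P) (show 1 < P by omega)
    have q2 := pt_val (P := P) (show y < P by omega)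
    have q3 := pt_val (P := P) (show 2 < P by omega)
    have q4 := pt_val (P := P) (show y + 1 < P by omega)
    have w1 : pt P 1 ≠ pt P 2 := pt_ne (by omega) (by omega) (by omega)
    have w2 : pt P 1 ≠ pt P (y + 1) := pt_ne (by omega) (by omega) (by omega)
    have w3 : pt P y ≠ pt P 2 := pt_ne (by omega) (by omega) (by omega)
    have w4 : pt P y ≠ pt P (y + 1) := pt_ne (by omega) (by omega) (by omega)
    have hz : ∀ v, z.val = v → z = pt P v := fun v hv => hv ▸ eq_pt z
    have hz' : ∀ v, v < P → z.val ≠ v → z ≠ pt P v := fun v hv hne e => hne (by rw [e, pt_val hv])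
    change (t' * t) z = _
    rw [Perm.mul_apply]
    split_ifs with c1 c2 c3 c4
    · rw [hz _ c1, swap_apply_left, swap_apply_of_ne_of_ne w3 w4]
    · rw [hz _ c2, swap_apply_right, swap_apply_of_ne_of_ne w1 w2]
    · rw [hz _ c3, swap_apply_of_ne_of_ne w1.symm w3.symm, swap_apply_left]
    · rw [hz _ c4, swap_apply_of_ne_of_ne w2.symm w4.symm, swap_apply_right]
    · rw [swap_apply_of_ne_of_ne (hz' _ (by omega) c1) (hz' _ (by omega) c2),
        swap_apply_of_ne_of_ne (hz' _ (by omega) c3) (hz' _ (by omega) c4)]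
  have hsub : ∀ (z : Fin P) (k : ℕ), k < P →
      (z - pt P k).val = if k ≤ z.val then z.val - k else z.val + P - k := by
    intro z k hk
    split_ifs with h
    · rw [Fin.sub_val_of_le (by rw [Fin.le_def, pt_val hk]; exact h), pt_val hk]
    · have h' : z + pt P 0 = z := by simp [pt, Fin.ofNat]
      have : z - pt P k = pt P (z.val + P - k) := by
        rw [sub_eq_iff_eq_add, ← pt_add, show z.val + P - k + k = P + z.val by omega, pt_self_add]
        exact eq_pt z
      rw [this, pt_val (by omega)]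
  have hmov : ∀ z : Fin P, D z ≠ z ↔ z.val = 1 ∨ z.val = y ∨ z.val = 2 ∨ z.val = y + 1 := by
    intro z
    rw [hDval, ne_eq, Fin.ext_iff]
    have q1 := pt_val (P := P) (show 1 < P by omega)
    have q2 := pt_val (P := P) (show y < P by omega)
    have q3 := pt_val (P := P) (show 2 < P by omega)
    have q4 := pt_val (P := P) (show y + 1 < P by omega)
    split_ifs <;> omega
  have hadd : ∀ v w, pt P v + pt P w = pt P (v + w) := fun v w => (pt_add v w).symm
  rcases hy with rfl | ⟨rfl, h10⟩
  · -- the three points `2, 4, 6`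
    have hi : pt P 4 - pt P 3 = pt P 1 := by rw [sub_eq_iff_eq_add, hadd]
    have hc := cyc_mem_of_shift haH hDH 3 (i := pt P 4)
      (by rw [hmov, pt_val (by omega)]; omega) (by rw [hi, hmov, pt_val (by omega)]; omega)
      (fun z hz hz' => by
        rw [hmov] at hz
        rw [hmov, hsub z 3 (by omega)] at hz'
        apply Fin.ext
        rw [pt_val (by omega)]
        split_ifs at hz' <;> omega)
    rw [hi, hDval (pt P 4), hDval (pt P 1), pt_val (show 4 < P by omega),
      pt_val (show 1 < P by omega)] at hc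
    simp only [show ¬ (4 = 1) by omega, show ¬ (4 = 3) by omega, show ¬ (4 = 2) by omega,
      if_true, if_false, hadd] at hc
    rw [cyc_rotate (pt_ne (by omega) (by omega) (by omega)) (pt_ne (by omega) (by omega) (by omega))
      (pt_ne (by omega) (by omega) (by omega)), cyc_rotate (pt_ne (by omega) (by omega) (by omega))
      (pt_ne (by omega) (by omega) (by omega)) (pt_ne (by omega) (by omega) (by omega))] at hc
    have hc' := inv_mem hc
    rw [cyc_inv] at hc'
    refine not_isSolvable_of_cyc_shift haH (x₀ := pt P 2) (x₁ := pt P 4) (x₂ := pt P 6) hc' 4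
      (hadd 2 4) ?_
    rw [hadd, hadd]
    simp only [nodup_cons, mem_cons, not_mem_nil, or_false, not_or, nodup_nil, and_true, not_false_eq_true]
    have h8 : pt P (4 + 4) = pt P (if P = 7 then 1 else 8) := by
      apply Fin.ext
      simp only [pt, Fin.ofNat, Fin.val_mk]
      split_ifs with c1 <;> simp_all
    have h10 : pt P (6 + 4) = pt P (if P = 7 then 3 else if P = 9 then 1 else 10) := by
      apply Fin.ext
      simp only [pt, Fin.ofNat, Fin.val_mk]
      split_ifs with c1 c2 <;> simp_all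
    rw [h8, h10]
    refine ⟨⟨?_, ?_, ?_, ?_⟩, ⟨?_, ?_, ?_⟩, ⟨?_, ?_⟩, ?_⟩ <;> apply pt_ne <;> (try split_ifs) <;> omega
  · -- the three points `4, 1, 7`
    have hi : pt P 4 - pt P 2 = pt P 2 := by rw [sub_eq_iff_eq_add, hadd]
    have hc := cyc_mem_of_shift haH hDH 2 (i := pt P 4)
      (by rw [hmov, pt_val (by omega)]; omega) (by rw [hi, hmov, pt_val (by omega)]; omega)
      (fun z hz hz' => by
        rw [hmov] at hz
        rw [hmov, hsub z 2 (by omega)] at hz'
        apply Fin.ext
        rw [pt_val (by omega)]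
        split_ifs at hz' <;> omega)
    rw [hi, hDval (pt P 4), hDval (pt P 2), pt_val (show 4 < P by omega),
      pt_val (show 2 < P by omega)] at hc
    simp only [show ¬ (4 = 1) by omega, show ¬ (2 = 1) by omega, show ¬ (2 = 4) by omega,
      if_true, if_false, hadd] at hc
    rw [cyc_rotate (pt_ne (by omega) (by omega) (by omega)) (pt_ne (by omega) (by omega) (by omega))
      (pt_ne (by omega) (by omega) (by omega)), cyc_rotate (pt_ne (by omega) (by omega) (by omega))
      (pt_ne (by omega) (by omega) (by omega)) (pt_ne (by omega) (by omega) (by omega))] at hc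
    have hc' := inv_mem hc
    rw [cyc_inv] at hc'
    refine not_isSolvable_of_cyc_shift haH (x₀ := pt P 1) (x₁ := pt P 4) (x₂ := pt P 7) hc' 6
      (hadd 1 6) ?_
    rw [hadd, hadd]
    simp only [nodup_cons, mem_cons, not_mem_nil, or_false, not_or, nodup_nil, and_true, not_false_eq_true]
    have h13 : pt P (7 + 6) = pt P (if P = 11 then 2 else if P = 13 then 0 else 13) := by
      apply Fin.ext
      simp only [pt, Fin.ofNat, Fin.val_mk]
      split_ifs with c1 c2 <;> simp_all
    rw [h13]
    refine ⟨⟨?_, ?_, ?_, ?_⟩, ⟨?_, ?_, ?_⟩, ⟨?_, ?_⟩, ?_⟩ <;> apply pt_ne <;> (try split_ifs) <;> omega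

end configurations

end H63
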