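import Cfsg.Agent.H63.PPowerPairs
import Mathlib

/-!
Further configurations for pairs of permutations of odd prime power order: the second class of
full cycles, a single three-cycle, and the finitely many small shapes.
-/

set_option autoImplicit false

namespace H63

open List Equiv Equiv.Perm

section second

variable {P : ℕ} [NeZero P]

theorem cutProd_singleton (hP : 2 ≤ P) : cutProd [P] (finRange P) = shift P := by
  rw [cutProd, cut, cut, take_of_length_le (by simp), List.map_cons, List.map_nil, List.prod_singleton,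
    formPerm_finRange hP]

/-- For a full cycle there are good partners in both classes under the alternating group. -/
theorem exists_second_class (hP : 7 ≤ P) (hPo : P % 2 = 1) {p : ℕ} (hp : p.Prime) (hp2 : p ≠ 2) :
    ∃ b₁ h : Perm (Fin P), sign h = -1 ∧ b₁.cycleType = {P} ∧ GoodPair p (shift P) b₁ ∧
      GoodPair p (shift P) (h * b₁ * h⁻¹) := by
  obtain ⟨b₀, hb₀, hct, hgood⟩ := exists_tweak hP hPo hp hp2 [P] (by simp; omega) (by simp)
    (by simp) 3 (Or.inl rfl) (Or.inl (by omega)) (Or.inl (by omega)) (Or.inl (by omega)) (Or.inl (by omega))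
  rw [cutProd_singleton (by omega)] at hb₀
  subst hb₀
  set t := swap (pt P 1) (pt P 3) with ht
  set h := swap (pt P 1) (pt P 4) * cyc (pt P 2) (pt P 3) (pt P 5) with hh
  set D := swap (pt P 1) (pt P 5) * swap (pt P 3) (pt P 6) with hD
  set a := shift P
  refine ⟨t * a⁻¹ * t, h, ?_, ?_, hgood, ?_⟩
  · rw [map_mul, sign_swap (pt_ne (by omega) (by omega) (by omega)),
      (isThreeCycle_cyc (pt_ne (by omega) (by omega) (by omega)) (pt_ne (by omega) (by omega) (by omega))
        (pt_ne (by omega) (by omega) (by omega))).sign, mul_one]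
  · nth_rw 2 [show t = t⁻¹ from (swap_inv _ _).symm]
    rw [cycleType_conj, cycleType_inv, cycleType_shift (by omega)]
  let ι : Fin 6 ↪ Fin P := ⟨fun j => pt P (j.val + 1), fun i j hij => by
    have := congrArg Fin.val hij
    rw [pt_val (by omega), pt_val (by omega)] at this
    exact Fin.ext (by omega)⟩
  have hiv : ∀ v : Fin 6, ι v = pt P (v.val + 1) := fun v => rfl
  have key : a * (h * (t * a⁻¹ * t) * h⁻¹) = D := by
    have e : a * (h * (t * a⁻¹ * t) * h⁻¹) =
        (a * (swap (pt P 1) (pt P 4)) * a⁻¹) * (a * cyc (pt P 2) (pt P 3) (pt P 5) * a⁻¹) *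
          (a * t * a⁻¹) * t * h⁻¹ := by rw [hh]; group
    rw [e, swap_conj, cyc_conj, ht, swap_conj, hh, hD]
    simp only [a, shift_apply, ← pt_add]
    have hs : ∀ i j : Fin 6, swap (pt P (i.val + 1)) (pt P (j.val + 1)) = embHom ι (swap i j) :=
      fun i j => by rw [embHom_swap, hiv, hiv]
    have hc : ∀ i j k : Fin 6, cyc (pt P (i.val + 1)) (pt P (j.val + 1)) (pt P (k.val + 1)) =
        embHom ι (cyc i j k) := fun i j k => by simp only [cyc, map_mul, ← hs]
    rw [show (swap (pt P (1 + 1)) (pt P (4 + 1))) = _ from hs 1 4,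
      show cyc (pt P (2 + 1)) (pt P (3 + 1)) (pt P (5 + 1)) = _ from hc 2 3 5,
      show swap (pt P (1 + 1)) (pt P (3 + 1)) = _ from hs 1 3,
      show swap (pt P 1) (pt P 3) = _ from hs 0 2,
      show swap (pt P 1) (pt P 4) = _ from hs 0 3,
      show cyc (pt P 2) (pt P 3) (pt P 5) = _ from hc 1 2 4,
      show swap (pt P 1) (pt P 5) = _ from hs 0 4,
      show swap (pt P 3) (pt P 6) = _ from hs 2 5]
    simp only [← map_mul, ← map_inv]
    exact congrArg (embHom ι) (by decide +kernel)
  have hDval : ∀ z : Fin P, D z = if z.val = 1 then pt P 5 else if z.val = 5 then pt P 1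
      else if z.val = 3 then pt P 6 else if z.val = 6 then pt P 3 else z := by
    intro z
    have w1 : pt P 1 ≠ pt P 3 := pt_ne (by omega) (by omega) (by omega)
    have w2 : pt P 1 ≠ pt P 6 := pt_ne (by omega) (by omega) (by omega)
    have w3 : pt P 5 ≠ pt P 3 := pt_ne (by omega) (by omega) (by omega)
    have w4 : pt P 5 ≠ pt P 6 := pt_ne (by omega) (by omega) (by omega)
    have hz : ∀ v, z.val = v → z = pt P v := fun v hv => hv ▸ eq_pt z
    have hz' : ∀ v, v < P → z.val ≠ v → z ≠ pt P v := fun v hv hne e => hne (by rw [e, pt_val hv])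
    rw [hD, Perm.mul_apply]
    split_ifs with c1 c2 c3 c4
    · rw [hz _ c1, swap_apply_of_ne_of_ne w1 w2, swap_apply_left]
    · rw [hz _ c2, swap_apply_of_ne_of_ne w3 w4, swap_apply_right]
    · rw [hz _ c3, swap_apply_left, swap_apply_of_ne_of_ne w2.symm w4.symm]
    · rw [hz _ c4, swap_apply_right, swap_apply_of_ne_of_ne w1.symm w3.symm]
    · rw [swap_apply_of_ne_of_ne (hz' _ (by omega) c3) (hz' _ (by omega) c4),
        swap_apply_of_ne_of_ne (hz' _ (by omega) c1) (hz' _ (by omega) c2)]
  have hne : D ≠ 1 := by
    intro e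
    have h1 := hDval (pt P 1)
    rw [e, pt_val (by omega), if_pos rfl] at h1
    exact pt_ne (show 1 < P by omega) (show 5 < P by omega) (by omega) h1
  have hD2 : D ^ 2 = 1 := by
    rw [pow_two, hD]
    have hc : Commute (swap (pt P 1) (pt P 5)) (swap (pt P 3) (pt P 6)) :=
      (disjoint_swaps (by
        simp only [nodup_cons, mem_cons, not_mem_nil, or_false, not_or, nodup_nil, and_true, not_false_eq_true]
        refine ⟨⟨?_, ?_, ?_⟩, ⟨?_, ?_⟩, ?_⟩ <;> apply pt_ne <;> omega)).commute
    rw [hc.symm.mul_mul_mul_comm, swap_mul_self, swap_mul_self, mul_one]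
  refine ⟨?_, ?_⟩
  · rw [key]
    exact not_eq_one_pow_of_pow_coprime hne hp
      (fun hd => hp2 ((Nat.prime_dvd_prime_iff_eq hp Nat.prime_two).mp hd)) hD2
  set H := Subgroup.closure ({a, h * (t * a⁻¹ * t) * h⁻¹} : Set (Perm (Fin P)))
  have haH : a ∈ H := Subgroup.subset_closure (by simp)
  have hDH : D ∈ H := key ▸ mul_mem haH (Subgroup.subset_closure (by simp))
  have hmov : ∀ z : Fin P, D z ≠ z ↔ z.val = 1 ∨ z.val = 5 ∨ z.val = 3 ∨ z.val = 6 := by
    intro z
    rw [hDval, ne_eq, Fin.ext_iff]
    have q1 := pt_val (P := P) (show 1 < P by omega)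
    have q2 := pt_val (P := P) (show 5 < P by omega)
    have q3 := pt_val (P := P) (show 3 < P by omega)
    have q4 := pt_val (P := P) (show 6 < P by omega)
    split_ifs <;> omega
  have hadd : ∀ v w, pt P v + pt P w = pt P (v + w) := fun v w => (pt_add v w).symm
  have hsub : ∀ z : Fin P, (z - pt P 1).val = if 1 ≤ z.val then z.val - 1 else P - 1 := by
    intro z
    split_ifs with hz
    · rw [Fin.sub_val_of_le (by rw [Fin.le_def, pt_val (by omega)]; exact hz), pt_val (by omega)]
    · have hz' : z - pt P 1 = pt P (P - 1) := by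
        rw [sub_eq_iff_eq_add, hadd, show P - 1 + 1 = P + 0 by omega, pt_self_add,
          show (0 : ℕ) = z.val by omega]
        exact eq_pt z
      rw [hz', pt_val (by omega)]
  have hi : pt P 6 - pt P 1 = pt P 5 := by rw [sub_eq_iff_eq_add, hadd]
  have hc := cyc_mem_of_shift haH hDH 1 (i := pt P 6)
    (by rw [hmov, pt_val (by omega)]; omega) (by rw [hi, hmov, pt_val (by omega)]; omega)
    (fun z hz hz' => by
      rw [hmov] at hz
      rw [hmov, hsub z] at hz'
      apply Fin.ext
      rw [pt_val (by omega)]
      split_ifs at hz' <;> omega)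
  rw [hi, hDval (pt P 6), hDval (pt P 5), pt_val (show 6 < P by omega),
    pt_val (show 5 < P by omega)] at hc
  simp only [show ¬ (6 = 1) by omega, show ¬ (6 = 5) by omega, show ¬ (6 = 3) by omega,
    show ¬ (5 = 1) by omega, if_true, if_false, hadd] at hc
  rw [cyc_rotate (pt_ne (by omega) (by omega) (by omega)) (pt_ne (by omega) (by omega) (by omega))
    (pt_ne (by omega) (by omega) (by omega)), cyc_rotate (pt_ne (by omega) (by omega) (by omega))
    (pt_ne (by omega) (by omega) (by omega)) (pt_ne (by omega) (by omega) (by omega))] at hc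
  refine not_isSolvable_of_cyc_shift haH (x₀ := pt P 2) (x₁ := pt P 6) (x₂ := pt P 3) hc 1 (hadd 2 1) ?_
  rw [hadd, hadd]
  simp only [nodup_cons, mem_cons, not_mem_nil, or_false, not_or, nodup_nil, and_true, not_false_eq_true]
  have h7 : pt P (6 + 1) = pt P (if P = 7 then 0 else 7) := by
    apply Fin.ext
    simp only [pt, Fin.ofNat, Fin.val_mk]
    split_ifs with c1 <;> simp_all
  rw [h7]
  refine ⟨⟨?_, ?_, ?_, ?_⟩, ⟨?_, ?_, ?_⟩, ⟨?_, ?_⟩, ?_⟩ <;> apply pt_ne <;> (try split_ifs) <;> omega

/-- A single three-cycle against a long cycle of three-power length. -/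
theorem exists_single_three (hP : 9 ≤ P) (h3 : 3 ∣ P) :
    ∃ b : Perm (Fin P), b.cycleType = {3} ∧ GoodPair 3 (shift P) b := by
  haveI : Inhabited (Fin P) := ⟨0⟩
  set L : List ℕ := 3 :: replicate (P - 3) 1
  have hpos : ∀ k ∈ L, 1 ≤ k := by
    intro k hk
    rcases mem_cons.mp hk with rfl | hk
    · norm_num
    · rw [(mem_replicate.mp hk).2]
  obtain ⟨b, hb, hord, hbe, -⟩ := exists_pieces (P := P) (by omega) L hpos (by simp [L]; omega)
  have hct : b.cycleType = {3} := by
    rw [hb]
    simp [L, filter_cons, filter_replicate]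
  refine ⟨b, hct, ?_, ?_⟩
  · have hne : shift P * b ≠ 1 := by
      intro h
      rw [mul_eq_one_iff_eq_inv'.mp h, cycleType_inv, cycleType_shift (by omega),
        Multiset.singleton_inj] at hct
      omega
    refine not_eq_one_pow_of_pow_coprime hne Nat.prime_three ?_ hord
    simp [L]
    omega
  have htail : cutProd (replicate (P - 3) 1) ((finRange P).drop 3) = 1 := by
    rw [← cycleType_eq_zero, cycleType_cutProd _ _ (by simp) (nodup_finRange P).drop]
    simp [filter_replicate]
  have htake : (finRange P).take 3 = [pt P 0, pt P 1, pt P 2] := by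
    apply List.ext_getElem
    · simp; omega
    · intro i h1 h2
      simp only [length_cons, length_nil] at h2
      apply Fin.ext
      interval_cases i <;>
        simp [pt, Fin.ofNat, Nat.mod_eq_of_lt (show 1 < P by omega), Nat.mod_eq_of_lt (show 2 < P by omega)]
  have hb' : b⁻¹ = cyc (pt P 0) (pt P 1) (pt P 2) := by
    rw [hbe, inv_inv, cutProd, cut, List.map_cons, List.prod_cons, ← cutProd, htail, mul_one, htake,
      formPerm_cons_cons, formPerm_cons_cons, formPerm_singleton, mul_one, cyc]
  set H := Subgroup.closure ({shift P, b} : Set (Perm (Fin P)))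
  have hbH : b⁻¹ ∈ H := inv_mem (Subgroup.subset_closure (by simp))
  rw [hb'] at hbH
  refine not_isSolvable_of_cyc_shift (Subgroup.subset_closure (by simp) : shift P ∈ H) hbH 2
    (pt_add 0 2).symm ?_
  rw [← pt_add, ← pt_add]
  simp only [nodup_cons, mem_cons, not_mem_nil, or_false, not_or, nodup_nil, and_true, not_false_eq_true]
  refine ⟨⟨?_, ?_, ?_, ?_⟩, ⟨?_, ?_, ?_⟩, ⟨?_, ?_⟩, ?_⟩ <;> apply pt_ne <;> omega

end second

section small

theorem goodPair_of_words {G : Type*} [Group G] {p m : ℕ} (hp : p.Prime) {a b : G} (hne : a * b ≠ 1)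
    (hm : ¬ p ∣ m) (hpow : (a * b) ^ m = 1) (ha : a ≠ 1) {u v s t : G}
    (hu : u ∈ Subgroup.closure ({a, b} : Set G)) (hv : v ∈ Subgroup.closure ({a, b} : Set G))
    (hs : s ∈ Subgroup.closure ({a, b} : Set G)) (ht : t ∈ Subgroup.closure ({a, b} : Set G))
    (hue : u * v * u⁻¹ * v⁻¹ = a) (hse : s * t * s⁻¹ * t⁻¹ = b) : GoodPair p a b :=
  ⟨not_eq_one_pow_of_pow_coprime hne hp hm hpow,
    not_isSolvable_of_commutators (Subgroup.subset_closure (by simp)) (Subgroup.subset_closure (by simp))
      ha hu hv hs ht hue hse⟩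

/-- The product of a word in two letters. -/
def word {G : Type*} [Monoid G] (a b : G) (l : List Bool) : G := (l.map fun c => bif c then b else a).prod

theorem word_mem {G : Type*} [Group G] (a b : G) (l : List Bool) :
    word a b l ∈ Subgroup.closure ({a, b} : Set G) := by
  refine list_prod_mem fun x hx => ?_
  obtain ⟨c, -, rfl⟩ := List.mem_map.mp hx
  cases c <;> exact Subgroup.subset_closure (by simp)

theorem good_three_one_one : GoodPair 3 (cyc (0 : Fin 5) 1 2) (cyc 4 0 3) := by
  refine goodPair_of_words Nat.prime_three (m := 5) (by decide +kernel) (by norm_num) (by decide +kernel)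
    (by decide +kernel) (word_mem _ _ [false, false]) (word_mem _ _ [true, false, false, true, true, false, true])
    (word_mem _ _ [true, true]) (word_mem _ _ [false, true, false, false, true, true, false]) ?_ ?_ <;>
  decide +kernel

theorem good_three_one_two :
    GoodPair 3 (cyc (0 : Fin 6) 1 2) (cyc 5 2 4 * cyc 3 0 1) := by
  refine goodPair_of_words Nat.prime_three (m := 4) (by decide +kernel) (by norm_num) (by decide +kernel)
    (by decide +kernel)
    (word_mem _ _ [true, false, false, true, false, true, false, false, true, true]) (word_mem _ _ [false])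
    (word_mem _ _ [false, false, true, true, false, true, false, true, true, false]) (word_mem _ _ [true]) ?_ ?_ <;>
  decide +kernel

theorem good_three_two_two :
    GoodPair 3 (cyc (0 : Fin 6) 1 2 * cyc 3 4 5) (cyc 5 4 2 * cyc 3 0 1) := by
  refine goodPair_of_words Nat.prime_three (m := 5) (by decide +kernel) (by norm_num) (by decide +kernel)
    (by decide +kernel) (word_mem _ _ [false, false]) (word_mem _ _ [true, false, false, true, true, false, true])
    (word_mem _ _ [true, true]) (word_mem _ _ [false, true, false, false, true, true, false]) ?_ ?_ <;>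
  decide +kernel

theorem good_five_first : GoodPair 5 (shift 5) (formPerm [(4 : Fin 5), 3, 0, 1, 2]) := by
  refine goodPair_of_words (by norm_num) (m := 2) (by decide +kernel) (by norm_num) (by decide +kernel)
    (by decide +kernel) (word_mem _ _ [false, false, false]) (word_mem _ _ [true, false, false, true, true])
    (word_mem _ _ [false, false, false]) (word_mem _ _ [true, false, true, true]) ?_ ?_ <;>
  decide +kernel

theorem good_five_second :
    GoodPair 5 (shift 5) (swap (1 : Fin 5) 2 * formPerm [(4 : Fin 5), 3, 0, 1, 2] * (swap (1 : Fin 5) 2)⁻¹) := by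
  refine goodPair_of_words (by norm_num) (m := 3) (by decide +kernel) (by norm_num) (by decide +kernel)
    (by decide +kernel) (word_mem _ _ [true]) (word_mem _ _ [true, true, true, false])
    (word_mem _ _ [false]) (word_mem _ _ [false, false, false, true]) ?_ ?_ <;>
  decide +kernel

theorem good_nine_two : GoodPair 3 (shift 9) (cyc (5 : Fin 9) 4 3 * cyc 2 0 1) := by
  refine goodPair_of_words Nat.prime_three (m := 7) (by decide +kernel) (by norm_num) (by decide +kernel)
    (by decide +kernel)
    (word_mem _ _ [true, false, true, false, false, false, true, true, false, false, true])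
    (word_mem _ _ [false])
    (word_mem _ _ [false, false, false, true])
    (word_mem _ _ [true, false, true, false, false, true, false, false, false, true, true, false]) ?_ ?_ <;>
  decide +kernel

theorem good_nine_three : GoodPair 3 (shift 9) (cyc (8 : Fin 9) 7 6 * cyc 5 3 4 * cyc 2 0 1) := by
  refine goodPair_of_words Nat.prime_three (m := 7) (by decide +kernel) (by norm_num) (by decide +kernel)
    (by decide +kernel)
    (word_mem _ _ [false, false, true, false, false, true, true, false, true])
    (word_mem _ _ [true, false, true, false, false, false, true, true])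
    (word_mem _ _ [false, false, false, true, false, true, true, false])
    (word_mem _ _ [false, true, false, false, true, false, false, true, true, false]) ?_ ?_ <;>
  decide +kernel

end small

end H63
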