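import Mathlib

/-!
A real element of an abelian Sylow subgroup of odd order forces an automizer of even order.
-/

set_option autoImplicit false

namespace H63

/-- If an element of odd prime order in an abelian Sylow `p`-subgroup is conjugate to its inverse,
the automizer `N(P)/C(P)` has even order. -/
theorem two_dvd_automizer_of_isConj_inv {G : Type*} [Group G] [Finite G] {p : ℕ} [Fact p.Prime] (hp : p ≠ 2)
    (P : Sylow p G) (hP : IsMulCommutative (P : Subgroup G)) {x : G} (hx : x ∈ (P : Subgroup G))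
    (hox : orderOf x = p) (hconj : IsConj x x⁻¹) :
    2 ∣ ((Subgroup.centralizer ((P : Subgroup G) : Set G)).subgroupOf
      (Subgroup.normalizer ((P : Subgroup G) : Set G))).index := by
  have hpp : p.Prime := Fact.out
  set NP := Subgroup.normalizer ((P : Subgroup G) : Set G)
  set CP := Subgroup.centralizer ((P : Subgroup G) : Set G)
  obtain ⟨g, hg⟩ := isConj_iff.mp hconj
  have hy : g⁻¹⁻¹ * x * g⁻¹ ∈ (P : Subgroup G) := by
    rw [inv_inv, hg]; exact inv_mem hx
  obtain ⟨m, hm, hmx⟩ := P.conj_eq_normalizer_conj_of_mem (_hP := hP) x g⁻¹ hx hy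
  rw [inv_inv, hg] at hmx
  by_contra hodd
  set i := (CP.subgroupOf NP).index
  have hnorm : (CP.subgroupOf NP).Normal := by infer_instance
  have hmem : (⟨m, hm⟩ : NP) ^ i ∈ CP.subgroupOf NP := Subgroup.pow_index_mem _ _
  rw [Subgroup.mem_subgroupOf, SubmonoidClass.coe_pow] at hmem
  have hfix := Subgroup.mem_centralizer_iff.mp hmem x hx
  have hiter : ∀ j : ℕ, (m ^ j)⁻¹ * x * m ^ j = x ^ ((-1 : ℤ) ^ j) := by
    intro j
    induction j with
    | zero => simp
    | succ j ih =>
      calc (m ^ (j + 1))⁻¹ * x * m ^ (j + 1) = m⁻¹ * ((m ^ j)⁻¹ * x * m ^ j) * m := by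
            rw [pow_succ]; group
        _ = m⁻¹ * x ^ ((-1 : ℤ) ^ j) * m := by rw [ih]
        _ = (m⁻¹ * x * m) ^ ((-1 : ℤ) ^ j) := by
            simpa using map_zpow (MulAut.conj m⁻¹) x ((-1 : ℤ) ^ j)
        _ = x ^ ((-1 : ℤ) ^ (j + 1)) := by rw [← hmx, pow_succ, mul_comm, zpow_mul]; simp
  have h1 := hiter i
  rw [mul_assoc, hfix, inv_mul_cancel_left,
    Odd.neg_one_pow (Nat.odd_iff.mpr (Nat.two_dvd_ne_zero.mp hodd))] at h1
  have h2 : x ^ 2 = 1 := by
    rw [pow_two]; nth_rewrite 1 [h1]; simp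
  exact hp ((Nat.prime_dvd_prime_iff_eq hpp Nat.prime_two).mp (hox ▸ orderOf_dvd_of_pow_eq_one h2))

end H63
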