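import Mathlib

/-!
The arithmetic behind the subgroup theorem of the Suzuki groups.
-/

set_option autoImplicit false

namespace H63.SzSub

/-- A class of tori contributes `(1 - 1/u)/n` to the class equation; the bounds on it. -/
theorem term_bounds {u n : ℕ} (hu : 5 ≤ u) (hn : n = 1 ∨ n = 2 ∨ n = 4) :
    (1 / 5 : ℚ) ≤ (1 - 1 / (u : ℚ)) / (n : ℚ) ∧
      (n ≤ 2 → (2 / 5 : ℚ) ≤ (1 - 1 / (u : ℚ)) / (n : ℚ)) ∧
      (n = 1 → (4 / 5 : ℚ) ≤ (1 - 1 / (u : ℚ)) / (n : ℚ)) ∧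
      (n = 4 → (1 - 1 / (u : ℚ)) / (n : ℚ) < 1 / 4) := by
  have h5 : (5 : ℚ) ≤ (u : ℚ) := by exact_mod_cast hu
  have h6 : 1 / (u : ℚ) ≤ 1 / 5 := one_div_le_one_div_of_le (by norm_num) h5
  have h7 : 0 < 1 / (u : ℚ) := by positivity
  rcases hn with rfl | rfl | rfl <;> push_cast <;> refine ⟨by linarith, ?_, ?_, ?_⟩ <;> intro h <;>
    first
      | exact h.elim
      | omega
      | linarith

/-- The value left for the remaining classes once the two standard ones are removed. -/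
theorem rest_bounds {e s N : ℕ} (he : 8 ≤ e) (hs : e ≤ s) (hN : 2 ≤ N) :
    let g : ℚ := (N : ℚ) * s * ((e : ℚ) - 1)
    (3 / 7 : ℚ) ≤ 1 - 1 / g - (1 - 1 / (s : ℚ)) / ((e : ℚ) - 1) - (1 - 1 / ((e : ℚ) - 1)) / 2 ∧
      1 - 1 / g - (1 - 1 / (s : ℚ)) / ((e : ℚ) - 1) - (1 - 1 / ((e : ℚ) - 1)) / 2 < 1 / 2 ∧
      0 < 1 - 1 / g - (1 - 1 / (s : ℚ)) / ((e : ℚ) - 1) - (1 - 1 / ((e : ℚ) - 1)) / 1 ∧
      1 - 1 / g - (1 - 1 / (s : ℚ)) / ((e : ℚ) - 1) - (1 - 1 / ((e : ℚ) - 1)) / 1 < 1 / 5 := by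
  intro g
  have he' : (8 : ℚ) ≤ (e : ℚ) := by exact_mod_cast he
  have hs' : (8 : ℚ) ≤ (s : ℚ) := by exact_mod_cast he.trans hs
  have hN' : (2 : ℚ) ≤ (N : ℚ) := by exact_mod_cast hN
  obtain ⟨d, hd⟩ : ∃ d, d = (e : ℚ) - 1 := ⟨_, rfl⟩
  have hg : g = (N : ℚ) * s * d := by rw [hd]
  rw [hg, ← hd]
  have hd7 : (7 : ℚ) ≤ d := by linarith
  have hsd : (56 : ℚ) ≤ s * d := by nlinarith
  have e1 : (1 - 1 / (s : ℚ)) / d = 1 / d - 1 / (s * d) := by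
    field_simp
  have h1 : 1 / d ≤ 1 / 7 := one_div_le_one_div_of_le (by norm_num) hd7
  have h2 : 0 < 1 / d := by positivity
  have h3 : 1 / (s * d) ≤ 1 / 56 := one_div_le_one_div_of_le (by norm_num) hsd
  have h4 : 0 < 1 / (s * d) := by positivity
  have h5 : 1 / ((N : ℚ) * s * d) < 1 / (s * d) := by
    apply one_div_lt_one_div_of_lt (by positivity)
    nlinarith
  have h6 : 0 < 1 / ((N : ℚ) * s * d) := by positivity
  have h7 : 1 / (s * d) ≤ (1 / d) * (1 / 8) := by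
    rw [one_div_mul_one_div]
    exact one_div_le_one_div_of_le (by positivity) (by nlinarith)
  rw [e1]
  refine ⟨by linarith, by linarith, by linarith, by linarith⟩

/-- A single further class with index two has order `e + 1`. -/
theorem single_class {e s N u : ℕ} (he : 8 ≤ e) (he2 : 2 ∣ e) (hs : e ≤ s) (hN : 2 ≤ N)
    (hu : 0 < u) (hodd : ¬ 2 ∣ u)
    (h : (1 - 1 / (u : ℚ)) / 2 = 1 - 1 / ((N : ℚ) * s * ((e : ℚ) - 1)) -
      (1 - 1 / (s : ℚ)) / ((e : ℚ) - 1) - (1 - 1 / ((e : ℚ) - 1)) / 2) :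
    u = e + 1 := by
  have he' : (8 : ℚ) ≤ (e : ℚ) := by exact_mod_cast he
  have hs' : (e : ℚ) ≤ (s : ℚ) := by exact_mod_cast hs
  have hN' : (2 : ℚ) ≤ (N : ℚ) := by exact_mod_cast hN
  have hu' : (0 : ℚ) < (u : ℚ) := by exact_mod_cast hu
  have hd : (0 : ℚ) < (e : ℚ) - 1 := by linarith
  have hs0 : (0 : ℚ) < (s : ℚ) := by linarith
  have hN0 : (0 : ℚ) < (N : ℚ) := by linarith
  field_simp at h
  have hk : (u : ℚ) * ((N : ℚ) * ((s : ℚ) - 2) + 2) = (N : ℚ) * s * ((e : ℚ) - 1) := by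
    linear_combination h
  have hc0 : (0 : ℚ) < (N : ℚ) * ((s : ℚ) - 2) + 2 := by nlinarith
  have hlo : (e : ℚ) - 1 < u := by
    by_contra hc
    rw [not_lt] at hc
    nlinarith [mul_le_mul_of_nonneg_right hc hc0.le]
  have hhi : (u : ℚ) < (e : ℚ) + 2 := by
    by_contra hc
    rw [not_lt] at hc
    nlinarith [mul_le_mul_of_nonneg_right hc hc0.le]
  have hlo' : e < u + 1 := by
    have : (e : ℚ) < (u : ℚ) + 1 := by linarith
    exact_mod_cast this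
  have hhi' : u < e + 2 := by exact_mod_cast hhi
  omega

/-- Two further classes of index four are incompatible with many points. -/
theorem two_classes {e s N u v : ℕ} (he : 8 ≤ e) (he4 : 4 ∣ e) (hs : e ≤ s) (hN : 2 ≤ N)
    (hu : 0 < u) (huv : u ≤ v) (hodd : ¬ 2 ∣ u)
    (h : (1 - 1 / (u : ℚ)) / 4 + (1 - 1 / (v : ℚ)) / 4 = 1 - 1 / ((N : ℚ) * s * ((e : ℚ) - 1)) -
      (1 - 1 / (s : ℚ)) / ((e : ℚ) - 1) - (1 - 1 / ((e : ℚ) - 1)) / 2)
    (hA : (e : ℚ) * ((e : ℚ) - 1) - ((e : ℚ) - 2) / 2 ≤ ((u : ℚ) - 1) / 4 + ((v : ℚ) - 1) / 4) :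
    False := by
  have he' : (8 : ℚ) ≤ (e : ℚ) := by exact_mod_cast he
  have hs' : (e : ℚ) ≤ (s : ℚ) := by exact_mod_cast hs
  have hN' : (2 : ℚ) ≤ (N : ℚ) := by exact_mod_cast hN
  have hu' : (0 : ℚ) < (u : ℚ) := by exact_mod_cast hu
  have huv' : (u : ℚ) ≤ (v : ℚ) := by exact_mod_cast huv
  have hv' : (0 : ℚ) < (v : ℚ) := by linarith
  obtain ⟨d, hd⟩ : ∃ d, d = (e : ℚ) - 1 := ⟨_, rfl⟩
  rw [← hd] at h
  have hd0 : (0 : ℚ) < d := by linarith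
  have hs0 : (0 : ℚ) < (s : ℚ) := by linarith
  have hN0 : (0 : ℚ) < (N : ℚ) := by linarith
  have key : 1 / (u : ℚ) + 1 / (v : ℚ) =
      2 / d - 4 / (s * d) + 4 / ((N : ℚ) * s * d) := by
    have e1 : (1 - 1 / (s : ℚ)) / d = 1 / d - 1 / (s * d) := by
      field_simp
    rw [e1] at h
    linear_combination (-4 : ℚ) * h
  have h4 : 4 / ((N : ℚ) * s * d) < 4 / (s * d) := by
    apply div_lt_div_of_pos_left (by norm_num) (by positivity)
    nlinarith [mul_pos hs0 hd0]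
  have h4' : 0 < 4 / ((N : ℚ) * s * d) := by positivity
  have hsd : 4 / (s * d) ≤ 4 / (e * d) :=
    div_le_div_of_nonneg_left (by norm_num) (by positivity) (by nlinarith)
  have hv0 : 0 < 1 / (v : ℚ) := by positivity
  have hlo : d < 2 * u := by
    have h1 : 1 / (u : ℚ) < 2 / d := by linarith
    rw [div_lt_div_iff₀ hu' hd0] at h1
    linarith
  have hlo' : (e : ℚ) + 2 ≤ 2 * u := by
    have h1 : (e : ℚ) < 2 * u + 1 := by linarith
    have h2 : e < 2 * u + 1 := by exact_mod_cast h1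
    have h3 : e + 2 ≤ 2 * u := by omega
    exact_mod_cast h3
  have hlow : 2 / d - 4 / (e * d) < 1 / (u : ℚ) + 1 / (v : ℚ) := by linarith
  have hvu : 1 / (v : ℚ) ≤ 1 / (u : ℚ) := one_div_le_one_div_of_le hu' huv'
  have hhi : (u : ℚ) < (e : ℚ) + 2 := by
    have h1 : 2 / d - 4 / (e * d) < 2 / (u : ℚ) := by
      have : 2 / (u : ℚ) = 2 * (1 / (u : ℚ)) := by ring
      linarith
    have h2 : 2 / d - 4 / ((e : ℚ) * d) = (2 * (e : ℚ) - 4) / (e * d) := by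
      field_simp
    rw [h2, div_lt_div_iff₀ (by positivity) hu'] at h1
    by_contra hc
    rw [not_lt] at hc
    subst hd
    nlinarith [mul_le_mul_of_nonneg_left hc (by linarith : (0 : ℚ) ≤ 2 * (e : ℚ) - 4)]
  have hV : 4 * (e : ℚ) ^ 2 - 7 * e + 4 ≤ v := by nlinarith
  have hu1 : 1 / (u : ℚ) ≤ 2 / ((e : ℚ) + 2) := by
    rw [div_le_div_iff₀ hu' (by linarith)]
    linarith
  have hVpos : (0 : ℚ) < 4 * (e : ℚ) ^ 2 - 7 * e + 4 := by nlinarith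
  have hv1 : 1 / (v : ℚ) ≤ 1 / (4 * (e : ℚ) ^ 2 - 7 * e + 4) :=
    one_div_le_one_div_of_le hVpos hV
  have hfin : 2 / ((e : ℚ) + 2) + 1 / (4 * (e : ℚ) ^ 2 - 7 * e + 4) ≤ 2 / d - 4 / (e * d) := by
    subst hd
    have h2 : 2 / ((e : ℚ) - 1) - 4 / ((e : ℚ) * ((e : ℚ) - 1)) - 2 / ((e : ℚ) + 2) =
        2 * ((e : ℚ) - 4) / (e * ((e : ℚ) - 1) * ((e : ℚ) + 2)) := by
      field_simp
      ring
    have h3 : 1 / (4 * (e : ℚ) ^ 2 - 7 * e + 4) ≤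
        2 * ((e : ℚ) - 4) / (e * ((e : ℚ) - 1) * ((e : ℚ) + 2)) := by
      rw [div_le_div_iff₀ hVpos (by positivity)]
      nlinarith
    linarith
  linarith

end H63.SzSub
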