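import Cfsg.Agent.H57.SzSolub

/-!
First facts on a subgroup of a Suzuki group that contains involutions with different fixed points.
-/

set_option autoImplicit false

namespace H63.SzSub

open H57
open scoped Pointwise

variable {F : Type*} [Field F] [Fintype F] {m : ℕ}

theorem sq_one_of_two {G : Type*} [Group G] {y : G} (h : orderOf y = 2) : y * y = 1 := by
  rw [← sq, ← h, pow_orderOf_eq_one]

theorem four_one_of_two {G : Type*} [Group G] {y : G} (h : orderOf y = 2) : y ^ 4 = 1 := by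
  rw [show 4 = 2 * 2 from rfl, pow_mul, ← h, pow_orderOf_eq_one, one_pow]

theorem dEl_inv (hF : Fintype.card F = 2 ^ (2 * m + 1)) (k : Fˣ) :
    (dEl hF k)⁻¹ = dEl hF k⁻¹ := (map_inv (dHom hF) k).symm

theorem td_fix (hF : Fintype.card F = 2 ^ (2 * m + 1)) (a b : F) (k : Fˣ) :
    (tEl hF a b * dEl hF k) • Cfsg.suzukiPointInfinity F = Cfsg.suzukiPointInfinity F := by
  rw [mul_smul, dEl_infty, tEl_infty]

theorem td_inj (hF : Fintype.card F = 2 ^ (2 * m + 1)) {a b c d : F} {k l : Fˣ}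
    (h : tEl hF a b * dEl hF k = tEl hF c d * dEl hF l) : a = c ∧ b = d ∧ k = l := by
  have := congrArg (fun g : Cfsg.Sz F m => g • ovPt m (0 : F) 0) h
  simp only [mul_smul, dEl_ovPt_zero, tEl_ovPt_zero] at this
  obtain ⟨rfl, rfl⟩ := ovPt_inj this
  exact ⟨rfl, rfl, dHom_injective hF (mul_left_cancel h)⟩

theorem td_mul (hF : Fintype.card F = 2 ^ (2 * m + 1)) (a b c d : F) (k l : Fˣ) :
    ∃ x y, tEl hF a b * dEl hF k * (tEl hF c d * dEl hF l) = tEl hF x y * dEl hF (k * l) := by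
  refine ⟨a + (k : F) * c, b + th m (k : F) * k * d + th m a * ((k : F) * c), ?_⟩
  rw [mul_assoc, ← mul_assoc (dEl hF k), dEl_tEl, mul_assoc (tEl hF _ _) (dEl hF k), dEl_mul,
    ← mul_assoc, tEl_mul]

theorem td_pow (hF : Fintype.card F = 2 ^ (2 * m + 1)) (a b : F) (k : Fˣ) (n : ℕ) :
    ∃ x y, (tEl hF a b * dEl hF k) ^ n = tEl hF x y * dEl hF (k ^ n) := by
  induction n with
  | zero => exact ⟨0, 0, by rw [pow_zero, pow_zero, tEl_zero, dEl_one, one_mul]⟩
  | succ n ih =>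
      obtain ⟨x, y, h⟩ := ih
      rw [pow_succ, pow_succ, h]
      exact td_mul hF x y a b _ _

theorem td_conj (hF : Fintype.card F = 2 ^ (2 * m + 1)) (a b c : F) (k : Fˣ) :
    tEl hF a b * dEl hF k * tEl hF 0 c * (tEl hF a b * dEl hF k)⁻¹ =
      tEl hF 0 (th m (k : F) * k * c) := by
  rw [mul_assoc (tEl hF a b) (dEl hF k), dEl_tEl, mul_zero, ← mul_assoc, center_commute]
  group

theorem fix_four (hm : 1 ≤ m) (hF : Fintype.card F = 2 ^ (2 * m + 1)) {x : Cfsg.Sz F m}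
    (h : x • Cfsg.suzukiPointInfinity F = Cfsg.suzukiPointInfinity F) (h4 : x ^ 4 = 1) :
    ∃ a b, x = tEl hF a b := by
  obtain ⟨a, b, k, rfl⟩ := fix_infty hm hF x h
  obtain ⟨c, d, hcd⟩ := td_pow hF a b k 4
  rw [h4] at hcd
  have hk : k ^ 4 = 1 := by
    have h0 : tEl hF (0 : F) 0 * dEl hF 1 = tEl hF c d * dEl hF (k ^ 4) := by
      rw [tEl_zero, dEl_one, one_mul]; exact hcd
    exact (td_inj hF h0).2.2.symm
  have hk1 : k = 1 := by
    refine Units.ext (eq_one_of_mul_self_pow hF ?_)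
    rw [← Units.val_pow_eq_pow_val, hk, Units.val_one]
  exact ⟨a, b, by rw [hk1, dEl_one, mul_one]⟩

theorem inv_fix_infty (hm : 1 ≤ m) (hF : Fintype.card F = 2 ^ (2 * m + 1)) {y : Cfsg.Sz F m}
    (h : y • Cfsg.suzukiPointInfinity F = Cfsg.suzukiPointInfinity F) (h2 : orderOf y = 2) :
    ∃ b, b ≠ 0 ∧ y = tEl hF 0 b := by
  obtain ⟨a, b, rfl⟩ := fix_four hm hF h (four_one_of_two h2)
  have hsq : tEl hF a b ^ 2 = 1 := (sq _).trans (sq_one_of_two h2)
  rw [tEl_sq] at hsq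
  obtain rfl : a = 0 := by
    rcases mul_eq_zero.mp (tEl_inj hF (hsq.trans (tEl_zero hF).symm)).2 with h | h
    · exact th_eq_zero.mp h
    · exact h
  refine ⟨b, ?_, rfl⟩
  rintro rfl
  rw [tEl_zero, orderOf_one] at h2
  omega

theorem orderOf_tEl_zero (hF : Fintype.card F = 2 ^ (2 * m + 1)) {b : F} (hb : b ≠ 0) :
    orderOf (tEl hF 0 b : Cfsg.Sz F m) = 2 := by
  refine orderOf_eq_prime (p := 2) ?_ fun h => hb ((tEl_inj hF (h.trans (tEl_zero hF).symm)).2)
  rw [tEl_sq, th_zero, zero_mul, tEl_zero]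

theorem two_dvd_of_four {G : Type*} [Group G] {x : G} (hx : x ≠ 1) (h4 : x ^ 4 = 1) :
    2 ∣ orderOf x := by
  obtain ⟨i, -, hi⟩ := (Nat.dvd_prime_pow Nat.prime_two).mp
    (show orderOf x ∣ 2 ^ 2 from orderOf_dvd_of_pow_eq_one h4)
  rcases i with _ | i
  · exact absurd (orderOf_eq_one_iff.mp (by rw [hi, pow_zero])) hx
  · rw [hi]; exact dvd_pow_self 2 (by omega)

/-- An involution fixes one point of the ovoid. -/
theorem inv_point (hm : 1 ≤ m) (hF : Fintype.card F = 2 ^ (2 * m + 1)) {y : Cfsg.Sz F m}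
    (h2 : orderOf y = 2) :
    ∃ p ∈ Cfsg.suzukiOvoid F m, y • p = p :=
  two_el_fixed hm hF (h2.symm ▸ dvd_refl 2)

theorem inv_point_unique (hm : 1 ≤ m) (hF : Fintype.card F = 2 ^ (2 * m + 1)) {y : Cfsg.Sz F m}
    (h2 : orderOf y = 2) {p p' : Projectivization F (Fin 4 → F)} (hp : p ∈ Cfsg.suzukiOvoid F m)
    (hp' : p' ∈ Cfsg.suzukiOvoid F m) (h : y • p = p) (h' : y • p' = p') : p = p' :=
  sz_fixes_two hm hF (fun h1 => by rw [h1, orderOf_one] at h2; omega) (h2.symm ▸ dvd_refl 2)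
    hp hp' h h'

/-- Two involutions with different fixed points have a product of odd order, and are conjugate. -/
theorem inv_pair (hm : 1 ≤ m) (hF : Fintype.card F = 2 ^ (2 * m + 1)) {y y' : Cfsg.Sz F m}
    (hy : orderOf y = 2) (hy' : orderOf y' = 2) {p p' : Projectivization F (Fin 4 → F)}
    (hp : p ∈ Cfsg.suzukiOvoid F m) (hp' : p' ∈ Cfsg.suzukiOvoid F m) (h : y • p = p)
    (h' : y' • p' = p') (hne : p ≠ p') :
    (¬ 2 ∣ orderOf (y * y')) ∧
      ∀ M : Subgroup (Cfsg.Sz F m), y ∈ M → y' ∈ M → ∃ g ∈ M, g * y * g⁻¹ = y' := by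
  have hyy : y * y = 1 := sq_one_of_two hy
  have hyy' : y' * y' = 1 := sq_one_of_two hy'
  have hyi : y⁻¹ = y := inv_eq_of_mul_eq_one_right hyy
  have hyi' : y'⁻¹ = y' := inv_eq_of_mul_eq_one_right hyy'
  have hxi : y * (y * y') * y⁻¹ = (y * y')⁻¹ := by
    rw [mul_inv_rev, hyi, hyi', ← mul_assoc, hyy, one_mul]
  have hodd : ¬ 2 ∣ orderOf (y * y') := by
    intro hd
    set u := (y * y') ^ (orderOf (y * y') / 2) with hu
    have hu2 : orderOf u = 2 := orderOf_pow_orderOf_div (orderOf_pos _).ne' hd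
    have hui : u⁻¹ = u := inv_eq_of_mul_eq_one_right (sq_one_of_two hu2)
    have hcy : y * u = u * y := by
      have h1 : y * u * y⁻¹ = u⁻¹ := by rw [hu, ← conj_pow, hxi, inv_pow]
      rw [hui, mul_inv_eq_iff_eq_mul] at h1
      exact h1
    have hcy' : y' * u = u * y' := by
      have h1 : Commute (y * y') u := (Commute.refl _).pow_right _
      have h2 : y' = y * (y * y') := by rw [← mul_assoc, hyy, one_mul]
      rw [h2]
      exact ((show Commute y u from hcy).mul_left h1).eq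
    have hup : u • p = p := inv_point_unique hm hF hy (sz_smul_mem u hp) hp
      (by rw [← mul_smul, hcy, mul_smul, h]) h
    have hup' : u • p' = p' := inv_point_unique hm hF hy' (sz_smul_mem u hp') hp'
      (by rw [← mul_smul, hcy', mul_smul, h']) h'
    exact hne (inv_point_unique hm hF hu2 hp hp' hup hup')
  refine ⟨hodd, fun M hM hM' => ?_⟩
  obtain ⟨i, hi⟩ : ∃ i, orderOf (y * y') = 2 * i + 1 := ⟨orderOf (y * y') / 2, by omega⟩
  refine ⟨(y * y') ^ i, M.pow_mem (M.mul_mem hM hM') _, ?_⟩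
  have h1 : y * ((y * y') ^ i)⁻¹ = (y * y') ^ i * y := by
    have := conj_pow (a := y) (b := y * y') (i := i)
    rw [hxi, inv_pow] at this
    rw [this, ← mul_assoc, ← mul_assoc, hyy, one_mul, hyi]
  have h2 : (y * y') ^ (2 * i) = (y * y')⁻¹ :=
    eq_inv_of_mul_eq_one_left (by rw [← pow_succ, ← hi, pow_orderOf_eq_one])
  rw [mul_assoc, h1, ← mul_assoc, ← pow_add, show i + i = 2 * i by ring, h2, mul_inv_rev, hyi,
    hyi', mul_assoc, hyy, mul_one]

/-- The subgroup has no fixed point on the ovoid. -/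
def Moves (M : Subgroup (Cfsg.Sz F m)) : Prop :=
  ∀ p ∈ Cfsg.suzukiOvoid F m, ∃ g ∈ M, g • p ≠ p

theorem moves_of_not_solvable (hm : 1 ≤ m) (hF : Fintype.card F = 2 ^ (2 * m + 1))
    {M : Subgroup (Cfsg.Sz F m)} (hns : ¬ Group.IsSolvable M) : Moves M := by
  intro p hp
  by_contra hc
  push Not at hc
  haveI := stab_solvable_pt hm hF hp
  have hle : M ≤ MulAction.stabilizer (Cfsg.Sz F m) p := fun g hg => hc g hg
  exact hns (solvable_of_solvable_injective (f := Subgroup.inclusion hle)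
    (Subgroup.inclusion_injective hle))

theorem inv_conj (hm : 1 ≤ m) (hF : Fintype.card F = 2 ^ (2 * m + 1))
    {M : Subgroup (Cfsg.Sz F m)} (hmv : Moves M) {y y' : Cfsg.Sz F m} (hy : y ∈ M) (hy' : y' ∈ M)
    (h2 : orderOf y = 2) (h2' : orderOf y' = 2) : ∃ g ∈ M, g * y * g⁻¹ = y' := by
  obtain ⟨p, hp, h⟩ := inv_point hm hF h2
  obtain ⟨p', hp', h'⟩ := inv_point hm hF h2'
  by_cases hpp : p = p'
  · subst hpp
    obtain ⟨g, hg, hgp⟩ := hmv p hp
    have h3 : orderOf (g * y * g⁻¹) = 2 := (orderOf_conj g y).trans h2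
    have h3p : (g * y * g⁻¹) • (g • p) = g • p := by
      rw [mul_smul, mul_smul, inv_smul_smul, h]
    have hm3 : g * y * g⁻¹ ∈ M := M.mul_mem (M.mul_mem hg hy) (M.inv_mem hg)
    obtain ⟨u, hu, hu'⟩ := (inv_pair hm hF h3 h2' (sz_smul_mem g hp) hp h3p h' hgp).2 M hm3 hy'
    exact ⟨u * g, M.mul_mem hu hg, by rw [← hu']; group⟩
  · exact (inv_pair hm hF h2 h2' hp hp' h h' hpp).2 M hy hy'

/-- The multipliers occurring in the point stabiliser of `∞` in `M`. -/
def lSub (hF : Fintype.card F = 2 ^ (2 * m + 1)) (M : Subgroup (Cfsg.Sz F m)) : Subgroup Fˣ where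
  carrier := {k | ∃ a b, tEl hF a b * dEl hF k ∈ M}
  one_mem' := ⟨0, 0, by rw [tEl_zero, dEl_one, one_mul]; exact M.one_mem⟩
  mul_mem' := by
    rintro k l ⟨a, b, h⟩ ⟨c, d, h'⟩
    obtain ⟨x, y, hxy⟩ := td_mul hF a b c d k l
    exact ⟨x, y, hxy ▸ M.mul_mem h h'⟩
  inv_mem' := by
    rintro k ⟨a, b, h⟩
    have h1 := M.inv_mem h
    rw [mul_inv_rev, dEl_inv, tEl_inv, dEl_tEl] at h1
    exact ⟨_, _, h1⟩

/-- The parameters of the involutions of `M` fixing `∞`, with zero. -/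
def zAdd (hF : Fintype.card F = 2 ^ (2 * m + 1)) (M : Subgroup (Cfsg.Sz F m)) : AddSubgroup F where
  carrier := {b | tEl hF 0 b ∈ M}
  zero_mem' := by show tEl hF 0 0 ∈ M; rw [tEl_zero]; exact M.one_mem
  add_mem' := by
    intro b c hb hc
    have := M.mul_mem hb hc
    rw [tEl_mul, add_zero, th_zero, zero_mul, add_zero] at this
    exact this
  neg_mem' := by
    intro b hb
    show tEl hF 0 (-b) ∈ M
    rw [neg_eq_self hF]
    exact hb

theorem mem_zAdd {hF : Fintype.card F = 2 ^ (2 * m + 1)} {M : Subgroup (Cfsg.Sz F m)} {b : F} :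
    b ∈ zAdd hF M ↔ tEl hF 0 b ∈ M := Iff.rfl

theorem lam_mem_zAdd (hF : Fintype.card F = 2 ^ (2 * m + 1)) {M : Subgroup (Cfsg.Sz F m)}
    (h1 : tEl hF 0 1 ∈ M) {k : Fˣ} (hk : k ∈ lSub hF M) : th m (k : F) * k ∈ zAdd hF M := by
  obtain ⟨a, b, h⟩ := hk
  have := M.mul_mem (M.mul_mem h h1) (M.inv_mem h)
  rwa [td_conj, mul_one] at this

theorem zAdd_cases (hm : 1 ≤ m) (hF : Fintype.card F = 2 ^ (2 * m + 1))
    {M : Subgroup (Cfsg.Sz F m)} (hmv : Moves M) (h1 : tEl hF 0 1 ∈ M) {b : F}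
    (hb : b ∈ zAdd hF M) (hb0 : b ≠ 0) : ∃ k ∈ lSub hF M, th m (k : F) * k = b := by
  obtain ⟨g, hg, hgc⟩ := inv_conj hm hF hmv h1 hb (orderOf_tEl_zero hF one_ne_zero)
    (orderOf_tEl_zero hF hb0)
  have hfix : g • Cfsg.suzukiPointInfinity F = Cfsg.suzukiPointInfinity F := by
    have hne : tEl (m := m) hF 0 b ≠ 1 := fun h =>
      hb0 (tEl_inj hF (h.trans (tEl_zero hF).symm)).2
    refine tEl_unique_fixed hF hne (sz_smul_mem g infty_mem) ?_
    rw [← hgc, mul_smul, mul_smul, inv_smul_smul, tEl_infty]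
  obtain ⟨a, c, k, rfl⟩ := fix_infty hm hF g hfix
  refine ⟨k, ⟨a, c, hg⟩, ?_⟩
  rw [td_conj, mul_one] at hgc
  exact (tEl_inj hF hgc).2

theorem card_zAdd (hm : 1 ≤ m) (hF : Fintype.card F = 2 ^ (2 * m + 1))
    {M : Subgroup (Cfsg.Sz F m)} (hmv : Moves M) (h1 : tEl hF 0 1 ∈ M) :
    Nat.card (zAdd hF M) = Nat.card (lSub hF M) + 1 := by
  have hinj : ∀ k : Fˣ, th m (k : F) * k ≠ 0 := fun k =>
    mul_ne_zero (mt th_eq_zero.mp k.ne_zero) k.ne_zero
  let f : Option (lSub hF M) → zAdd hF M := fun o =>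
    o.elim ⟨0, (zAdd hF M).zero_mem⟩ fun k => ⟨_, lam_mem_zAdd hF h1 k.2⟩
  have hf : Function.Bijective f := by
    constructor
    · rintro (_ | k) (_ | l) h
      · rfl
      · exact absurd (congrArg Subtype.val h).symm (hinj l)
      · exact absurd (congrArg Subtype.val h) (hinj k)
      · exact congrArg some (Subtype.ext (Units.ext ((th_mul_self_bij hF).1 (congrArg Subtype.val h))))
    · rintro ⟨b, hb⟩
      by_cases hb0 : b = 0
      · exact ⟨none, Subtype.ext hb0.symm⟩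
      · obtain ⟨k, hk, hkb⟩ := zAdd_cases hm hF hmv h1 hb hb0
        exact ⟨some ⟨k, hk⟩, Subtype.ext hkb⟩
  rw [← Nat.card_eq_of_bijective f hf, Finite.card_option]

end H63.SzSub
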