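import Cfsg.Agent.H63.SzSubStd
import Cfsg.Agent.H63.SzSubArith
import Cfsg.Agent.H57.SzTwo

/-!
Counting elements and pairs of involutions in a subgroup of a Suzuki group.
-/

set_option autoImplicit false

namespace H63.SzSub

open H57
open scoped Pointwise

variable {F : Type*} [Field F] [Fintype F] {m : ℕ}

theorem orbit_count {G : Type*} [Group G] [Fintype G] [DecidableEq (Subgroup G)] (M U : Subgroup G)
    [DecidablePred (· ∈ M)] :
    ((Finset.univ.filter (· ∈ M)).image fun g => U.map (MulAut.conj g).toMonoidHom).card *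
      Nat.card ↥(M ⊓ Subgroup.normalizer (U : Set G)) = Nat.card M := by
  classical
  have hM : (Finset.univ.filter (· ∈ M)).card = Nat.card M := by
    rw [Nat.card_eq_fintype_card, Fintype.card_subtype]
  rw [← hM, Finset.card_eq_sum_card_image (fun g => U.map (MulAut.conj g).toMonoidHom)
    (Finset.univ.filter (· ∈ M)), Finset.sum_eq_card_nsmul
    (b := Nat.card ↥(M ⊓ Subgroup.normalizer (U : Set G))), smul_eq_mul]
  intro V hV
  obtain ⟨g, hg, rfl⟩ := Finset.mem_image.mp hV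
  replace hg : g ∈ M := (Finset.mem_filter.mp hg).2
  rw [Nat.card_eq_fintype_card, Fintype.card_subtype]
  refine (Finset.card_equiv (Equiv.mulLeft g) fun x => ?_).symm
  simp only [Finset.mem_filter, Finset.mem_univ, true_and, Subgroup.mem_inf, Equiv.coe_mulLeft,
    M.mul_mem_cancel_left hg]
  refine and_congr_right fun _ => ⟨fun hx => ?_, fun hx => ?_⟩
  · rw [← conj_conj_map, map_eq_of_mem_normalizer hx]
  · rw [← conj_conj_map] at hx
    exact mem_normalizer_of_map_eq (Subgroup.map_injective (MulAut.conj g).injective hx)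

theorem inf_card_conj {G : Type*} [Group G] (M U : Subgroup G) {g : G} (hg : g ∈ M) :
    Nat.card ↥(M ⊓ U.map (MulAut.conj g).toMonoidHom) = Nat.card ↥(M ⊓ U) := by
  conv_lhs => rw [← map_eq_of_mem_normalizer (A := M) (Subgroup.le_normalizer hg),
    ← Subgroup.map_inf M U _ (MulAut.conj g).injective]
  exact card_conj _ g

theorem orbit_index (hm : 1 ≤ m) (hF : Fintype.card F = 2 ^ (2 * m + 1))
    (M : Subgroup (Cfsg.Sz F m)) {U : Subgroup (Cfsg.Sz F m)} (hU : IsUTor hF U) :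
    ∃ n, (n = 1 ∨ n = 2 ∨ n = 4) ∧ n ≤ normIdx U ∧
      Nat.card ↥(M ⊓ Subgroup.normalizer (U : Set (Cfsg.Sz F m))) = n * Nat.card ↥(M ⊓ U) := by
  set N := Subgroup.normalizer (U : Set (Cfsg.Sz F m))
  have hle : M ⊓ U ≤ M ⊓ N := inf_le_inf_left M Subgroup.le_normalizer
  have hk : U.relIndex (M ⊓ N) ≤ normIdx U :=
    Subgroup.relIndex_le_of_le_right inf_le_right (Subgroup.index_ne_zero_of_finite (H := U.subgroupOf N))
  have hrel : (M ⊓ U).relIndex (M ⊓ N) = U.relIndex (M ⊓ N) := by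
    rw [← Subgroup.inf_relIndex_right U (M ⊓ N)]
    congr 1
    apply le_antisymm
    · exact le_inf inf_le_right hle
    · exact le_inf (inf_le_right.trans inf_le_left) inf_le_left
  have hc : Nat.card ↥(M ⊓ N) = U.relIndex (M ⊓ N) * Nat.card ↥(M ⊓ U) := by
    rw [← hrel, Subgroup.relIndex, ← Nat.card_congr (Subgroup.subgroupOfEquivOfLe hle).toEquiv,
      Subgroup.index_mul_card]
  refine ⟨U.relIndex (M ⊓ N), ?_, hk, hc⟩
  have h4 : normIdx U ≤ 4 := by rcases normIdx_cases hm hF hU with h | h <;> omega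
  have h0 : U.relIndex (M ⊓ N) ≠ 0 :=
    Subgroup.index_ne_zero_of_finite (H := U.subgroupOf (M ⊓ N))
  have h3 : U.relIndex (M ⊓ N) ≠ 3 := fun h =>
    three_not_dvd_sz hm hF ((show 3 ∣ Nat.card ↥(M ⊓ N) by rw [hc, h]; exact dvd_mul_right 3 _).trans
      (Subgroup.card_subgroup_dvd_card (M ⊓ N)))
  omega

theorem meet_facts (hm : 1 ≤ m) (hF : Fintype.card F = 2 ^ (2 * m + 1))
    (M : Subgroup (Cfsg.Sz F m)) {U : Subgroup (Cfsg.Sz F m)} (hU : IsUTor hF U)
    (hne : M ⊓ U ≠ ⊥) :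
    5 ≤ Nat.card ↥(M ⊓ U) ∧ ¬ 2 ∣ Nat.card ↥(M ⊓ U) ∧ ¬ 3 ∣ Nat.card ↥(M ⊓ U) := by
  have h2 : ¬ 2 ∣ Nat.card ↥(M ⊓ U) := fun h =>
    utor_odd hm hF hU (h.trans (Subgroup.card_dvd_of_le inf_le_right))
  have h3 : ¬ 3 ∣ Nat.card ↥(M ⊓ U) := fun h =>
    three_not_dvd_sz hm hF (h.trans (Subgroup.card_subgroup_dvd_card _))
  have h1 := (Subgroup.one_lt_card_iff_ne_bot _).mpr hne
  refine ⟨?_, h2, h3⟩
  omega

/-- An element of `(M ∩ T) D(k)` is conjugate to `D(k)` under `M ∩ T`. -/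
theorem td_conj_diag (hm : 1 ≤ m) (hF : Fintype.card F = 2 ^ (2 * m + 1))
    {M : Subgroup (Cfsg.Sz F m)} {k : Fˣ} (hk : k ≠ 1) (hd : dEl hF k ∈ M) {a b : F}
    (h : tEl hF a b ∈ M) :
    ∃ t ∈ tSub hF, t ∈ M ∧ tEl hF a b * dEl hF k = t * dEl hF k * t⁻¹ := by
  have hmem : ∀ t : ↥(M ⊓ tSub hF),
      (t : Cfsg.Sz F m) * (dEl hF k * (t : Cfsg.Sz F m)⁻¹ * (dEl hF k)⁻¹) ∈ M ⊓ tSub hF := by
    intro t
    refine ⟨M.mul_mem t.2.1 (M.mul_mem (M.mul_mem hd (M.inv_mem t.2.1)) (M.inv_mem hd)),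
      (tSub hF).mul_mem t.2.2 ?_⟩
    obtain ⟨x, y, hxy⟩ := (tSub hF).inv_mem t.2.2
    rw [hxy, dEl_tEl, mul_inv_cancel_right]
    exact tEl_mem_tSub hF _ _
  let φ : ↥(M ⊓ tSub hF) → ↥(M ⊓ tSub hF) := fun t => ⟨_, hmem t⟩
  have hinj : Function.Injective φ := by
    intro t u htu
    have h' := congrArg Subtype.val htu
    change (t : Cfsg.Sz F m) * (dEl hF k * (t : Cfsg.Sz F m)⁻¹ * (dEl hF k)⁻¹) =
      (u : Cfsg.Sz F m) * (dEl hF k * (u : Cfsg.Sz F m)⁻¹ * (dEl hF k)⁻¹) at h'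
    simp only [← mul_assoc, mul_left_inj] at h'
    have hc : ((u : Cfsg.Sz F m)⁻¹ * t) ∈ Subgroup.centralizer {dEl hF k} := by
      rw [Subgroup.mem_centralizer_singleton_iff]
      calc (u : Cfsg.Sz F m)⁻¹ * t * dEl hF k
          = (u : Cfsg.Sz F m)⁻¹ * ((t : Cfsg.Sz F m) * dEl hF k * (t : Cfsg.Sz F m)⁻¹) * t := by
            group
        _ = (u : Cfsg.Sz F m)⁻¹ * ((u : Cfsg.Sz F m) * dEl hF k * (u : Cfsg.Sz F m)⁻¹) * t := by
            rw [h']
        _ = _ := by group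
    rw [centralizer_dEl hm hF hk] at hc
    obtain ⟨l, hl⟩ := hc
    obtain ⟨x, y, hxy⟩ := (tSub hF).mul_mem ((tSub hF).inv_mem u.2.2) t.2.2
    have h1 : tEl (m := m) hF x y * dEl hF 1 = tEl hF 0 0 * dEl hF l := by
      rw [tEl_zero, dEl_one, mul_one, one_mul, ← hxy, ← hl, dHom_apply]
    obtain ⟨rfl, rfl, -⟩ := td_inj hF h1
    rw [tEl_zero, inv_mul_eq_one] at hxy
    exact Subtype.ext hxy.symm
  obtain ⟨t, ht⟩ := (Finite.injective_iff_surjective.mp hinj) ⟨_, h, tEl_mem_tSub hF a b⟩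
  refine ⟨t, t.2.2, t.2.1, ?_⟩
  rw [← show (t : Cfsg.Sz F m) * (dEl hF k * (t : Cfsg.Sz F m)⁻¹ * (dEl hF k)⁻¹) = tEl hF a b from
    congrArg Subtype.val ht]
  group

theorem card_meet_diag (hF : Fintype.card F = 2 ^ (2 * m + 1))
    {M : Subgroup (Cfsg.Sz F m)} (hS : Std hF M) :
    Nat.card ↥(M ⊓ dSub hF) = Nat.card (lSub hF M) := by
  refine (Nat.card_eq_of_bijective
    (fun k : lSub hF M => (⟨dEl hF (k : Fˣ), hS.diag _ k.2, (k : Fˣ), rfl⟩ : ↥(M ⊓ dSub hF))) ⟨?_, ?_⟩).symm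
  · intro k l h
    exact Subtype.ext (dHom_injective hF (congrArg Subtype.val h))
  · rintro ⟨_, hM, k, rfl⟩
    exact ⟨⟨k, 0, 0, by rw [tEl_zero, one_mul]; exact hM⟩, rfl⟩

set_option maxHeartbeats 1600000 in
/-- The subgroup is doubly transitive on the fixed points of its involutions. -/
theorem pts_eq (hm : 1 ≤ m) (hF : Fintype.card F = 2 ^ (2 * m + 1))
    {M : Subgroup (Cfsg.Sz F m)} (hS : Std hF M) :
    (∃ k : Fˣ, wEl hF * dEl hF k ∈ M) ∧
      ∀ g ∈ M, g • Cfsg.suzukiPointInfinity F = Cfsg.suzukiPointInfinity F ∨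
        ∃ a b, tEl hF a b ∈ M ∧ g • Cfsg.suzukiPointInfinity F = ovPt m a b := by
  classical
  haveI := Fintype.ofFinite (Subgroup (Cfsg.Sz F m))
  haveI : Fintype (Cfsg.Sz F m) := Fintype.ofFinite _
  obtain ⟨f, hf3, hfo, hfd, hcz, hz, hl⟩ := exists_degree hm hF hS
  set inf := Cfsg.suzukiPointInfinity F with hinfdef
  have hinf : inf ∈ Cfsg.suzukiOvoid F m := infty_mem
  set S := Finset.univ.filter (fun p : F × F => tEl hF p.1 p.2 ∈ M) with hSdef
  set Ms := Finset.univ.filter (fun x : Cfsg.Sz F m => x ∈ M) with hMs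
  have hmemS : ∀ p, p ∈ S ↔ tEl hF p.1 p.2 ∈ M := fun p => by simp [S]
  have hmemM : ∀ x, x ∈ Ms ↔ x ∈ M := fun x => by simp [Ms]
  set L := Nat.card (lSub hF M) with hLdef
  set e := 2 ^ f with hedef
  have he8 : 8 ≤ e := (show 2 ^ 3 ≤ 2 ^ f from Nat.pow_le_pow_right (by norm_num) hf3)
  have he4 : 4 ∣ e := (show 2 ^ 2 ∣ 2 ^ f from Nat.pow_dvd_pow 2 (by omega))
  have hLe : e = L + 1 := by rw [← hcz, card_zAdd hm hF hS.moves hS.one_mem]
  have hsle : e ≤ S.card := by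
    rw [← hcz, Nat.card_eq_fintype_card, Fintype.card_subtype]
    refine Finset.card_le_card_of_injOn (fun b => (0, b)) (fun b hb => ?_) (by simp [Set.InjOn])
    simp only [Finset.coe_filter, Finset.mem_univ, true_and, Set.mem_setOf_eq] at hb
    rw [Finset.mem_coe, hmemS]
    exact hb
  -- the orbit of `∞`
  set P := Ms.image (fun g => g • inf) with hP
  have hPmem : ∀ p, p ∈ P ↔ ∃ g ∈ M, g • inf = p := fun p => by simp [P, hmemM]
  have hPov : ∀ p ∈ P, p ∈ Cfsg.suzukiOvoid F m := fun p hp => by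
    obtain ⟨g, -, rfl⟩ := (hPmem p).mp hp
    exact sz_smul_mem g hinf
  have hPinv : ∀ {y : Cfsg.Sz F m} {p : Projectivization F (Fin 4 → F)}, y ∈ M → orderOf y = 2 →
      p ∈ Cfsg.suzukiOvoid F m → y • p = p → p ∈ P := by
    intro y p hy h2 hp hyp
    obtain ⟨g, hg, hgc⟩ := inv_conj hm hF hS.moves hS.one_mem hy
      (orderOf_tEl_zero hF one_ne_zero) h2
    refine (hPmem p).mpr ⟨g, hg, inv_point_unique hm hF h2 (sz_smul_mem g hinf) hp ?_ hyp⟩
    rw [← hgc, mul_smul, mul_smul, inv_smul_smul, hinfdef, tEl_infty]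
  have hN2 : 2 ≤ P.card := by
    obtain ⟨g, hg, hgi⟩ := hS.moves inf hinf
    exact Finset.one_lt_card.mpr ⟨_, (hPmem _).mpr ⟨g, hg, rfl⟩, inf,
      (hPmem _).mpr ⟨1, M.one_mem, one_smul _ _⟩, hgi⟩
  have hstab : Nat.card (MulAction.stabilizer M inf) = S.card * L := by
    rw [hinfdef, card_stab_std hm hF hS, ← hLdef, Nat.card_eq_fintype_card (α := {p : F × F // tEl hF p.1 p.2 ∈ M}),
      Fintype.card_subtype]
  have hg : Nat.card M = P.card * (S.card * L) := by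
    have hcong := Nat.card_congr (MulAction.orbitProdStabilizerEquivGroup M inf)
    rw [Nat.card_prod, hstab] at hcong
    have horb : MulAction.orbit M inf = (P : Set (Projectivization F (Fin 4 → F))) := by
      ext p
      rw [Finset.mem_coe, hPmem]
      exact ⟨fun ⟨g, h⟩ => ⟨g.1, g.2, h⟩, fun ⟨g, hg, h⟩ => ⟨⟨g, hg⟩, h⟩⟩
    rw [horb, Nat.card_coe_set_eq, Set.ncard_coe_finset] at hcong
    exact hcong.symm
  -- two-elements and involutions with a given fixed point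
  have hfour : ∀ {x : Cfsg.Sz F m}, x ∈ M → x ≠ 1 → x ^ 4 = 1 → ∃ p ∈ P, x • p = p := by
    intro x hx h1 h4
    have h2 := two_dvd_of_four h1 h4
    obtain ⟨p, hp, hxp⟩ := two_el_fixed hm hF h2
    exact ⟨p, hPinv (M.pow_mem hx (orderOf x / 2))
      (orderOf_pow_orderOf_div (orderOf_pos x).ne' h2) hp
      (MulAction.mem_stabilizer_iff.mp (Subgroup.pow_mem _ (MulAction.mem_stabilizer_iff.mpr hxp) _)), hxp⟩
  set Tp := fun p : Projectivization F (Fin 4 → F) =>
    Ms.filter (fun x => x ≠ 1 ∧ x ^ 4 = 1 ∧ x • p = p) with hTp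
  set Jp := fun p : Projectivization F (Fin 4 → F) =>
    Ms.filter (fun x => orderOf x = 2 ∧ x • p = p) with hJp
  have htrans : ∀ (Q : Cfsg.Sz F m → Prop), (∀ g x, Q (g * x * g⁻¹) ↔ Q x) → ∀ p ∈ P,
      (Ms.filter (fun x => Q x ∧ x • p = p)).card = (Ms.filter (fun x => Q x ∧ x • inf = inf)).card := by
    intro Q hQ p hp
    obtain ⟨g, hg, rfl⟩ := (hPmem p).mp hp
    refine (Finset.card_equiv (MulAut.conj g).toEquiv fun x => ?_).symm
    simp only [Finset.mem_filter, hmemM, MulEquiv.toEquiv_eq_coe, EquivLike.coe_coe,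
      MulAut.conj_apply, hQ, M.mul_mem_cancel_right (M.inv_mem hg), M.mul_mem_cancel_left hg,
      mul_smul, inv_smul_smul, smul_left_cancel_iff]
  have hTcard : ∀ p ∈ P, (Tp p).card = S.card - 1 := by
    intro p hp
    have h0 : ((0 : F), (0 : F)) ∈ S := by rw [hmemS, tEl_zero]; exact M.one_mem
    rw [← Finset.card_erase_of_mem h0]
    have := htrans (fun x => x ≠ 1 ∧ x ^ 4 = 1) (fun g x => by simp [conj_eq_one_iff, conj_pow]) p hp
    simp only [and_assoc] at this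
    refine this.trans (Finset.card_bij (fun q _ => tEl hF q.1 q.2) ?_ ?_ ?_).symm
    · intro q hq
      rw [Finset.mem_erase, hmemS] at hq
      simp only [Finset.mem_filter, hmemM]
      exact ⟨hq.2, fun h => hq.1 (Prod.ext (tEl_inj hF (h.trans (tEl_zero hF).symm)).1
        (tEl_inj hF (h.trans (tEl_zero hF).symm)).2), tEl_pow_four hF _ _, tEl_infty hF _ _⟩
    · intro q _ q' _ h
      exact Prod.ext (tEl_inj hF h).1 (tEl_inj hF h).2
    · intro x hx
      simp only [Finset.mem_filter, hmemM] at hx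
      obtain ⟨a, b, rfl⟩ := fix_four hm hF hx.2.2.2 hx.2.2.1
      refine ⟨(a, b), Finset.mem_erase.mpr ⟨fun h => hx.2.1 ?_, (hmemS _).mpr hx.1⟩, rfl⟩
      rw [Prod.mk.injEq] at h
      rw [h.1, h.2, tEl_zero]
  have hJcard : ∀ p ∈ P, (Jp p).card = L := by
    intro p hp
    have := htrans (fun x => orderOf x = 2) (fun g x => by rw [orderOf_conj]) p hp
    refine Eq.trans (b := (Ms.filter (fun x => orderOf x = 2 ∧ x • inf = inf)).card)
      (by convert this using 3) ?_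
    have hL' : (Finset.univ.filter (fun b : F => b ∈ zAdd hF M ∧ b ≠ 0)).card = L := by
      have h1 : (Finset.univ.filter (fun b : F => b ∈ zAdd hF M)).card = L + 1 := by
        rw [← hLe, ← hcz, Nat.card_eq_fintype_card, Fintype.card_subtype]
      rw [show Finset.univ.filter (fun b : F => b ∈ zAdd hF M ∧ b ≠ 0) =
        (Finset.univ.filter (fun b : F => b ∈ zAdd hF M)).erase 0 by ext b; simp [and_comm],
        Finset.card_erase_of_mem (by simp), h1, Nat.add_sub_cancel]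
    rw [← hL']
    refine (Finset.card_bij (fun b _ => tEl hF 0 b) ?_ ?_ ?_).symm
    · intro b hb
      simp only [Finset.mem_filter, Finset.mem_univ, true_and] at hb
      simp only [Finset.mem_filter, hmemM]
      exact ⟨hb.1, orderOf_tEl_zero hF hb.2, tEl_infty hF _ _⟩
    · intro b _ b' _ h
      exact (tEl_inj hF h).2
    · intro x hx
      simp only [Finset.mem_filter, hmemM] at hx
      obtain ⟨b, hb, rfl⟩ := inv_fix_infty hm hF hx.2.2 hx.2.1
      exact ⟨b, by simpa [mem_zAdd] using ⟨hx.1, hb⟩, rfl⟩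
  -- the tori meeting `M`
  set 𝒯 := Finset.univ.filter (fun U : Subgroup (Cfsg.Sz F m) => IsUTor hF U ∧ M ⊓ U ≠ ⊥) with hT
  set w := fun U : Subgroup (Cfsg.Sz F m) => Nat.card ↥(M ⊓ U) with hw
  set A := fun U : Subgroup (Cfsg.Sz F m) => Ms.filter (fun x => x ∈ U ∧ x ≠ 1) with hA
  have hAcard : ∀ U, (A U).card = w U - 1 := by
    intro U
    have h1 : (1 : Cfsg.Sz F m) ∈ Ms.filter (fun x => x ∈ U) := by simp [hmemM, U.one_mem, M.one_mem]
    rw [show A U = (Ms.filter (fun x => x ∈ U)).erase 1 by ext x; simp [A]; tauto,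
      Finset.card_erase_of_mem h1]
    congr 1
    simp only [w]
    rw [Nat.card_eq_fintype_card, Fintype.card_subtype]
    congr 1
    ext x
    simp [hmemM]
  have hodd4 : ∀ {U : Subgroup (Cfsg.Sz F m)} {x : Cfsg.Sz F m}, IsUTor hF U → x ∈ U → x ≠ 1 →
      ¬ x ^ 4 = 1 :=
    fun hU hx hx1 h4 => utor_no_fix_inv hm hF hU hx hx1 (two_dvd_of_four hx1 h4)
  have hcover : ∀ {x : Cfsg.Sz F m}, x ∈ M → ¬ x ^ 4 = 1 → ∃ U ∈ 𝒯, x ∈ A U := by
    intro x hx h4
    have hx1 : x ≠ 1 := fun h => h4 (by rw [h, one_pow])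
    obtain ⟨U, hU, hxU⟩ : ∃ U, IsUTor hF U ∧ x ∈ U := by
      rcases sz_trichotomy hm hF hx1 with ⟨s, a, b, hs⟩ | ⟨s, hs⟩ | ⟨V, hV, hxV⟩
      · exfalso
        apply h4
        have hx' : x = s * tEl hF a b * s⁻¹ := by rw [← hs]; group
        rw [hx', conj_pow, tEl_pow_four hF, mul_one, mul_inv_cancel]
      · exact ⟨_, Or.inl ⟨s, rfl⟩, mem_map_conj_iff.mpr hs⟩
      · exact ⟨V, Or.inr hV, hxV⟩
    refine ⟨U, ?_, by simp [A, hmemM, hx, hxU, hx1]⟩
    simp only [𝒯, Finset.mem_filter, Finset.mem_univ, true_and]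
    exact ⟨hU, fun h => hx1 (Subgroup.mem_bot.mp (h ▸ ⟨hx, hxU⟩))⟩
  have hdisjA : (𝒯 : Set (Subgroup (Cfsg.Sz F m))).PairwiseDisjoint A := by
    intro U hU V hV hne
    rw [Function.onFun, Finset.disjoint_left]
    intro x hxU hxV
    simp only [A, Finset.mem_filter] at hxU hxV
    simp only [𝒯, Finset.coe_filter, Finset.mem_univ, true_and, Set.mem_setOf_eq] at hU hV
    exact hne (utor_ti hm hF hU.1 hV.1 hxU.2.1 hxV.2.1 hxU.2.2)
  have hdisjT : (P : Set (Projectivization F (Fin 4 → F))).PairwiseDisjoint Tp := by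
    intro p hp q hq hne
    rw [Function.onFun, Finset.disjoint_left]
    intro x hxp hxq
    simp only [Tp, Finset.mem_filter] at hxp hxq
    exact hne (sz_fixes_two hm hF hxp.2.1 (two_dvd_of_four hxp.2.1 hxp.2.2.1) (hPov p hp)
      (hPov q hq) hxp.2.2.2 hxq.2.2.2)
  have E1 : Nat.card M = 1 + P.card * (S.card - 1) + ∑ U ∈ 𝒯, (w U - 1) := by
    have h4 : (Ms.erase 1).filter (fun x => x ^ 4 = 1) = P.biUnion Tp := by
      ext x
      simp only [Finset.mem_filter, Finset.mem_erase, Finset.mem_biUnion, Tp]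
      constructor
      · rintro ⟨⟨h1, hxM⟩, h4⟩
        obtain ⟨p, hp, hxp⟩ := hfour ((hmemM x).mp hxM) h1 h4
        exact ⟨p, hp, hxM, h1, h4, hxp⟩
      · rintro ⟨p, hp, hxM, h1, h4, hxp⟩
        exact ⟨⟨h1, hxM⟩, h4⟩
    have h5 : (Ms.erase 1).filter (fun x => ¬ x ^ 4 = 1) = 𝒯.biUnion A := by
      ext x
      simp only [Finset.mem_filter, Finset.mem_erase, Finset.mem_biUnion]
      constructor
      · rintro ⟨⟨h1, hxM⟩, h4⟩
        exact hcover ((hmemM x).mp hxM) h4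
      · rintro ⟨U, hU, hx⟩
        simp only [𝒯, A, Finset.mem_filter, Finset.mem_univ, true_and] at hU hx
        exact ⟨⟨hx.2.2, hx.1⟩, hodd4 hU.1 hx.2.1 hx.2.2⟩
    have h6 := Finset.card_filter_add_card_filter_not (s := Ms.erase 1) (fun x => x ^ 4 = 1)
    rw [h4, h5, Finset.card_biUnion hdisjT, Finset.card_biUnion hdisjA,
      Finset.sum_congr rfl hTcard, Finset.sum_const, smul_eq_mul,
      Finset.sum_congr rfl (fun U _ => hAcard U),
      Finset.card_erase_of_mem ((hmemM 1).mpr M.one_mem)] at h6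
    have h7 : Ms.card = Nat.card M := by rw [Nat.card_eq_fintype_card, Fintype.card_subtype]
    have h8 : 0 < Nat.card M := Nat.card_pos
    omega
  have E2 : P.card * L * (P.card * L) ≤ P.card * (L * L) + ∑ U ∈ 𝒯, (w U - 1) * w U := by
    set J := Ms.filter (fun x => orderOf x = 2) with hJ
    have hJcard' : J.card = P.card * L := by
      rw [show J = P.biUnion Jp from ?_, Finset.card_biUnion, Finset.sum_congr rfl hJcard,
        Finset.sum_const, smul_eq_mul]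
      · intro p hp q hq hne
        rw [Function.onFun, Finset.disjoint_left]
        intro x hxp hxq
        simp only [Jp, Finset.mem_filter] at hxp hxq
        exact hne (inv_point_unique hm hF hxp.2.1 (hPov p hp) (hPov q hq) hxp.2.2 hxq.2.2)
      · ext x
        simp only [J, Jp, Finset.mem_filter, Finset.mem_biUnion, hmemM]
        constructor
        · rintro ⟨hx, h2⟩
          obtain ⟨p, hp, hxp⟩ := inv_point hm hF h2
          exact ⟨p, hPinv hx h2 hp hxp, hx, h2, hxp⟩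
        · rintro ⟨p, hp, hx, h2, hxp⟩
          exact ⟨hx, h2⟩
    set Iv := fun (x : Cfsg.Sz F m) => Ms.filter (fun y => y * x * y⁻¹ = x⁻¹ ∧ orderOf y = 2) with hIv
    have hsub : J ×ˢ J ⊆ P.biUnion (fun p => Jp p ×ˢ Jp p) ∪
        𝒯.biUnion (fun U => (A U).biUnion (fun x => (Iv x).image (fun y => (y, y * x)))) := by
      rintro ⟨y, y'⟩ hyy
      simp only [Finset.mem_product, J, Finset.mem_filter, hmemM] at hyy
      obtain ⟨⟨hy, h2⟩, ⟨hy', h2'⟩⟩ := hyy
      obtain ⟨p, hp, hyp⟩ := inv_point hm hF h2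
      obtain ⟨p', hp', hyp'⟩ := inv_point hm hF h2'
      rw [Finset.mem_union]
      by_cases hpp : p = p'
      · left
        subst hpp
        simp only [Finset.mem_biUnion, Finset.mem_product, Jp, Finset.mem_filter, hmemM]
        exact ⟨p, hPinv hy h2 hp hyp, ⟨hy, h2, hyp⟩, hy', h2', hyp'⟩
      · right
        have hodd := (inv_pair hm hF h2 h2' hp hp' hyp hyp' hpp).1
        have hne : y * y' ≠ 1 := fun h => hpp (by
          have he : y' = y := by
            rw [← inv_eq_of_mul_eq_one_right h, inv_eq_of_mul_eq_one_right (sq_one_of_two h2)]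
          exact inv_point_unique hm hF h2 hp hp' hyp (he ▸ hyp'))
        obtain ⟨U, hU, hxA⟩ := hcover (M.mul_mem hy hy')
          (fun h4 => hodd (two_dvd_of_four hne h4))
        simp only [Finset.mem_biUnion, Finset.mem_image, Prod.mk.injEq]
        refine ⟨U, hU, y * y', hxA, y, ?_, rfl, ?_⟩
        · simp only [Iv, Finset.mem_filter, hmemM]
          refine ⟨hy, ?_, h2⟩
          rw [mul_inv_rev, inv_eq_of_mul_eq_one_right (sq_one_of_two h2),
            inv_eq_of_mul_eq_one_right (sq_one_of_two h2'), ← mul_assoc, sq_one_of_two h2, one_mul]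
        · rw [← mul_assoc, sq_one_of_two h2, one_mul]
    have hIcard : ∀ U ∈ 𝒯, ∀ x ∈ A U, (Iv x).card ≤ w U := by
      intro U hU x hx
      simp only [𝒯, A, Finset.mem_filter, Finset.mem_univ, true_and] at hU hx
      rcases Finset.eq_empty_or_nonempty (Iv x) with he | ⟨y₀, hy₀⟩
      · rw [he]; simp
      simp only [w]
      rw [Nat.card_eq_fintype_card, Fintype.card_subtype]
      refine Finset.card_le_card_of_injOn (fun y => y * y₀) (fun y hy => ?_)
        ((mul_left_injective y₀).injOn)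
      simp only [Iv, Finset.coe_filter, Finset.mem_filter, Set.mem_setOf_eq, hmemM] at hy hy₀
      simp only [Finset.coe_filter, Finset.mem_univ, true_and, Set.mem_setOf_eq, Subgroup.mem_inf]
      refine ⟨M.mul_mem hy.1 hy₀.1, ?_⟩
      rw [← utor_centralizer hm hF hU.1 hx.2.1 hx.2.2, Subgroup.mem_centralizer_singleton_iff]
      have h0 : y₀ * x = x⁻¹ * y₀ := mul_inv_eq_iff_eq_mul.mp hy₀.2.1
      have h1 : y * x⁻¹ = x * y := by
        have := congrArg (·⁻¹) hy.2.1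
        simp only [mul_inv_rev, inv_inv] at this
        exact mul_inv_eq_iff_eq_mul.mp (by rwa [← mul_assoc] at this)
      rw [mul_assoc, h0, ← mul_assoc, h1, mul_assoc]
    calc P.card * L * (P.card * L) = (J ×ˢ J).card := by rw [Finset.card_product, hJcard']
      _ ≤ _ := Finset.card_le_card hsub
      _ ≤ _ := Finset.card_union_le _ _
      _ ≤ _ := by
        refine add_le_add (Finset.card_biUnion_le.trans (le_of_eq ?_))
          (Finset.card_biUnion_le.trans (Finset.sum_le_sum fun U hU => ?_))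
        · rw [Finset.sum_congr rfl (fun p hp => by rw [Finset.card_product, hJcard p hp]),
            Finset.sum_const, smul_eq_mul]
        · refine Finset.card_biUnion_le.trans ((Finset.sum_le_sum fun x hx =>
            Finset.card_image_le.trans (hIcard U hU x hx)).trans ?_)
          rw [Finset.sum_const, smul_eq_mul, hAcard]
  -- orbits of tori
  set gQ : ℚ := (P.card : ℚ) * S.card * ((e : ℚ) - 1) with hgQ
  have hgQ' : gQ = (Nat.card M : ℚ) := by
    rw [hgQ, hg, hLe]; push_cast; ring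
  have hgpos : (0 : ℚ) < gQ := by
    rw [hgQ']; exact_mod_cast Nat.card_pos
  set O := fun U : Subgroup (Cfsg.Sz F m) =>
    Ms.image (fun g => U.map (MulAut.conj g).toMonoidHom) with hO
  have hOself : ∀ U, U ∈ O U := fun U =>
    Finset.mem_image.mpr ⟨1, (hmemM 1).mpr M.one_mem, conj_one_map U⟩
  have hOeq : ∀ U V, V ∈ O U → O V ⊆ O U ∧ U ∈ O V := by
    intro U V hV
    obtain ⟨g, hg, rfl⟩ := Finset.mem_image.mp hV
    rw [hmemM] at hg
    constructor
    · intro W hW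
      obtain ⟨h, hh, rfl⟩ := Finset.mem_image.mp hW
      rw [hmemM] at hh
      exact Finset.mem_image.mpr ⟨h * g, (hmemM _).mpr (M.mul_mem hh hg), (conj_conj_map _ _ _).symm⟩
    · refine Finset.mem_image.mpr ⟨g⁻¹, (hmemM _).mpr (M.inv_mem hg), ?_⟩
      rw [conj_conj_map, inv_mul_cancel, conj_one_map]
  have hOsub : ∀ U ∈ 𝒯, O U ⊆ 𝒯 := by
    intro U hU V hV
    obtain ⟨g, hg, rfl⟩ := Finset.mem_image.mp hV
    rw [hmemM] at hg
    simp only [𝒯, Finset.mem_filter, Finset.mem_univ, true_and] at hU ⊢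
    refine ⟨utor_conj hF hU.1 g, ?_⟩
    rw [← Subgroup.one_lt_card_iff_ne_bot, inf_card_conj M U hg, Subgroup.one_lt_card_iff_ne_bot]
    exact hU.2
  have horbit : ∀ U ∈ 𝒯, ∃ n, (n = 1 ∨ n = 2 ∨ n = 4) ∧ n ≤ normIdx U ∧
      Nat.card ↥(M ⊓ Subgroup.normalizer (U : Set (Cfsg.Sz F m))) = n * w U ∧
      ∑ V ∈ O U, ((w V - 1 : ℕ) : ℚ) = gQ * ((1 - 1 / (w U : ℚ)) / (n : ℚ)) ∧
      ∑ V ∈ O U, (((w V - 1) * w V : ℕ) : ℚ) = gQ * (((w U : ℚ) - 1) / (n : ℚ)) := by
    intro U hU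
    simp only [𝒯, Finset.mem_filter, Finset.mem_univ, true_and] at hU
    obtain ⟨n, hn, hnle, hcard⟩ := orbit_index hm hF M hU.1
    have hcount : (O U).card * Nat.card ↥(M ⊓ Subgroup.normalizer (U : Set (Cfsg.Sz F m))) =
        Nat.card M := orbit_count M U
    rw [hcard] at hcount
    have hconst : ∀ V ∈ O U, w V = w U := fun V hV => by
      obtain ⟨g, hg, rfl⟩ := Finset.mem_image.mp hV
      exact inf_card_conj M U ((hmemM g).mp hg)
    have hw0 : (1 : ℕ) ≤ w U := Nat.card_pos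
    have hn0 : (n : ℚ) ≠ 0 := by rcases hn with h | h | h <;> rw [h] <;> norm_num
    have hwq : (w U : ℚ) ≠ 0 := by exact_mod_cast (by omega : w U ≠ 0)
    have hcq : gQ = ((O U).card : ℚ) * ((n : ℚ) * w U) := by
      rw [hgQ', ← hcount]; push_cast; rfl
    refine ⟨n, hn, hnle, hcard, ?_, ?_⟩
    · rw [Finset.sum_congr rfl (fun V hV => by rw [hconst V hV]), Finset.sum_const, nsmul_eq_mul,
        Nat.cast_sub hw0, hcq]
      field_simp
      push_cast
      ring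
    · rw [Finset.sum_congr rfl (fun V hV => by rw [hconst V hV]), Finset.sum_const, nsmul_eq_mul,
        Nat.cast_mul, Nat.cast_sub hw0, hcq]
      field_simp
      push_cast
      ring
  -- the class of the diagonal torus
  have hd𝒯 : dSub hF ∈ 𝒯 := by
    simp only [𝒯, Finset.mem_filter, Finset.mem_univ, true_and]
    refine ⟨Or.inl ⟨1, (conj_one_map _).symm⟩, ?_⟩
    rw [← Subgroup.one_lt_card_iff_ne_bot, card_meet_diag hF hS, ← hLdef]
    omega
  have hw0L : w (dSub hF) = L := card_meet_diag hF hS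
  obtain ⟨n₀, hn₀, hn₀le, hn₀card, hS₀, hT₀⟩ := horbit _ hd𝒯
  have hn₀2 : n₀ = 1 ∨ n₀ = 2 := by
    have hidx : normIdx (dSub (m := m) hF) = 2 := by
      have h := card_normalizer_dSub hm hF
      rw [normIdx_spec, card_dSub] at h
      have : 2 ≤ 2 ^ (2 * m + 1) := Nat.le_self_pow (by omega) 2
      exact Nat.eq_of_mul_eq_mul_right (by omega) h
    omega
  rw [hw0L] at hS₀ hT₀ hn₀card
  set R := 𝒯 \ O (dSub hF) with hRdef
  set X : ℚ := (∑ V ∈ R, ((w V - 1 : ℕ) : ℚ)) / gQ with hXdef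
  set Y : ℚ := (∑ V ∈ R, (((w V - 1) * w V : ℕ) : ℚ)) / gQ with hYdef
  have hLq : (L : ℚ) = (e : ℚ) - 1 := by rw [hLe]; push_cast; ring
  have hX : X = 1 - 1 / gQ - (1 - 1 / (S.card : ℚ)) / ((e : ℚ) - 1) -
      (1 - 1 / ((e : ℚ) - 1)) / (n₀ : ℚ) := by
    have h1 := congrArg (fun x : ℕ => (x : ℚ)) E1
    simp only [Nat.cast_add, Nat.cast_sum, Nat.cast_mul, Nat.cast_one] at h1
    rw [← Finset.sum_sdiff (hOsub _ hd𝒯), ← hRdef, hS₀, hLq, ← hgQ',
      Nat.cast_sub (show 1 ≤ S.card by omega), Nat.cast_one] at h1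
    have h2 : (∑ V ∈ R, ((w V - 1 : ℕ) : ℚ)) = gQ * X := by
      rw [hXdef, mul_div_cancel₀ _ hgpos.ne']
    rw [h2] at h1
    have hS0 : (S.card : ℚ) ≠ 0 := by exact_mod_cast (by omega : S.card ≠ 0)
    have hP0 : (P.card : ℚ) ≠ 0 := by exact_mod_cast (by omega : P.card ≠ 0)
    have he0 : (e : ℚ) - 1 ≠ 0 := by
      have : (8 : ℚ) ≤ (e : ℚ) := by exact_mod_cast he8
      linarith
    have h3 : (P.card : ℚ) * ((S.card : ℚ) - 1) =
        gQ * ((1 - 1 / (S.card : ℚ)) / ((e : ℚ) - 1)) := by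
      rw [hgQ]; field_simp
    rw [h3] at h1
    have h4 : gQ * (X + 1 / gQ + (1 - 1 / (S.card : ℚ)) / ((e : ℚ) - 1) +
        (1 - 1 / ((e : ℚ) - 1)) / (n₀ : ℚ)) = gQ * 1 := by
      rw [mul_add, mul_add, mul_add, mul_one_div_cancel hgpos.ne', mul_one]
      linarith
    have := mul_left_cancel₀ hgpos.ne' h4
    linarith
  have hbound : ∀ U ∈ 𝒯, 5 ≤ w U ∧ ¬ 2 ∣ w U ∧ ¬ 3 ∣ w U := fun U hU => by
    simp only [𝒯, Finset.mem_filter, Finset.mem_univ, true_and] at hU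
    exact meet_facts hm hF M hU.1 hU.2
  have hsplit : ∀ R' : Finset (Subgroup (Cfsg.Sz F m)), R' ⊆ 𝒯 →
      (∀ U ∈ R', O U ⊆ R') → ∀ U ∈ R', (∀ V ∈ R' \ O U, O V ⊆ R' \ O U) ∧
        (∀ φ : Subgroup (Cfsg.Sz F m) → ℚ, (∑ V ∈ R', φ V) / gQ =
          (∑ V ∈ R' \ O U, φ V) / gQ + (∑ V ∈ O U, φ V) / gQ) := by
    intro R' _ hcl U hU
    refine ⟨fun V hV W hW => ?_, fun φ => ?_⟩
    · rw [Finset.mem_sdiff] at hV ⊢
      refine ⟨hcl V hV.1 hW, fun hWU => hV.2 ?_⟩
      exact (hOeq U W hWU).1 ((hOeq V W hW).2)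
    · rw [← Finset.sum_sdiff (hcl U hU), add_div]
  have hnn : ∀ R' : Finset (Subgroup (Cfsg.Sz F m)),
      0 ≤ (∑ V ∈ R', ((w V - 1 : ℕ) : ℚ)) / gQ := fun R' =>
    div_nonneg (Finset.sum_nonneg fun V _ => Nat.cast_nonneg _) hgpos.le
  have hone : ∀ U ∈ 𝒯, ∀ n : ℕ, ∑ V ∈ O U, ((w V - 1 : ℕ) : ℚ) = gQ * ((1 - 1 / (w U : ℚ)) / (n : ℚ)) →
      (∑ V ∈ O U, ((w V - 1 : ℕ) : ℚ)) / gQ = (1 - 1 / (w U : ℚ)) / (n : ℚ) := by
    intro U _ n h
    rw [h, mul_div_cancel_left₀ _ hgpos.ne']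
  have hRcl : ∀ U ∈ R, O U ⊆ R := (hsplit 𝒯 subset_rfl hOsub _ hd𝒯).1
  obtain ⟨hb1, hb2, hb3, hb4⟩ := rest_bounds he8 hsle hN2
  rw [← hgQ] at hb1 hb2 hb3 hb4
  have hn₀eq : n₀ = 2 := by
    refine hn₀2.resolve_left fun h1 => ?_
    rw [h1, Nat.cast_one] at hX
    rcases R.eq_empty_or_nonempty with he | ⟨U, hU⟩
    · rw [hXdef, he, Finset.sum_empty, zero_div] at hX
      linarith
    · have hU' : U ∈ 𝒯 := (Finset.mem_sdiff.mp hU).1
      obtain ⟨n, hn, -, -, hs, -⟩ := horbit U hU'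
      have h2 := (hsplit R Finset.sdiff_subset hRcl U hU).2 (fun V => ((w V - 1 : ℕ) : ℚ))
      rw [← hXdef, hone U hU' n hs] at h2
      have h3 := (term_bounds (hbound U hU').1 hn).1
      have h4 := hnn (R \ O U)
      linarith
  rw [hn₀eq] at hX hn₀card hT₀ hS₀
  push_cast at hX hS₀
  have hwk : ∃ k : Fˣ, wEl hF * dEl hF k ∈ M := by
    obtain ⟨g, hg, hgD⟩ : ∃ g, g ∈ M ⊓ Subgroup.normalizer (dSub hF : Set (Cfsg.Sz F m)) ∧
        g ∉ dSub hF := by
      by_contra hc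
      push Not at hc
      have hle := Subgroup.card_le_of_le (show M ⊓ Subgroup.normalizer
        (dSub hF : Set (Cfsg.Sz F m)) ≤ M ⊓ dSub hF from fun g hg => ⟨hg.1, hc g hg⟩)
      rw [hn₀card] at hle
      change 2 * L ≤ w (dSub hF) at hle
      rw [hw0L] at hle
      omega
    obtain ⟨k₁, hk₁, hk₁1⟩ := exists_unit_ne_one hS
    rcases dSub_ti hm hF hk₁1 ((Subgroup.mem_normalizer_iff.mp hg.2 _).mp ⟨k₁, rfl⟩) with h | ⟨l, hl⟩
    · exact absurd h hgD
    · refine ⟨l, ?_⟩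
      rw [show dEl hF l = wEl hF * g from hl, ← mul_assoc, wEl_mul_self, one_mul]
      exact hg.1
  refine ⟨hwk, ?_⟩
  by_contra hc
  push Not at hc
  obtain ⟨g, hgM, hgi, hgS⟩ := hc
  set r := g • inf with hr
  -- a regular orbit of the point stabiliser
  have hbig : S.card * e + 1 ≤ P.card := by
    let B := MulAction.stabilizer M inf
    let φ : Option ({p : F × F // tEl hF p.1 p.2 ∈ M} ⊕ B) → P := fun o =>
      match o with
      | none => ⟨inf, (hPmem _).mpr ⟨1, M.one_mem, one_smul _ _⟩⟩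
      | some (Sum.inl p) => ⟨ovPt m p.1.1 p.1.2, by
          obtain ⟨k, hk⟩ := hwk
          refine (hPmem _).mpr ⟨tEl hF p.1.1 p.1.2 * (wEl hF * dEl hF k), M.mul_mem p.2 hk, ?_⟩
          rw [mul_smul, mul_smul, hinfdef, dEl_infty, wEl_infty, tEl_ovPt_zero]⟩
      | some (Sum.inr b) => ⟨((b : M) : Cfsg.Sz F m) • r, (hPmem _).mpr
          ⟨((b : M) : Cfsg.Sz F m) * g, M.mul_mem b.1.2 hgM, by rw [mul_smul]⟩⟩
    have hfixB : ∀ b : B, ∃ a c, ∃ k ∈ lSub hF M, tEl hF a c ∈ M ∧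
        ((b : M) : Cfsg.Sz F m) = tEl hF a c * dEl hF k := by
      rintro ⟨⟨x, hx⟩, hfix⟩
      obtain ⟨a, c, k, rfl⟩ := fix_infty hm hF x hfix
      exact ⟨a, c, k, ⟨a, c, hx⟩,
        (M.mul_mem_cancel_right (hS.diag k ⟨a, c, hx⟩)).mp hx, rfl⟩
    have hbr : ∀ b : B, ((b : M) : Cfsg.Sz F m) • r = r → b = 1 := by
      intro b hb
      obtain ⟨a, c, k, hk, hac, hbe⟩ := hfixB b
      rw [hbe] at hb
      have hr' : r ∈ Cfsg.suzukiOvoid F m := sz_smul_mem g hinf
      have hone : tEl hF a c * dEl hF k = 1 := by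
        by_cases hk1 : k = 1
        · subst hk1
          rw [dEl_one, mul_one] at hb ⊢
          by_contra hne
          exact hgi (tEl_unique_fixed hF hne hr' hb)
        · exfalso
          obtain ⟨t, ⟨u, v, rfl⟩, htM, hteq⟩ := td_conj_diag hm hF hk1 (hS.diag k hk) hac
          rw [hteq, mul_smul, mul_smul, ← eq_inv_smul_iff] at hb
          rcases dEl_fixed hm hF hk1 (sz_smul_mem _ hr') hb with h | h
          · rw [inv_smul_eq_iff, tEl_infty] at h
            exact hgi h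
          · rw [inv_smul_eq_iff, tEl_ovPt_zero] at h
            exact hgS u v htM h
      exact Subtype.ext (Subtype.ext (hbe.trans hone))
    have hcross : ∀ (b : B) (a c : F), tEl hF a c ∈ M →
        ((b : M) : Cfsg.Sz F m) • r ≠ ovPt m a c := by
      intro b a c hac h
      obtain ⟨u, v, k, hk, huv, hbe⟩ := hfixB b⁻¹
      have h' : ((b⁻¹ : B) : M).1 • ovPt m a c = r := by
        rw [← h]; simp
      rw [hbe, mul_smul, dEl_ovPt, tEl_ovPt] at h'
      refine hgS _ _ ?_ h'.symm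
      have := M.mul_mem huv (tEl_scale hS hk hac)
      rw [tEl_mul] at this
      have h2 := two_eq_zero hF
      rwa [show u + (k : F) * a = (k : F) * a + u by ring,
        show v + th m (k : F) * k * c + th m u * ((k : F) * a) =
          th m (k : F) * k * c + th m u * ((k : F) * a) + v by ring] at this
    have hφ : Function.Injective φ := by
      rintro (_ | (⟨⟨a, c⟩, hac⟩ | b)) (_ | (⟨⟨a', c'⟩, hac'⟩ | b')) h <;>
        replace h := congrArg Subtype.val h <;> simp only [φ] at h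
      · rfl
      · exact absurd h.symm (ovPt_ne_infty _ _)
      · rw [eq_comm, ← eq_inv_smul_iff] at h
        exact absurd (h.trans (inv_smul_eq_iff.mpr (b'.2).symm)) hgi
      · exact absurd h (ovPt_ne_infty _ _)
      · obtain ⟨rfl, rfl⟩ := ovPt_inj h; rfl
      · exact absurd h.symm (hcross b' a c hac)
      · rw [← eq_inv_smul_iff] at h
        exact absurd (h.trans (inv_smul_eq_iff.mpr (b.2).symm)) hgi
      · exact absurd h (hcross b a' c' hac')
      · have : b'⁻¹ * b = 1 := hbr _ (by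
          rw [Subgroup.coe_mul, Subgroup.coe_mul, mul_smul, h]
          simp)
        rw [inv_mul_eq_one] at this
        rw [this]
    have hle := Nat.card_le_card_of_injective φ hφ
    rw [Finite.card_option, Nat.card_sum, hstab,
      Nat.card_eq_fintype_card (α := {p : F × F // tEl hF p.1 p.2 ∈ M}), Fintype.card_subtype,
      ← hSdef, Nat.card_eq_fintype_card (α := P), Fintype.card_coe] at hle
    rw [hLe]
    linarith
  have hY : (e : ℚ) * ((e : ℚ) - 1) - ((e : ℚ) - 2) / 2 ≤ Y := by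
    have h1 : ((P.card * L * (P.card * L) : ℕ) : ℚ) ≤
        ((P.card * (L * L) + ∑ U ∈ 𝒯, (w U - 1) * w U : ℕ) : ℚ) := by exact_mod_cast E2
    simp only [Nat.cast_add, Nat.cast_sum] at h1
    rw [← Finset.sum_sdiff (hOsub _ hd𝒯), ← hRdef, hT₀] at h1
    push_cast at h1
    rw [hLq] at h1
    have h2 : (∑ V ∈ R, (((w V - 1) * w V : ℕ) : ℚ)) = gQ * Y := by
      rw [hYdef, mul_div_cancel₀ _ hgpos.ne']
    push_cast at h2
    rw [h2, hgQ] at h1
    have hb : (S.card : ℚ) * e + 1 ≤ P.card := by exact_mod_cast hbig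
    have he' : (8 : ℚ) ≤ (e : ℚ) := by exact_mod_cast he8
    have hS0 : (0 : ℚ) < (S.card : ℚ) := by exact_mod_cast (by omega : 0 < S.card)
    have hP0 : (0 : ℚ) < (P.card : ℚ) := by exact_mod_cast (by omega : 0 < P.card)
    have h3 : ((P.card : ℚ) - 1) * ((e : ℚ) - 1) ≤
        (S.card : ℚ) * (Y + ((e : ℚ) - 1 - 1) / 2) := by
      refine le_of_mul_le_mul_left ?_ (mul_pos hP0 (show (0 : ℚ) < (e : ℚ) - 1 by linarith))
      linarith
    have h4 : (S.card : ℚ) * e * ((e : ℚ) - 1) ≤ ((P.card : ℚ) - 1) * ((e : ℚ) - 1) :=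
      mul_le_mul_of_nonneg_right (by linarith) (by linarith)
    have h5 : (e : ℚ) * ((e : ℚ) - 1) ≤ Y + ((e : ℚ) - 1 - 1) / 2 :=
      le_of_mul_le_mul_left (by linarith) hS0
    linarith
  rcases R.eq_empty_or_nonempty with he | ⟨U₁, hU₁⟩
  · rw [hXdef, he, Finset.sum_empty, zero_div] at hX
    linarith
  have hU₁' : U₁ ∈ 𝒯 := (Finset.mem_sdiff.mp hU₁).1
  obtain ⟨n₁, hn₁, -, -, hs₁, ht₁⟩ := horbit U₁ hU₁'
  obtain ⟨hcl₂, hsum₁⟩ := hsplit R Finset.sdiff_subset hRcl U₁ hU₁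
  have hX₁ := hsum₁ (fun V => ((w V - 1 : ℕ) : ℚ))
  have hY₁ := hsum₁ (fun V => (((w V - 1) * w V : ℕ) : ℚ))
  rw [← hXdef, hone U₁ hU₁' n₁ hs₁] at hX₁
  rw [← hYdef, ht₁, mul_div_cancel_left₀ _ hgpos.ne'] at hY₁
  obtain ⟨b11, b12, b13, b14⟩ := term_bounds (hbound U₁ hU₁').1 hn₁
  rcases (R \ O U₁).eq_empty_or_nonempty with he | ⟨U₂, hU₂⟩
  · rw [he, Finset.sum_empty, zero_div, zero_add] at hX₁
    rcases hn₁ with h | h | h
    · have := b13 h; linarith
    · subst h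
      have := single_class he8 ((show 2 ∣ 4 by norm_num).trans he4) hsle hN2
        (by have := (hbound U₁ hU₁').1; omega) (hbound U₁ hU₁').2.1
        (by rw [← hgQ]; push_cast at hX₁ ⊢; linarith)
      apply (hbound U₁ hU₁').2.2
      rw [this]
      obtain ⟨i, hi⟩ := hfo
      rw [hedef, hi, pow_succ, pow_mul]
      have h4 : (2 ^ 2) ^ i % 3 = 1 := by rw [Nat.pow_mod]; norm_num
      omega
    · have := b14 h; linarith
  have hsubR₂ : R \ O U₁ ⊆ 𝒯 := Finset.sdiff_subset.trans Finset.sdiff_subset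
  obtain ⟨n₂, hn₂, -, -, hs₂, ht₂⟩ := horbit U₂ (hsubR₂ hU₂)
  obtain ⟨hcl₃, hsum₂⟩ := hsplit (R \ O U₁) hsubR₂ hcl₂ U₂ hU₂
  have hX₂ := hsum₂ (fun V => ((w V - 1 : ℕ) : ℚ))
  have hY₂ := hsum₂ (fun V => (((w V - 1) * w V : ℕ) : ℚ))
  rw [hone U₂ (hsubR₂ hU₂) n₂ hs₂] at hX₂
  rw [ht₂, mul_div_cancel_left₀ _ hgpos.ne'] at hY₂
  obtain ⟨b21, b22, b23, b24⟩ := term_bounds (hbound U₂ (hsubR₂ hU₂)).1 hn₂
  rcases ((R \ O U₁) \ O U₂).eq_empty_or_nonempty with he | ⟨U₃, hU₃⟩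
  · rw [he, Finset.sum_empty, zero_div, zero_add] at hX₂ hY₂
    have h1 : n₁ = 4 := by
      by_contra h
      have := b12 (by omega)
      linarith
    have h2 : n₂ = 4 := by
      by_contra h
      have := b22 (by omega)
      linarith
    subst h1 h2
    push_cast at hX₁ hX₂ hY₁ hY₂
    rcases le_total (w U₁) (w U₂) with hle | hle
    · exact two_classes he8 he4 hsle hN2 (by have := (hbound U₁ hU₁').1; omega) hle
        (hbound U₁ hU₁').2.1 (by rw [← hgQ]; linarith) (by linarith)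
    · exact two_classes he8 he4 hsle hN2 (by have := (hbound U₂ (hsubR₂ hU₂)).1; omega) hle
        (hbound U₂ (hsubR₂ hU₂)).2.1 (by rw [← hgQ]; linarith) (by linarith)
  have hU₃' : U₃ ∈ 𝒯 := hsubR₂ (Finset.mem_sdiff.mp hU₃).1
  obtain ⟨n₃, hn₃, -, -, hs₃, -⟩ := horbit U₃ hU₃'
  have hX₃ := (hsplit ((R \ O U₁) \ O U₂) (Finset.sdiff_subset.trans hsubR₂) hcl₃ U₃ hU₃).2
    (fun V => ((w V - 1 : ℕ) : ℚ))
  rw [hone U₃ hU₃' n₃ hs₃] at hX₃
  have b31 := (term_bounds (hbound U₃ hU₃').1 hn₃).1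
  have := hnn (((R \ O U₁) \ O U₂) \ O U₃)
  linarith

end H63.SzSub
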