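import Cfsg.Agent.H63.SzSubBasic

/-!
The point stabiliser of a normalised subgroup of a Suzuki group is defined over a subfield.
-/

set_option autoImplicit false

namespace H63.SzSub

open H57
open scoped Pointwise

variable {F : Type*} [Field F] [Fintype F] {m : ℕ}

/-- A normalised subgroup: it moves every point, contains `T(0,1)`, has a non-trivial torus part
fixing `∞`, and this torus part is diagonal. -/
structure Std (hF : Fintype.card F = 2 ^ (2 * m + 1)) (M : Subgroup (Cfsg.Sz F m)) : Prop where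
  moves : Moves M
  one_mem : tEl hF 0 1 ∈ M
  big : lSub hF M ≠ ⊥
  diag : ∀ k ∈ lSub hF M, dEl hF k ∈ M

/-- `x` lies in the subfield with `2 ^ f` elements. -/
def InK (f : ℕ) (x : F) : Prop := x ^ 2 ^ f = x

theorem inK_zero (f : ℕ) : InK f (0 : F) := zero_pow (pow_ne_zero _ two_ne_zero)

theorem inK_one (f : ℕ) : InK f (1 : F) := one_pow _

theorem inK_mul {f : ℕ} {x y : F} (hx : InK f x) (hy : InK f y) : InK f (x * y) := by
  rw [InK, mul_pow, hx, hy]

theorem inK_inv {f : ℕ} {x : F} (hx : InK f x) : InK f x⁻¹ := by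
  rw [InK, inv_pow, hx]

theorem inK_div {f : ℕ} {x y : F} (hx : InK f x) (hy : InK f y) : InK f (x / y) := by
  rw [InK, div_pow, hx, hy]

theorem inK_add (hF : Fintype.card F = 2 ^ (2 * m + 1)) {f : ℕ} {x y : F} (hx : InK f x)
    (hy : InK f y) : InK f (x + y) := by
  haveI := charTwo hF
  haveI := Fact.mk Nat.prime_two
  rw [InK, add_pow_char_pow x y (p := 2) (n := f), hx, hy]

theorem inK_th {f : ℕ} {x : F} (hx : InK f x) : InK f (th m x) := by
  rw [InK, ← th_pow, hx]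

theorem inK_lam_iff (hF : Fintype.card F = 2 ^ (2 * m + 1)) {f : ℕ} {x : F} :
    InK f (th m x * x) ↔ InK f x := by
  refine ⟨fun h => ?_, fun h => inK_mul (inK_th h) h⟩
  refine (th_mul_self_bij hF).1 ?_
  show th m (x ^ 2 ^ f) * x ^ 2 ^ f = th m x * x
  rw [th_pow, ← mul_pow]
  exact h

theorem exists_degree (hm : 1 ≤ m) (hF : Fintype.card F = 2 ^ (2 * m + 1))
    {M : Subgroup (Cfsg.Sz F m)} (hS : Std hF M) :
    ∃ f : ℕ, 3 ≤ f ∧ Odd f ∧ f ∣ 2 * m + 1 ∧ Nat.card (zAdd hF M) = 2 ^ f ∧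
      (∀ x, x ∈ zAdd hF M ↔ InK f x) ∧ (∀ k : Fˣ, k ∈ lSub hF M ↔ InK f (k : F)) := by
  classical
  have hd := AddSubgroup.card_addSubgroup_dvd_card (zAdd hF M)
  rw [Nat.card_eq_fintype_card (α := F), hF] at hd
  obtain ⟨f, -, hf⟩ := (Nat.dvd_prime_pow Nat.prime_two).mp hd
  have hcz := card_zAdd hm hF hS.moves hS.one_mem
  rw [hf] at hcz
  have hL : 2 ≤ Nat.card (lSub hF M) := (Subgroup.one_lt_card_iff_ne_bot _).mpr hS.big
  have hpow : ∀ k ∈ lSub hF M, InK f ((k : Fˣ) : F) := by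
    intro k hk
    have h1 : k ^ Nat.card (lSub hF M) = 1 :=
      congrArg Subtype.val (pow_card_eq_one' (x := (⟨k, hk⟩ : lSub hF M)))
    rw [InK, hcz, pow_succ, ← Units.val_pow_eq_pow_val, h1, Units.val_one, one_mul]
  have hzK : ∀ x ∈ zAdd hF M, InK f x := by
    intro x hx
    by_cases h0 : x = 0
    · rw [h0]; exact inK_zero f
    · obtain ⟨k, hk, rfl⟩ := zAdd_cases hm hF hS.moves hS.one_mem hx h0
      exact (inK_lam_iff hF).mpr (hpow k hk)
  have hKz : ∀ x, InK f x → x ∈ zAdd hF M := by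
    intro x hx
    have hsub : Finset.univ.filter (fun y : F => y ∈ zAdd hF M) ⊆
        Finset.univ.filter (fun y : F => InK f y) := fun y hy => by
      simp only [Finset.mem_filter, Finset.mem_univ, true_and] at hy ⊢
      exact hzK y hy
    have hle : (Finset.univ.filter (fun y : F => InK f y)).card ≤ 2 ^ f := by
      have hne : (Polynomial.X ^ 2 ^ f - Polynomial.X : Polynomial F) ≠ 0 :=
        FiniteField.X_pow_card_sub_X_ne_zero F (show 1 < 2 ^ f by omega)
      refine (Finset.card_le_card (t := (Polynomial.X ^ 2 ^ f - Polynomial.X :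
        Polynomial F).roots.toFinset) fun y hy => ?_).trans ?_
      · simp only [Finset.mem_filter, Finset.mem_univ, true_and] at hy
        rw [Multiset.mem_toFinset, Polynomial.mem_roots hne]
        simp [Polynomial.IsRoot.def, sub_eq_zero, show y ^ 2 ^ f = y from hy]
      · refine (Multiset.toFinset_card_le _).trans ((Polynomial.card_roots' _).trans ?_)
        rw [FiniteField.X_pow_card_sub_X_natDegree_eq F (show 1 < 2 ^ f by omega)]
    have hcard : (Finset.univ.filter (fun y : F => y ∈ zAdd hF M)).card = 2 ^ f := by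
      rw [← hf, Nat.card_eq_fintype_card, Fintype.card_subtype]
    have heq := Finset.eq_of_subset_of_card_le hsub (hle.trans hcard.ge)
    have : x ∈ Finset.univ.filter (fun y : F => y ∈ zAdd hF M) := by
      rw [heq]; simpa using hx
    simpa using this
  have hdvd : Nat.card (lSub hF M) ∣ 2 ^ (2 * m + 1) - 1 := by
    have := Subgroup.card_subgroup_dvd_card (lSub hF M)
    rwa [Nat.card_units, Nat.card_eq_fintype_card (α := F), hF] at this
  have hfd : f ∣ 2 * m + 1 := by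
    have h1 : 2 ^ f - 1 = Nat.card (lSub hF M) := by omega
    have h2 := Nat.pow_sub_one_gcd_pow_sub_one 2 f (2 * m + 1)
    rw [h1, Nat.gcd_eq_left hdvd, ← h1] at h2
    have h3 : 2 ^ f = 2 ^ f.gcd (2 * m + 1) := by
      have := Nat.one_le_two_pow (n := f)
      have := Nat.one_le_two_pow (n := f.gcd (2 * m + 1))
      omega
    have h4 := Nat.pow_right_injective le_rfl h3
    rw [h4]
    exact Nat.gcd_dvd_right _ _
  have hodd : Odd f := Odd.of_dvd_nat ⟨m, rfl⟩ hfd
  have hf3 : 3 ≤ f := by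
    by_contra hlt
    obtain ⟨i, hi⟩ := hodd
    have : f = 1 := by omega
    rw [this] at hcz
    omega
  refine ⟨f, hf3, hodd, hfd, hf, fun x => ⟨hzK x, hKz x⟩, fun k => ⟨hpow k, fun hk => ?_⟩⟩
  have h0 : th m (k : F) * k ≠ 0 := mul_ne_zero (mt th_eq_zero.mp k.ne_zero) k.ne_zero
  obtain ⟨l, hl, hle⟩ := zAdd_cases hm hF hS.moves hS.one_mem
    (hKz _ ((inK_lam_iff hF).mpr hk)) h0
  rwa [← Units.ext ((th_mul_self_bij hF).1 hle)]

theorem exists_unit_ne_one {M : Subgroup (Cfsg.Sz F m)} {hF : Fintype.card F = 2 ^ (2 * m + 1)}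
    (hS : Std hF M) : ∃ k ∈ lSub hF M, k ≠ 1 := by
  obtain ⟨⟨k, hk⟩, hk1⟩ := (Subgroup.ne_bot_iff_exists_ne_one).mp hS.big
  exact ⟨k, hk, fun h => hk1 (Subtype.ext h)⟩

theorem tEl_scale {M : Subgroup (Cfsg.Sz F m)} {hF : Fintype.card F = 2 ^ (2 * m + 1)}
    (hS : Std hF M) {k : Fˣ} (hk : k ∈ lSub hF M) {a b : F} (h : tEl hF a b ∈ M) :
    tEl hF ((k : F) * a) (th m (k : F) * k * b) ∈ M := by
  have := M.mul_mem (M.mul_mem (hS.diag k hk) h) (M.inv_mem (hS.diag k hk))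
  rwa [dEl_tEl, mul_inv_cancel_right] at this

/-- The unipotent part is defined over the subfield. -/
theorem tEl_inK (hm : 1 ≤ m) (hF : Fintype.card F = 2 ^ (2 * m + 1))
    {M : Subgroup (Cfsg.Sz F m)} (hS : Std hF M) {f : ℕ}
    (hz : ∀ x, x ∈ zAdd hF M ↔ InK f x) (hl : ∀ k : Fˣ, k ∈ lSub hF M ↔ InK f (k : F))
    {a b : F} (h : tEl hF a b ∈ M) : InK f a ∧ InK f b := by
  have h2 := two_eq_zero hF
  have ha : InK f a := by
    refine (inK_lam_iff hF).mp ((hz _).mp ?_)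
    have := M.pow_mem h 2
    rwa [tEl_sq] at this
  refine ⟨ha, ?_⟩
  by_cases ha0 : a = 0
  · subst ha0; exact (hz b).mp h
  have hdiff : ∀ x y z : F, tEl hF x y ∈ M → tEl hF x z ∈ M → InK f (y + z) := by
    intro x y z hy hz'
    have := M.mul_mem hy (M.inv_mem hz')
    rw [tEl_inv, tEl_mul, add_self_zero hF] at this
    refine (hz _).mp ?_
    show tEl hF 0 (y + z) ∈ M
    rwa [show y + z = y + (z + th m x * x) + th m x * x by linear_combination (-(th m x * x)) * h2]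
  set u := Units.mk0 a ha0
  have hu : u⁻¹ ∈ lSub hF M := Subgroup.inv_mem _ ((hl u).mpr ha)
  set b₁ := th m ((u⁻¹ : Fˣ) : F) * ((u⁻¹ : Fˣ) : F) * b with hb1
  have hone : tEl hF 1 b₁ ∈ M := by
    have := tEl_scale hS hu h
    rwa [show ((u⁻¹ : Fˣ) : F) * a = 1 by simp [u, ha0]] at this
  obtain ⟨k, hk, hk1⟩ := exists_unit_ne_one hS
  have hk' : (k : F) ≠ 1 := fun h => hk1 (Units.ext h)
  have hkK := (hl k).mp hk
  have hks : (k : F) + 1 ≠ 0 := fun h => hk' ((add_eq_zero_iff hF).mp h)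
  have hl' : Units.mk0 _ hks ∈ lSub hF M := (hl _).mpr (inK_add hF hkK (inK_one f))
  have hA := tEl_scale hS hl' hone
  have hB := M.mul_mem (tEl_scale hS hk hone) hone
  rw [mul_one, Units.val_mk0] at hA
  rw [mul_one, tEl_mul, mul_one] at hB
  have hK := hdiff _ _ _ hB hA
  have hne : th m (k : F) + k ≠ 0 := by
    intro h
    have he : th m (k : F) = k := (add_eq_zero_iff hF).mp h
    have : (k : F) ^ 2 = k := by rw [← th_th hF (k : F), he, he]
    exact hk' (mul_left_cancel₀ k.ne_zero (by rw [mul_one, ← sq, this]))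
  have hb₁ : InK f b₁ := by
    have hK' : InK f (b₁ * (th m (k : F) + k)) := by
      have hK2 := inK_add hF hK (inK_th (m := m) hkK)
      rw [th_add hF, th_one] at hK2
      rwa [show b₁ * (th m (k : F) + k) =
        th m (k : F) * k * b₁ + b₁ + th m (k : F) + (th m (k : F) + 1) * ((k : F) + 1) * b₁ +
          th m (k : F) by
        linear_combination (-(th m (k : F) * k * b₁ + b₁ + th m (k : F))) * h2]
    have := inK_div hK' (inK_add hF (inK_th (m := m) hkK) hkK)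
    rwa [mul_div_cancel_right₀ _ hne] at this
  have : b = th m a * a * b₁ := by
    rw [hb1, Units.val_inv_eq_inv_val, Units.val_mk0, th_inv]
    have : th m a ≠ 0 := mt th_eq_zero.mp ha0
    field_simp
  rw [this]
  exact inK_mul (inK_mul (inK_th ha) ha) hb₁

theorem tEl_full (hF : Fintype.card F = 2 ^ (2 * m + 1))
    {M : Subgroup (Cfsg.Sz F m)} (hS : Std hF M) {f : ℕ}
    (hz : ∀ x, x ∈ zAdd hF M ↔ InK f x) (hl : ∀ k : Fˣ, k ∈ lSub hF M ↔ InK f (k : F))
    {a b : F} (ha : InK f a) (hb : InK f b) {a₀ b₀ : F} (h0 : tEl hF a₀ b₀ ∈ M)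
    (hh : a₀ ≠ 0 ∧ InK f a₀ ∧ InK f b₀) :
    tEl hF a b ∈ M := by
  obtain ⟨ha0, ha0K, hb0K⟩ := hh
  by_cases haz : a = 0
  · subst haz; exact (hz b).mpr hb
  have hu : a / a₀ ≠ 0 := div_ne_zero haz ha0
  have hmem : Units.mk0 _ hu ∈ lSub hF M := (hl _).mpr (inK_div ha ha0K)
  have h1 := tEl_scale hS hmem h0
  rw [Units.val_mk0, div_mul_cancel₀ _ ha0] at h1
  set c := th m (a / a₀) * (a / a₀) * b₀
  have hc : InK f (b + c) :=
    inK_add hF hb (inK_mul (inK_mul (inK_th (inK_div ha ha0K)) (inK_div ha ha0K)) hb0K)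
  have := M.mul_mem h1 (show tEl hF 0 (b + c) ∈ M from (hz _).mpr hc)
  rw [tEl_mul, add_zero, mul_zero, add_zero] at this
  rwa [show c + (b + c) = b by linear_combination c * two_eq_zero hF] at this

theorem card_stab_std (hm : 1 ≤ m) (hF : Fintype.card F = 2 ^ (2 * m + 1))
    {M : Subgroup (Cfsg.Sz F m)} (hS : Std hF M) :
    Nat.card (MulAction.stabilizer M (Cfsg.suzukiPointInfinity F)) =
      Nat.card {p : F × F // tEl hF p.1 p.2 ∈ M} * Nat.card (lSub hF M) := by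
  let φ : {p : F × F // tEl hF p.1 p.2 ∈ M} × lSub hF M →
      MulAction.stabilizer M (Cfsg.suzukiPointInfinity F) := fun x =>
    ⟨⟨tEl hF x.1.1.1 x.1.1.2 * dEl hF (x.2 : Fˣ), M.mul_mem x.1.2 (hS.diag _ x.2.2)⟩,
      td_fix hF _ _ _⟩
  have hφ : Function.Bijective φ := by
    constructor
    · rintro ⟨⟨⟨a, b⟩, h⟩, ⟨k, hk⟩⟩ ⟨⟨⟨c, d⟩, h'⟩, ⟨l, hl⟩⟩ he
      obtain ⟨rfl, rfl, rfl⟩ := td_inj hF (congrArg (fun y => ((y : M) : Cfsg.Sz F m))
        (congrArg Subtype.val he))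
      rfl
    · rintro ⟨⟨g, hg⟩, hfix⟩
      obtain ⟨a, b, k, rfl⟩ := fix_infty hm hF g hfix
      have hk : k ∈ lSub hF M := ⟨a, b, hg⟩
      have ht : tEl hF a b ∈ M := (M.mul_mem_cancel_right (hS.diag k hk)).mp hg
      exact ⟨(⟨(a, b), ht⟩, ⟨k, hk⟩), rfl⟩
  rw [← Nat.card_eq_of_bijective φ hφ, Nat.card_prod]

end H63.SzSub
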